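/-
The induction of `ThompsonInduction` inside a class of groups closed under subgroups and quotients.
Reduced groups do not involve `Qd(p)`.
-/
import Cfsg.Agent.Lib.PLocal.ThompsonFunctor
import Cfsg.Agent.Lib.PLocal.QdSection
import Cfsg.Agent.Lib.ElementFusion.Control

set_option autoImplicit false
set_option linter.unusedSectionVars false

namespace Cfsg.Agent.Lib.PLocal.ThompsonAmb

open Subgroup Cfsg
open scoped commutatorElement
open Cfsg.Agent.Lib.PLocal.ZJ Cfsg.Agent.Lib.PLocal.Stability Cfsg.Agent.Lib.Core.Basic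
  Cfsg.Agent.Lib.Transfer.Basic Cfsg.Agent.Lib.Transfer.Frobenius Cfsg.Agent.Lib.Core.SylowFacts
  Cfsg.Agent.Lib.PLocal.ThompsonReduction Cfsg.Agent.Lib.PLocal.ThompsonInduction
  Cfsg.Agent.Lib.PLocal.ThompsonFunctor Cfsg.Agent.Lib.PLocal.QdSection

universe u

variable {p : ℕ} [Fact p.Prime]

variable {Hyp : ∀ (X : Type u) [Group X], Subgroup X → Prop}

/-- The main induction, inside a class of groups closed under subgroups and quotients. -/
theorem reduction_amb (hH : ThompsonHyp p Hyp) (Amb : ∀ (X : Type u) [Group X], Prop)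
    (hsub : ∀ (X : Type u) [Group X] (H : Subgroup X), Amb X → Amb H)
    (hquot : ∀ (X : Type u) [Group X] (N : Subgroup X) [N.Normal], Amb X → Amb (X ⧸ N))
    (hred : ∀ (G : Type u) [Group G] [Finite G] (P : Sylow p G) (Q₀ : Subgroup G),
      Amb G → Hyp G P → Reduced p G P Q₀ → False) :
    ∀ (n : ℕ) (G : Type u) [Group G] [Finite G] (P : Sylow p G), Nat.card G = n → Amb G → Hyp G P →
      HasNormalPComplement p G := by
  classical
  have hp : p.Prime := Fact.out
  intro n
  induction n using Nat.strong_induction_on with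
  | _ n ih =>
    intro G _ _ P hcard hAmb hP
    by_contra hnot
    -- the induction hypothesis in a usable form
    have IH : ∀ (Y : Type u) [Group Y] [Finite Y] (T : Subgroup Y), Amb Y → IsPGroup p T →
        ¬ p ∣ T.index → Hyp Y T → Nat.card Y < n → HasNormalPComplement p Y := by
      intro Y _ _ T hA hT hTi hyp hlt
      exact ih _ hlt Y (hT.toSylow hTi) rfl hA hyp
    have hIH : ∀ Y : Subgroup G, Y ≠ ⊤ → ∀ T : Subgroup Y, IsPGroup p T → ¬ p ∣ T.index →
        Hyp Y T → HasNormalPComplement p Y := by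
      intro Y hY T hT hTi hyp
      refine IH Y T (hsub G Y hAmb) hT hTi hyp ?_
      rw [← hcard]
      have h := Cfsg.Agent.Lib.PGroups.Basic.card_lt_of_lt (lt_top_iff_ne_top.2 hY)
      rwa [Subgroup.card_top] at h
    -- `O_{p'}(G) = 1`
    have hO : pPrimeCore p G = ⊥ := by
      by_contra hKne
      set K : Subgroup G := pPrimeCore p G with hK
      have hKn : K.Normal := inferInstance
      have hKc : (Nat.card K).Coprime p := pPrimeCore_coprime
      have hlt : Nat.card (G ⧸ K) < n := by
        have h1 : Nat.card (G ⧸ K) * Nat.card K = Nat.card G :=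
          Cfsg.Agent.Lib.Coprime.SchurZassenhaus.card_quotient_mul K
        have h2 : 1 < Nat.card K := by
          have h3 : Nat.card K ≠ 1 := fun h => hKne ((Subgroup.eq_bot_iff_card _).2 h)
          have h4 : 0 < Nat.card K := Nat.card_pos
          omega
        have h5 : 0 < Nat.card (G ⧸ K) := Nat.card_pos
        rw [← hcard, ← h1]
        nlinarith
      have hyp := hH.quot K (P : Subgroup G) P.isPGroup' hKc hP
      let Pb : Sylow p (G ⧸ K) := P.mapSurjective (QuotientGroup.mk'_surjective K)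
      have hPb : (Pb : Subgroup (G ⧸ K)) = (P : Subgroup G).map (QuotientGroup.mk' K) :=
        Sylow.coe_mapSurjective _ _
      rw [← hPb] at hyp
      exact hnot (pc_of_quotient K hKc (ih _ hlt (G ⧸ K) Pb rfl (hquot G K hAmb) hyp))
    obtain ⟨U, hUp, hUb, hUn, hmax⟩ := exists_max_local (p := p) hnot
    have hmax' : ∀ V : Subgroup G, IsPGroup p V → V ≠ ⊥ →
        ¬ HasNormalPComplement p (normalizer (V : Set G)) → vv p V ≤ vv p U := by
      intro V h1 h2 h3
      rcases hmax V h1 h2 h3 with h | h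
      · exact h.le
      · exact h.1.le
    obtain ⟨T₀⟩ : Nonempty (Sylow p (normalizer (U : Set G))) := inferInstance
    have hTi := sylow_of_max hH hIH hUp hUb _ rfl hUn hmax' T₀
    let T : Subgroup G := (T₀ : Subgroup (normalizer (U : Set G))).map (normalizer (U : Set G)).subtype
    have hTp : IsPGroup p T := T₀.isPGroup'.map _
    have hTN : T ≤ normalizer (U : Set G) := Subgroup.map_subtype_le _
    let P' : Sylow p G := hTp.toSylow hTi
    obtain ⟨g, hg⟩ := MulAction.exists_smul_eq G P P'
    have hPT : T = (P : Subgroup G).map (MulAut.conj g).toMonoidHom := by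
      have h1 : (P' : Subgroup G) = T := rfl
      rw [← h1, ← hg]
      rfl
    have hypT : Hyp G T := by
      rw [hPT]
      exact hH.conj g _ P.isPGroup' hP
    have hNtop : normalizer (U : Set G) = ⊤ := by
      by_contra hne
      have h1 := hH.inherit _ T hTp hTN hypT
      have hTeq : T.subgroupOf (normalizer (U : Set G)) = T₀ :=
        Subgroup.comap_map_eq_self_of_injective (normalizer (U : Set G)).subtype_injective _
      rw [hTeq] at h1
      exact hUn (hIH _ hne _ T₀.isPGroup' T₀.not_dvd_index h1)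
    have hUnormal : U.Normal := normalizer_eq_top_iff.1 hNtop
    set Q : Subgroup G := pCore p G with hQdef
    have hQp : IsPGroup p Q := pCore_isPGroup
    have hQnormal : Q.Normal := inferInstance
    have hUQ : U ≤ Q := le_pCore hUnormal hUp
    have hQb : Q ≠ ⊥ := by
      intro hb
      apply hUb
      rw [eq_bot_iff, ← hb]
      exact hUQ
    have hvvU : vv p U = (Nat.card G).factorization p := by
      rw [vv, hNtop, Subgroup.card_top]
    have hQtop : normalizer (Q : Set G) = ⊤ := normalizer_eq_top Q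
    have hvvQ : vv p Q = (Nat.card G).factorization p := by
      rw [vv, hQtop, Subgroup.card_top]
    have hQnot : ¬ HasNormalPComplement p (normalizer (Q : Set G)) := by
      rw [hQtop]
      intro h
      exact hnot (hasNormalPComplement_of_mulEquiv Subgroup.topEquiv h)
    have hUcard : Nat.card Q ≤ Nat.card U := by
      rcases hmax Q hQp hQb hQnot with h | h
      · rw [hvvU, hvvQ] at h
        exact absurd h (lt_irrefl _)
      · exact h.2
    -- `G / Q` has a normal `p`-complement
    have hPCbar : HasNormalPComplement p (G ⧸ Q) := by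
      by_contra hnb
      have hcardX : Nat.card (G ⧸ Q) * Nat.card Q = Nat.card G :=
        Cfsg.Agent.Lib.Coprime.SchurZassenhaus.card_quotient_mul Q
      have hQpos : 0 < Nat.card Q := Nat.card_pos
      have hXle : Nat.card (G ⧸ Q) ≤ n := by
        rw [← hcard, ← hcardX]
        exact Nat.le_mul_of_pos_right _ hQpos
      have hIHX : ∀ Y : Subgroup (G ⧸ Q), Y ≠ ⊤ → ∀ T : Subgroup Y, IsPGroup p T → ¬ p ∣ T.index →
          Hyp Y T → HasNormalPComplement p Y := by
        intro Y hY T hT hTi hyp
        refine IH Y T (hsub _ Y (hquot G Q hAmb)) hT hTi hyp ?_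
        have h := Cfsg.Agent.Lib.PGroups.Basic.card_lt_of_lt (lt_top_iff_ne_top.2 hY)
        rw [Subgroup.card_top] at h
        omega
      obtain ⟨U', hU'p, hU'b, hU'n, hU'max⟩ := exists_max_local (p := p) hnb
      have hmax'' : ∀ V : Subgroup (G ⧸ Q), IsPGroup p V → V ≠ ⊥ →
          ¬ HasNormalPComplement p (normalizer (V : Set (G ⧸ Q))) → vv p V ≤ vv p U' := by
        intro V h1 h2 h3
        rcases hU'max V h1 h2 h3 with h | h
        · exact h.le
        · exact h.1.le
      obtain ⟨T₀'⟩ : Nonempty (Sylow p (normalizer (U' : Set (G ⧸ Q)))) := inferInstance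
      have hT'i := sylow_of_max hH hIHX hU'p hU'b _ rfl hU'n hmax'' T₀'
      let f : G →* G ⧸ Q := QuotientGroup.mk' Q
      have hf : Function.Surjective f := QuotientGroup.mk'_surjective Q
      have hf1 : ∀ t : G, f t = 1 ↔ t ∈ Q := fun t => by
        show (QuotientGroup.mk t : G ⧸ Q) = 1 ↔ _
        exact QuotientGroup.eq_one_iff t
      let V : Subgroup G := U'.comap f
      have hker : IsPGroup p f.ker := by
        rw [show f.ker = Q from QuotientGroup.ker_mk' Q]
        exact hQp
      have hVp : IsPGroup p V := hU'p.comap_of_ker_isPGroup f hker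
      have hQV : Q < V := by
        refine lt_of_le_of_ne ?_ ?_
        · intro q hq
          show f q ∈ U'
          rw [(hf1 q).2 hq]
          exact one_mem _
        · intro h
          apply hU'b
          rw [eq_bot_iff]
          intro x hx
          obtain ⟨g', rfl⟩ := hf x
          have : g' ∈ V := hx
          rw [← h] at this
          rw [mem_bot]
          exact (hf1 g').2 this
      have hVb : V ≠ ⊥ := by
        intro hb
        rw [hb] at hQV
        exact not_lt_bot hQV
      let T' : Subgroup (G ⧸ Q) :=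
        (T₀' : Subgroup (normalizer (U' : Set (G ⧸ Q)))).map (normalizer (U' : Set (G ⧸ Q))).subtype
      have hT'p : IsPGroup p T' := T₀'.isPGroup'.map _
      have hT'N : T' ≤ normalizer (U' : Set (G ⧸ Q)) := Subgroup.map_subtype_le _
      let Tc : Subgroup G := T'.comap f
      have hTcp : IsPGroup p Tc := hT'p.comap_of_ker_isPGroup f hker
      have hTci : ¬ p ∣ Tc.index := by
        rw [show Tc.index = T'.index from Subgroup.index_comap_of_surjective _ hf]
        exact hT'i
      have hmemN : ∀ g' : G, f g' ∈ normalizer (U' : Set (G ⧸ Q)) →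
          g' ∈ normalizer (V : Set G) := by
        intro g' hg'
        rw [mem_normalizer_iff]
        intro x
        have e : f (g' * x * g'⁻¹) = f g' * f x * (f g')⁻¹ := by simp
        show f x ∈ U' ↔ f (g' * x * g'⁻¹) ∈ U'
        rw [e]
        exact (mem_normalizer_iff.1 hg') (f x)
      have hmemN' : ∀ g' : G, g' ∈ normalizer (V : Set G) →
          f g' ∈ normalizer (U' : Set (G ⧸ Q)) := by
        intro g' hg'
        rw [mem_normalizer_iff]
        intro x
        obtain ⟨y, rfl⟩ := hf x
        have e : f g' * f y * (f g')⁻¹ = f (g' * y * g'⁻¹) := by simp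
        rw [e]
        exact (mem_normalizer_iff.1 hg') y
      have hTcN : Tc ≤ normalizer (V : Set G) := fun t ht => hmemN t (hT'N ht)
      have hVN : ¬ HasNormalPComplement p (normalizer (V : Set G)) := by
        intro h
        apply hU'n
        let φ : normalizer (V : Set G) →* normalizer (U' : Set (G ⧸ Q)) :=
          (f.comp (normalizer (V : Set G)).subtype).codRestrict _ (fun x => hmemN' x x.2)
        refine hasNormalPComplement_of_surjective φ ?_ h
        rintro ⟨x, hx⟩
        obtain ⟨y, rfl⟩ := hf x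
        exact ⟨⟨y, hmemN y hx⟩, rfl⟩
      have hvvV : vv p V = (Nat.card G).factorization p := by
        apply le_antisymm
        · have h1 : Nat.card (normalizer (V : Set G)) ∣ Nat.card G := Subgroup.card_subgroup_dvd_card _
          exact (Nat.factorization_le_iff_dvd Nat.card_pos.ne' Nat.card_pos.ne').2 h1 p
        · have h1 : Nat.card Tc ∣ Nat.card (normalizer (V : Set G)) := Subgroup.card_dvd_of_le hTcN
          have h2 : Nat.card Tc = p ^ (Nat.card G).factorization p :=
            (hTcp.toSylow hTci).card_eq_multiplicity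
          rw [h2, hp.pow_dvd_iff_le_factorization Nat.card_pos.ne'] at h1
          exact h1
      rcases hmax V hVp hVb hVN with h | h
      · rw [hvvU, hvvV] at h
        exact absurd h (lt_irrefl _)
      · have h2 := Cfsg.Agent.Lib.PGroups.Basic.card_lt_of_lt hQV
        have h3 : Nat.card U ≤ Nat.card Q := Subgroup.card_le_of_le hUQ
        omega
    have hmin : ∀ Y : Subgroup G, Y ≠ ⊤ → (P : Subgroup G) ≤ Y → HasNormalPComplement p Y := by
      intro Y hY hPY
      refine hIH Y hY _ P.isPGroup'.comap_subtype ?_ (hH.inherit Y P P.isPGroup' hPY hP)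
      intro hd
      apply P.not_dvd_index
      exact hd.trans ⟨Y.index, (Subgroup.relIndex_mul_index hPY).symm⟩
    obtain ⟨Q₀, hr⟩ := exists_reduced hO hnot hPCbar P hmin
    exact hred G P Q₀ hAmb hP hr


section Reduced

open Cfsg.Agent.Lib.PReduced.Qd Cfsg.Agent.Lib.QuadAct.SL2p Cfsg.Agent.Lib.QuadAct.SL2Three

local notation "SLp" => Matrix.SpecialLinearGroup (Fin 2) (ZMod p)

theorem W_conj_ne (hp : p ≠ 2) :
    (W : SLp) * ((U 1 : SLp) * W * (U 1 : SLp)⁻¹) ≠ ((U 1 : SLp) * W * (U 1 : SLp)⁻¹) * W := by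
  intro h
  have h1 := congrArg (fun z : SLp => z.1 0 0) h
  rw [U_inv] at h1
  simp [Cfsg.Agent.Lib.QuadAct.SL2Three.coe_mul_apply] at h1

theorem W_pow_four : (W : SLp) ^ 4 = 1 := by
  rw [show 4 = 2 * 2 from rfl, pow_mul]
  exact Cfsg.Agent.Lib.PLocal.QdSection.W_sq_sq

/-- Groups of the reduced shape do not involve `Qd(p)`. -/
theorem not_involves_of_pqp (hp : p ≠ 2) {G : Type u} [Group G] [Finite G] (U₀ M : Subgroup G)
    [U₀.Normal] [M.Normal] (hU₀ : IsPGroup p U₀) (hcomm : ∀ x ∈ M, ∀ y ∈ M, ⁅x, y⁆ ∈ U₀)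
    (hquot : ∀ g : G, ∃ k, g ^ (p ^ k) ∈ M) : ¬ Cfsg.Involves (QdG (ZMod p)) G := by
  intro hinv
  obtain ⟨K, θ, hθ⟩ := involves_exists_surj hinv
  let ψ : K →* SLp := lin.comp θ
  have hψ : Function.Surjective ψ := lin_surjective.comp hθ
  -- the image of `U₀` is trivial
  have hU : ∀ x ∈ K, ∀ hx : x ∈ K, x ∈ U₀ → ψ ⟨x, hx⟩ = 1 := by
    intro x _ hx hxU
    have hn : ((U₀.subgroupOf K).map ψ).Normal := Subgroup.Normal.map inferInstance ψ hψ
    have hpg : IsPGroup p ((U₀.subgroupOf K).map ψ) :=
      (hU₀.comap_subtype : IsPGroup p (U₀.subgroupOf K)).map ψ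
    have hle := le_pCore hn hpg
    rw [pCore_SL2_eq_bot] at hle
    exact hle ⟨⟨x, hx⟩, hxU, rfl⟩
  let B : Subgroup SLp := (M.subgroupOf K).map ψ
  have hBc : ∀ a ∈ B, ∀ b ∈ B, a * b = b * a := by
    rintro _ ⟨x, hx, rfl⟩ _ ⟨y, hy, rfl⟩
    have h1 : ⁅x, y⁆ ∈ U₀.subgroupOf K := by
      rw [Subgroup.mem_subgroupOf]
      exact hcomm _ hx _ hy
    have h2 := hU _ ⁅x, y⁆.2 ⁅x, y⁆.2 h1
    have h3 : ψ ⁅x, y⁆ = 1 := h2
    rw [map_commutatorElement, commutatorElement_eq_one_iff_mul_comm] at h3
    exact h3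
  have hBpow : ∀ X : SLp, ∃ n, X ^ (p ^ n) ∈ B := by
    intro X
    obtain ⟨k, rfl⟩ := hψ X
    obtain ⟨n, hn⟩ := hquot k
    exact ⟨n, k ^ p ^ n, hn, map_pow _ _ _⟩
  have hp4 : ∀ X : SLp, X ^ 4 = 1 → X ∈ B := by
    intro X hX
    obtain ⟨n, hn⟩ := hBpow X
    have hco : Nat.Coprime (orderOf X) (p ^ n) := by
      have h1 : orderOf X ∣ 4 := orderOf_dvd_of_pow_eq_one hX
      have h2 : Nat.Coprime 4 (p ^ n) := by
        apply Nat.Coprime.pow_right
        have h3 : Nat.Coprime 2 p := (Nat.coprime_primes Nat.prime_two (Fact.out)).2 (Ne.symm hp)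
        exact Nat.Coprime.pow_left 2 h3
      exact Nat.Coprime.coprime_dvd_left h1 h2
    obtain ⟨m, hm⟩ := exists_pow_eq_self_of_coprime hco.symm
    rw [← hm]
    exact B.pow_mem hn m
  apply W_conj_ne (p := p) hp
  apply hBc
  · exact hp4 _ W_pow_four
  · apply hp4
    rw [conj_pow, W_pow_four]
    simp

/-- Reduced groups do not involve `Qd(p)`. -/
theorem _root_.Cfsg.Agent.Lib.PLocal.ThompsonReduction.Reduced.not_involves {G : Type u} [Group G]
    [Finite G] {P : Sylow p G} {Q₀ : Subgroup G} (hr : Reduced p G P Q₀) (hp : p ≠ 2) :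
    ¬ Cfsg.Involves (QdG (ZMod p)) G := by
  haveI := hr.normal
  refine not_involves_of_pqp hp (pCore p G) (pCore p G ⊔ Q₀) pCore_isPGroup ?_ hr.quot
  intro x hx y hy
  obtain ⟨u, hu, q, hq, rfl⟩ := mem_sup_of_normal_left.1 hx
  obtain ⟨u', hu', q', hq', rfl⟩ := mem_sup_of_normal_left.1 hy
  have h1 := hr.comm q hq q' hq'
  rw [← QuotientGroup.eq_one_iff]
  have h2 : ((q : G) : G ⧸ pCore p G) * (q' : G) = ((q' : G) : G ⧸ pCore p G) * (q : G) := by
    rw [← QuotientGroup.mk_mul, ← QuotientGroup.mk_mul, h1]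
  have h3 : ((u : G) : G ⧸ pCore p G) = 1 := (QuotientGroup.eq_one_iff u).2 hu
  have h4 : ((u' : G) : G ⧸ pCore p G) = 1 := (QuotientGroup.eq_one_iff u').2 hu'
  rw [commutatorElement_def]
  simp only [QuotientGroup.mk_mul, QuotientGroup.mk_inv, h3, h4, one_mul, mul_inv_rev, inv_one,
    mul_one]
  rw [h2]
  group

end Reduced

/-- Normal `p`-complement inherited by a fusion-controlling subgroup. -/
theorem conj_in_sylow_of_pc {X : Type u} [Group X] [Finite X] (H : Subgroup X)
    (hH : HasNormalPComplement p H) (T : Sylow p X) (hTH : (T : Subgroup X) ≤ H) {x y n : X}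
    (hx : x ∈ (T : Subgroup X)) (hy : y ∈ (T : Subgroup X)) (hn : n ∈ H)
    (hnx : n * x * n⁻¹ = y) : ∃ u ∈ (T : Subgroup X), u * x * u⁻¹ = y := by
  classical
  obtain ⟨N, hN, h1, h2⟩ := hasNormalPComplement_iff_exists.1 hH
  let T' : Sylow p H := (T.isPGroup'.comap_subtype : IsPGroup p ((T : Subgroup X).subgroupOf H)).toSylow
    (by
      intro hd
      apply T.not_dvd_index
      refine hd.trans ?_
      have := Subgroup.relIndex_mul_index hTH
      exact ⟨H.index, this.symm⟩)
  have hT' : (T' : Subgroup H) = (T : Subgroup X).subgroupOf H := rfl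
  have hcompl : N.IsComplement' (T' : Subgroup H) := by
    haveI := hN
    exact isComplement'_of_coprime_of_isPGroup N h1 h2 T'
  haveI := hN
  have hn' : (⟨n, hn⟩ : H) ∈ N ⊔ (T' : Subgroup H) := by
    rw [hcompl.sup_eq_top]
    trivial
  obtain ⟨c, hc, t, ht, e⟩ := mem_sup_of_normal_left.1 hn'
  have hne : n = (c : X) * (t : X) := (congrArg Subtype.val e).symm
  have htT : (t : X) ∈ (T : Subgroup X) := ht
  set x' : X := (t : X) * x * (t : X)⁻¹ with hx'
  have hx'T : x' ∈ (T : Subgroup X) := mul_mem (mul_mem htT hx) (inv_mem htT)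
  have hy' : y = (c : X) * x' * (c : X)⁻¹ := by
    rw [← hnx, hne, hx']
    group
  have hx'H : x' ∈ H := hTH hx'T
  have hz : (⟨y * x'⁻¹, mul_mem (hTH hy) (inv_mem hx'H)⟩ : H) ∈ N ⊓ (T' : Subgroup H) := by
    refine Subgroup.mem_inf.2 ⟨?_, ?_⟩
    · have e2 : (⟨y * x'⁻¹, mul_mem (hTH hy) (inv_mem hx'H)⟩ : H) =
          c * ((⟨x', hx'H⟩ : H) * c⁻¹ * (⟨x', hx'H⟩ : H)⁻¹) := by
        apply Subtype.ext
        show y * x'⁻¹ = (c : X) * (x' * (c : X)⁻¹ * x'⁻¹)
        rw [hy']
        group
      rw [e2]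
      exact mul_mem hc (hN.conj_mem _ (inv_mem hc) _)
    · show y * x'⁻¹ ∈ (T : Subgroup X)
      exact mul_mem hy (inv_mem hx'T)
  have hbot : N ⊓ (T' : Subgroup H) = ⊥ := by
    rw [inf_comm]
    exact inf_eq_bot_of_isPGroup_of_coprime T'.isPGroup' h1
  rw [hbot, mem_bot] at hz
  have hz' : y * x'⁻¹ = 1 := congrArg Subtype.val hz
  exact ⟨t, htT, (mul_inv_eq_one.1 hz').symm⟩

/-- A subgroup controlling strong fusion whose normalizer has a normal `p`-complement. -/
theorem pc_of_control {X : Type u} [Group X] [Finite X] (U : Subgroup X)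
    (h : ControlsStrongFusion p U) (hN : HasNormalPComplement p (normalizer (U : Set X))) :
    HasNormalPComplement p X := by
  obtain ⟨T, hUT, hc⟩ := h
  have hTN : (T : Subgroup X) ≤ normalizer (U : Set X) := by
    intro t ht
    obtain ⟨x, hx, hxa⟩ := (hc (T : Subgroup X) subset_rfl).2 t (by
      rintro _ ⟨a, ha, rfl⟩
      exact mul_mem (mul_mem ht ha) (inv_mem ht))
    have hc' : x⁻¹ * t ∈ normalizer (U : Set X) := by
      refine Cfsg.Agent.Lib.Core.CoprimeMap.mem_normalizer_of_forall_conj_mem ?_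
      intro v hv
      have h1 := hxa v (hUT hv)
      have h2 : x⁻¹ * t * v * (x⁻¹ * t)⁻¹ = v := by
        calc x⁻¹ * t * v * (x⁻¹ * t)⁻¹ = x⁻¹ * (t * v * t⁻¹) * x := by group
          _ = x⁻¹ * (x * v * x⁻¹) * x := by rw [h1]
          _ = v := by group
      rw [h2]
      exact hv
    have e : t = x * (x⁻¹ * t) := by group
    rw [e]
    exact mul_mem hx hc'
  refine Cfsg.Agent.Lib.ElementFusion.Control.hasNormalPComplement_of_control T ?_
  rintro x hx y hy ⟨g, hg⟩
  obtain ⟨n, hn, hnx⟩ := (hc {x} (Set.singleton_subset_iff.2 hx)).2 g (by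
    rintro _ ⟨a, ha, rfl⟩
    rw [Set.mem_singleton_iff] at ha
    show g * a * g⁻¹ ∈ _
    rw [ha, hg]
    exact hy)
  have h1 := hnx x rfl
  rw [hg] at h1
  exact conj_in_sylow_of_pc _ hN T hTN hx hy hn h1.symm

/-- `inducedFunctor W` is a functorial subgroup. -/
theorem pFunctor_induced {W : ∀ (Q : Type u) [Group Q], Subgroup Q} (hW : IsCharPFunctor.{u} p W) :
    PFunctor p (fun {X : Type u} [Group X] (T : Subgroup X) => inducedFunctor W T) where
  map_eq := by
    intro X Y _ _ _ _ f T hT h
    show ((W T).map T.subtype).map f = (W (T.map f)).map (T.map f).subtype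
    rw [← hW.2 _ _ hT (equivMapOfInf f T h), Subgroup.map_map, Subgroup.map_map,
      comp_equivMapOfInf f T h]
  le := fun T => Subgroup.map_subtype_le _
  ne_bot := by
    intro X _ _ T hT hb h0
    have hnt : Nontrivial T := (Subgroup.nontrivial_iff_ne_bot T).2 hb
    apply hW.1 T hT hnt
    exact (Subgroup.map_eq_bot_iff_of_injective _ T.subtype_injective).1 h0

/-- Statement S1990. -/
theorem pc_of_sections (hp : p ≠ 2) {G : Type u} [Group G] [Finite G]
    (W : ∀ (Q : Type u) [Group Q], Subgroup Q) (hW : IsCharPFunctor.{u} p W) (S : Sylow p G)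
    (hN : HasNormalPComplement p
      ↥(normalizer ((inducedFunctor (G := G) W (S : Subgroup G) : Subgroup G) : Set G)))
    (hctl : ∀ (K R : Subgroup G) [hR : (R.subgroupOf K).Normal],
      (∀ (K' R' : Subgroup (↥K ⧸ R.subgroupOf K)) [hR' : (R'.subgroupOf K').Normal],
        IsNormalizerPStable p (↥K' ⧸ R'.subgroupOf K')) →
      ∀ T : Sylow p (↥K ⧸ R.subgroupOf K),
        ControlsStrongFusion p (inducedFunctor (G := (↥K ⧸ R.subgroupOf K)) W
          (T : Subgroup (↥K ⧸ R.subgroupOf K)))) :
    HasNormalPComplement p G := by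
  have hPF := pFunctor_induced (p := p) hW
  refine reduction_amb (thompsonHyp hPF lFunctor_normalizer)
    (fun (X : Type u) [Group X] => Cfsg.Involves X G) ?_ ?_ ?_ _ G S rfl ?_ hN
  · intro X _ H hX
    exact involves_trans (involves_of_surj (K := H) (MonoidHom.id H) Function.surjective_id) hX
  · intro X _ N _ hX
    refine involves_trans ?_ hX
    exact involves_of_surj (K := ⊤) ((QuotientGroup.mk' N).comp (⊤ : Subgroup X).subtype) (by
      intro y
      obtain ⟨x, rfl⟩ := QuotientGroup.mk'_surjective N y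
      exact ⟨⟨x, trivial⟩, rfl⟩)
  · intro X _ _ P Q₀ hA hyp hr
    obtain ⟨K, R, hR, ⟨e⟩⟩ := hA
    haveI := hR
    have hst : ∀ (K' R' : Subgroup (↥K ⧸ R.subgroupOf K)) [hR' : (R'.subgroupOf K').Normal],
        IsNormalizerPStable p (↥K' ⧸ R'.subgroupOf K') := by
      refine (not_involves_iff hp).1 ?_
      intro h1
      exact hr.not_involves hp (involves_of_injective h1 e.toMonoidHom e.injective)
    let T : Sylow p (↥K ⧸ R.subgroupOf K) :=
      P.mapSurjective (f := e.symm.toMonoidHom) e.symm.surjective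
    have hT : (T : Subgroup (↥K ⧸ R.subgroupOf K)) = (P : Subgroup X).map e.symm.toMonoidHom :=
      Sylow.coe_mapSurjective _ _
    have hc := hctl K R hst T
    have hmap : (inducedFunctor (G := (↥K ⧸ R.subgroupOf K)) W
        (T : Subgroup (↥K ⧸ R.subgroupOf K))).map e.toMonoidHom =
        inducedFunctor (G := X) W (P : Subgroup X) := by
      have h2 := hPF.map_eq e.toMonoidHom (T : Subgroup (↥K ⧸ R.subgroupOf K)) T.isPGroup' (by
        rw [(MonoidHom.ker_eq_bot_iff _).2 e.injective, inf_bot_eq])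
      refine h2.trans ?_
      congr 1
      rw [hT, Subgroup.map_map]
      convert Subgroup.map_id (P : Subgroup X)
      ext x
      simp
    have hPCn : HasNormalPComplement p
        (normalizer ((inducedFunctor (G := (↥K ⧸ R.subgroupOf K)) W
          (T : Subgroup (↥K ⧸ R.subgroupOf K)) : Subgroup _) : Set (↥K ⧸ R.subgroupOf K))) := by
      let φ : normalizer ((inducedFunctor (G := (↥K ⧸ R.subgroupOf K)) W
          (T : Subgroup (↥K ⧸ R.subgroupOf K)) : Subgroup _) : Set (↥K ⧸ R.subgroupOf K)) →*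
          normalizer ((inducedFunctor (G := X) W (P : Subgroup X) : Subgroup X) : Set X) :=
        (e.toMonoidHom.comp (normalizer _).subtype).codRestrict _ (fun x => by
          have := le_normalizer_map e.toMonoidHom ⟨x, x.2, rfl⟩
          rwa [hmap] at this)
      refine hasNormalPComplement_of_injective φ ?_ hyp
      intro x y hxy
      have h3 := congrArg Subtype.val hxy
      exact Subtype.ext (e.injective h3)
    have hpc := pc_of_control _ hc hPCn
    have hpcX : HasNormalPComplement p X := hasNormalPComplement_of_mulEquiv e hpc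
    exact hr.not_pc_top (hasNormalPComplement_of_mulEquiv Subgroup.topEquiv.symm hpcX)
  · exact involves_of_surj (K := ⊤) (Subgroup.topEquiv (G := G)).toMonoidHom Subgroup.topEquiv.surjective

end Cfsg.Agent.Lib.PLocal.ThompsonAmb
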