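/-
Failure of factorization for `p = 2` in groups that do not involve `S₄`, and Thompson's normal
`p`-complement theorem for the Thompson subgroup generated by the abelian subgroups of largest
order.
-/
import Cfsg.Agent.Lib.QuadAct.FFFail
import Cfsg.Agent.Lib.PReduced.SFourSection
import Cfsg.Agent.Lib.SameOrder.Main
import Cfsg.Agent.Lib.PLocal.ThompsonAmb
import Cfsg.Agent.Lib.PLocal.ThompsonComplement

set_option autoImplicit false
set_option linter.unusedSectionVars false

namespace Cfsg.Agent.Lib.PLocal.SFourFF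

open Subgroup Cfsg
open scoped commutatorElement
open Cfsg.Agent.Lib.PLocal.Thompson Cfsg.Agent.Lib.PLocal.ZJ
  Cfsg.Agent.Lib.Core.Basic Cfsg.Agent.Lib.Core.PSolvable
  Cfsg.Agent.Lib.PLocal.ThompsonReduction Cfsg.Agent.Lib.PLocal.ThompsonInduction
  Cfsg.Agent.Lib.PLocal.ThompsonFunctor Cfsg.Agent.Lib.PLocal.ThompsonAmb
  Cfsg.Agent.Lib.PLocal.ThompsonComplement
  Cfsg.Agent.Lib.QuadAct.FFBasic Cfsg.Agent.Lib.QuadAct.FFQuot Cfsg.Agent.Lib.QuadAct.FFFail
  Cfsg.Agent.Lib.QuadAct.FFMin Cfsg.Agent.Lib.QuadAct.FFDicho Cfsg.Agent.Lib.QuadAct.FFSL2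
  Cfsg.Agent.Lib.QuadAct.FFTrans Cfsg.Agent.Lib.QuadAct.FFTriple Cfsg.Agent.Lib.QuadAct.FFPlane
  Cfsg.Agent.Lib.QuadAct.Replacement

universe u v

/-- `SL₂(2)` is the symmetric group of degree `3`. -/
theorem nonempty_sl2_two_equiv :
    Nonempty (Matrix.SpecialLinearGroup (Fin 2) (ZMod 2) ≃* Equiv.Perm (Fin 3)) := by
  refine Cfsg.Agent.Lib.SameOrder.Main.iso_perm_of_card_six
    Cfsg.Agent.Lib.QuadAct.FFCore.card_sl2_two ?_
  refine ⟨⟨!![1, 1; 0, 1], by decide⟩, ⟨!![1, 0; 1, 1], by decide⟩, ?_⟩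
  intro h
  have h1 := congrArg (fun x : Matrix.SpecialLinearGroup (Fin 2) (ZMod 2) => x.1 0 0) h
  revert h1
  decide

section quot

variable {G : Type u} [Group G] [Finite G] {p : ℕ} [Fact p.Prime] {V : Subgroup G} [V.Normal]
  {M : Type u} [AddCommGroup M] [Module (ZMod p) M] [Finite M]
  {ρ : G ⧸ Subgroup.centralizer (V : Set G) →* Module.End (ZMod p) M} {ι : M → G}

/-- Best offenders of `G` induce best offenders on the quotient. -/
theorem best_of_offender (D : IsCoordQ V ρ ι)
    {L : Subgroup (G ⧸ Subgroup.centralizer (V : Set G))} {A : Subgroup G}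
    (hA : Cfsg.IsBestOffenderOn p V A) (hAL : A.map (piV V) ≤ L) :
    Best (ρ.comp L.subtype) ((A.map (piV V)).subgroupOf L) := by
  refine ⟨fun Y hY => ?_, ?_⟩
  · set B := A ⊓ (Y.map L.subtype).comap (piV V) with hBdef
    have hBmap : B.map (piV V) = Y.map L.subtype := by
      apply le_antisymm
      · rintro _ ⟨b, ⟨-, hb⟩, rfl⟩
        exact hb
      · rintro _ ⟨y, hy, rfl⟩
        obtain ⟨a, ha, ea⟩ := hY hy
        exact ⟨a, ⟨ha, ⟨y, hy, ea.symm⟩⟩, ea⟩
    have hYeq : (B.map (piV V)).subgroupOf L = Y := by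
      rw [hBmap, map_subtype_subgroupOf]
    have hBL : B.map (piV V) ≤ L := by
      rw [hBmap]
      exact Subgroup.map_subtype_le _
    have hBA : B ≤ A := inf_le_left
    have hinf : B ⊓ (piV V).ker = A ⊓ (piV V).ker := by
      apply le_antisymm (inf_le_inf_right _ hBA)
      rintro a ⟨ha, hk⟩
      refine ⟨⟨ha, ⟨1, Subgroup.one_mem _, ?_⟩⟩, hk⟩
      exact (MonoidHom.mem_ker.mp hk).symm
    have h1 := hA.1 B hBA
    rw [card_eq_map_mul_inf (piV V) B, card_eq_map_mul_inf (piV V) A, hinf] at h1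
    rw [← hYeq, D.jj_map hBL, D.jj_map hAL]
    have h2 : 0 < Nat.card ↥(A ⊓ (piV V).ker) := Nat.card_pos
    refine Nat.le_of_mul_le_mul_right ?_ h2
    calc _ = Nat.card ↥(B.map (piV V)) * Nat.card ↥(A ⊓ (piV V).ker) *
          Nat.card ↥(V ⊓ Subgroup.centralizer (B : Set G)) := by ring
      _ ≤ _ := h1
      _ = _ := by ring
  · refine Cfsg.Agent.Lib.QuadAct.ZJ.isElementaryAbelian_comap L.subtype L.subtype_injective ?_
    refine ⟨⟨⟨?_⟩⟩, ?_⟩
    · rintro ⟨_, a, ha, rfl⟩ ⟨_, b, hb, rfl⟩
      apply Subtype.ext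
      show piV V a * piV V b = piV V b * piV V a
      have h1 : ⁅a, b⁆ ∈ Subgroup.centralizer (V : Set G) :=
        hA.2.1 (Subgroup.commutator_mem_commutator ha hb)
      have h2 : piV V ⁅a, b⁆ = 1 := by
        rw [← MonoidHom.mem_ker, piV_ker]
        exact h1
      rw [commutatorElement_def, map_mul, map_mul, map_mul, map_inv, map_inv] at h2
      have h3 : piV V a * piV V b * (piV V a)⁻¹ = piV V b := by
        rw [mul_inv_eq_one] at h2
        exact h2
      rw [mul_inv_eq_iff_eq_mul] at h3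
      exact h3
    · rintro _ ⟨a, ha, rfl⟩
      rw [← map_pow, ← MonoidHom.mem_ker, piV_ker]
      exact hA.2.2 a ha

/-- A best offender acting nontrivially on a normal elementary abelian subgroup, in the presence of
`O₂(G/C_G(V)) = 1`: the quotient `G/C_G(V)` involves `S₃`. -/
theorem involves_sthree_of_offender {V : Subgroup G} [V.Normal] (hp2 : p = 2)
    (hV : Cfsg.IsElementaryAbelian p V) (hsep : Cfsg.IsPSolvable p G)
    (hO : Cfsg.pCore p (G ⧸ Subgroup.centralizer (V : Set G)) = ⊥) {B : Subgroup G}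
    (hB : Cfsg.IsBestOffenderOn p V B) (hne : ⁅V, B⁆ ≠ ⊥) :
    Cfsg.Involves (Equiv.Perm (Fin 3)) (G ⧸ Subgroup.centralizer (V : Set G)) := by
  classical
  subst hp2
  obtain ⟨M, _, _, _, ρ, ι, D⟩ := exists_coordQ (p := 2) hV
  set L : Subgroup (G ⧸ Subgroup.centralizer (V : Set G)) := ⊤ with hL
  have hsep' : Cfsg.IsPSolvable 2 (G ⧸ Subgroup.centralizer (V : Set G)) :=
    isPSolvable_of_surjective _ piV_surj hsep
  have hS1 := hS1_of hsep' hO (L := L) inferInstance
  have hρ := D.faithL L
  have hbest := best_of_offender D hB (L := L) le_top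
  have hne' : (B.map (piV V)).subgroupOf L ≠ ⊥ := by
    intro h
    apply hne
    have h1 : B.map (piV V) = ⊥ := by
      rw [eq_bot_iff]
      rintro _ hx
      have h2 : (⟨_, Subgroup.mem_top _⟩ : L) ∈ (B.map (piV V)).subgroupOf L := hx
      rw [h, Subgroup.mem_bot] at h2
      rw [Subgroup.mem_bot]
      exact congrArg Subtype.val h2
    have h3 : B ≤ (piV V).ker := (Subgroup.map_eq_bot_iff _).mp h1
    rw [piV_ker] at h3
    rw [eq_bot_iff, Subgroup.commutator_le]
    intro v hv b hb
    rw [Subgroup.mem_bot, commutatorElement_eq_one_iff_mul_comm]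
    exact Subgroup.mem_centralizer_iff.mp (h3 hb) v hv
  obtain ⟨A₁, -, hA₁⟩ := exists_minBest_le hbest hne'
  obtain ⟨a, -, e, f, hT⟩ := exists_TV hρ hS1 hA₁
  obtain ⟨x, C⟩ := exists_ctx hρ (inferInstance : (Cfsg.pPrimeCore 2 L).Normal)
    pPrimeCore_coprime hS1 hT
  obtain ⟨e₁⟩ := nonempty_sl2_two_equiv
  let e₂ := (Ctx.phiEquiv C).trans e₁
  let θ : ↥((cls (Cfsg.pPrimeCore 2 L) a).map L.subtype) →* Equiv.Perm (Fin 3) :=
    e₂.toMonoidHom.comp
      ((Subgroup.equivMapOfInjective _ _ L.subtype_injective).symm.toMonoidHom)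
  exact Cfsg.Agent.Lib.PLocal.QdSection.involves_of_surj θ
    (e₂.surjective.comp (Subgroup.equivMapOfInjective _ _ L.subtype_injective).symm.surjective)

/-- A best offender acting nontrivially on a normal elementary abelian `2`-subgroup, in the presence
of `O₂(G/C_G(V)) = 1`: the group `G` involves `S₄`. -/
theorem involves_sfour_of_offender {V : Subgroup G} [hVn : V.Normal] (hp2 : p = 2)
    (hV : Cfsg.IsElementaryAbelian p V) (hsep : Cfsg.IsPSolvable p G)
    (hO : Cfsg.pCore p (G ⧸ Subgroup.centralizer (V : Set G)) = ⊥) {B : Subgroup G}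
    (hB : Cfsg.IsBestOffenderOn p V B) (hne : ⁅V, B⁆ ≠ ⊥) :
    Cfsg.Involves (Equiv.Perm (Fin 4)) G := by
  classical
  have h3 := involves_sthree_of_offender hp2 hV hsep hO hB hne
  subst hp2
  have hVp : IsPGroup 2 V := by
    rw [isPGroup_iff_pow_pow_eq_one]
    rintro ⟨v, hv⟩
    exact ⟨1, by apply Subtype.ext; simpa using hV.2 v hv⟩
  refine Cfsg.Agent.Lib.PReduced.SFourSection.involves_sfour_of_automizer V hVp ?_
  -- transport along the surjection `G → G / C_G(V)`
  set N := normalizer (V : Set G) with hN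
  have hNtop : N = ⊤ := normalizer_eq_top V
  let φ : ↥N ⧸ (centralizer (V : Set G)).subgroupOf N →* G ⧸ centralizer (V : Set G) :=
    QuotientGroup.lift _ ((QuotientGroup.mk' (centralizer (V : Set G))).comp N.subtype) (by
      intro x hx
      show QuotientGroup.mk' _ (x : G) = 1
      rw [QuotientGroup.mk'_apply, QuotientGroup.eq_one_iff]
      exact hx)
  have hφ : Function.Surjective φ := by
    intro z
    obtain ⟨g, rfl⟩ := QuotientGroup.mk_surjective z
    have hg : g ∈ N := by rw [hNtop]; exact mem_top g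
    exact ⟨QuotientGroup.mk ⟨g, hg⟩, rfl⟩
  exact Cfsg.Agent.Lib.PLocal.QdSection.involves_of_surjective h3 φ hφ

end quot

section main

variable {G : Type u} [Group G] [Finite G] {p : ℕ} [Fact p.Prime] {P : Sylow p G}
  {Q₀ : Subgroup G}

/-- Reduced groups are `p`-solvable. -/
theorem isPSolvable_of_reduced (hr : Reduced p G P Q₀) : Cfsg.IsPSolvable p G := by
  classical
  set Q : Subgroup G := pCore p G with hQ
  have hQn : Q.Normal := inferInstance
  have hLn : (Q ⊔ Q₀).Normal := hr.normal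
  refine ⟨3, ![⊥, Q, Q ⊔ Q₀, ⊤], rfl, rfl, ?_, ?_, ?_⟩
  · apply Fin.monotone_iff_le_succ.mpr
    intro i
    fin_cases i
    · exact bot_le
    · exact le_sup_left
    · exact le_top
  · intro i
    fin_cases i
    · exact Subgroup.normal_bot
    · exact hQn
    · exact hLn
    · exact Subgroup.normal_top
  · intro i
    fin_cases i
    · left
      show ∃ m : ℕ, (⊥ : Subgroup G).relIndex Q = p ^ m
      rw [Subgroup.relIndex_bot_left]
      exact IsPGroup.iff_card.1 (pCore_isPGroup (p := p) (G := G))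
    · right
      show (Q.relIndex (Q ⊔ Q₀)).Coprime p
      rw [Subgroup.relIndex_sup_left]
      exact Nat.Coprime.coprime_dvd_left (Subgroup.index_dvd_card _) hr.coprime
    · left
      show ∃ m : ℕ, (Q ⊔ Q₀).relIndex ⊤ = p ^ m
      rw [Subgroup.relIndex_top_right]
      have hq : IsPGroup p (G ⧸ (Q ⊔ Q₀)) := by
        intro z
        obtain ⟨g, rfl⟩ := QuotientGroup.mk'_surjective _ z
        obtain ⟨k, hk⟩ := hr.quot g
        refine ⟨k, ?_⟩
        rw [← map_pow, QuotientGroup.mk'_apply, QuotientGroup.eq_one_iff]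
        exact hk
      obtain ⟨n, hn⟩ := IsPGroup.iff_card.1 hq
      exact ⟨n, hn⟩

/-- An abelian subgroup of largest order of a `2`-subgroup containing `V`, acting nontrivially on
`V`, produces a best offender acting nontrivially on `V`. -/
theorem exists_offender (hp2 : p = 2) {V : Subgroup G} (hVn : V.Normal)
    (hV : Cfsg.IsElementaryAbelian p V) {T A : Subgroup G} (hVT : V ≤ T) (hT : IsPGroup p T)
    (hA : IsMaxIn 0 T A) (hne : ⁅V, A⁆ ≠ ⊥) :
    ∃ B : Subgroup G, Cfsg.IsBestOffenderOn p V B ∧ ⁅V, B⁆ ≠ ⊥ := by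
  classical
  have hAa : IsAbExp 0 A := hA.2.1
  have hAV : A ≤ normalizer (V : Set G) := by
    rw [normalizer_eq_top V]
    exact le_top
  have hab : ⁅A, A⁆ ≤ centralizer (V : Set G) := by
    rw [Subgroup.commutator_le]
    intro a ha b hb
    rw [commutatorElement_eq_one_iff_mul_comm.2 (hAa.comm ha hb)]
    exact one_mem _
  have hVa : IsAbExp 0 V := ⟨hV.1, fun a _ => pow_zero a⟩
  have hbest : IsBest V A := by
    intro B hB
    show Nat.card B * Nat.card ↥(V ⊓ centralizer (B : Set G)) ≤
      Nat.card A * Nat.card ↥(V ⊓ centralizer (A : Set G))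
    set Y := V ⊓ centralizer (B : Set G) with hY
    have hBa : IsAbExp 0 B := isAbExp_iff.2
      ⟨fun a ha b hb => hAa.comm (hB ha) (hB hb), fun a _ => pow_zero a⟩
    have hYa : IsAbExp 0 Y := isAbExp_iff.2
      ⟨fun a ha b hb => hVa.comm ha.1 hb.1, fun a _ => pow_zero a⟩
    have hBY : ∀ a ∈ B, ∀ b ∈ Y, a * b = b * a := fun a ha b hb =>
      (mem_centralizer_iff.1 hb.2 a ha)
    have hsup := hBa.sup hYa hBY
    have h1 := hA.2.2 (B ⊔ Y) (sup_le (hB.trans hA.1) (inf_le_left.trans hVT)) hsup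
    have hn : B ≤ normalizer (Y : Set G) := by
      intro b hb
      have hbc : b ∈ centralizer (Y : Set G) := by
        rw [mem_centralizer_iff]
        intro y hy
        exact (hBY b hb y hy).symm
      exact Subgroup.centralizer_le_normalizer _ hbc
    have h2 := Cfsg.Agent.Lib.QuadAct.Basic.card_sup_mul_card_inf_of_le_normalizer B Y hn
    have h3 : B ⊓ Y ≤ V ⊓ centralizer (A : Set G) := by
      rintro x ⟨hx1, hx2⟩
      refine ⟨hx2.1, mem_centralizer_iff.2 ?_⟩
      intro a ha
      exact hAa.comm ha (hB hx1)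
    have h4 := Nat.card_le_card_of_injective _ (Subgroup.inclusion_injective h3)
    rw [← h2]
    exact Nat.mul_le_mul h1 h4
  obtain ⟨h1, h2⟩ := replacement_of_best hV.1 hAV hab hbest (le_refl V)
  set W : Subgroup G := ⁅V, A⁆ with hW
  set B : Subgroup G := A ⊓ centralizer (W : Set G) with hB
  have hWV : W ≤ V := Cfsg.Agent.Lib.QuadAct.Basic.commutator_le_of_le_normalizer hAV
  refine ⟨B, ⟨?_, ?_, ?_⟩, ?_⟩
  · intro C hC
    have h3 := hbest C (hC.trans inf_le_left)
    rw [← h1] at h3
    exact h3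
  · rw [Subgroup.commutator_le]
    intro a ha b hb
    rw [commutatorElement_eq_one_iff_mul_comm.2 (hAa.comm ha.1 hb.1)]
    exact one_mem _
  · intro b hb
    rw [mem_centralizer_iff]
    intro v hv
    subst hp2
    set w : G := b * v * b⁻¹ * v⁻¹ with hwdef
    have hwW : w⁻¹ ∈ W := by
      have h3 : w⁻¹ = ⁅v, b⁆ := by
        rw [hwdef, commutatorElement_def]
        group
      rw [h3]
      exact commutator_mem_commutator hv hb.1
    have hbw : b * w * b⁻¹ = w := by
      have h3 : w ∈ W := by simpa using inv_mem hwW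
      have h4 := mem_centralizer_iff.1 hb.2 w h3
      rw [← h4]
      group
    have hwV : w ∈ V := by simpa using inv_mem (hWV hwW)
    have hw2 : w * w = 1 := by
      have := hV.2 w hwV
      rwa [pow_two] at this
    have e : b * v * b⁻¹ = w * v := by
      rw [hwdef]
      group
    have e2 : b ^ 2 * v * (b ^ 2)⁻¹ = v := by
      calc b ^ 2 * v * (b ^ 2)⁻¹ = b * (b * v * b⁻¹) * b⁻¹ := by
            rw [pow_two, mul_inv_rev]
            group
        _ = b * (w * v) * b⁻¹ := by rw [e]
        _ = (b * w * b⁻¹) * (b * v * b⁻¹) := by group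
        _ = w * (w * v) := by rw [hbw, e]
        _ = (w * w) * v := by group
        _ = v := by rw [hw2, one_mul]
    rw [mul_inv_eq_iff_eq_mul] at e2
    exact e2.symm
  · intro hbot
    have hVC : V ≤ V ⊓ centralizer (B : Set G) := by
      refine le_inf le_rfl ?_
      intro v hv
      refine mem_centralizer_iff.2 ?_
      intro b hb
      have := commutator_mem_commutator hv hb
      rw [hbot, Subgroup.mem_bot] at this
      exact (commutatorElement_eq_one_iff_mul_comm.1 this).symm
    rw [h2] at hVC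
    have hVp : IsPGroup p V := hT.to_le hVT
    have hsub : ⁅V, A⁆ ≤ ⁅W, A⁆ := by
      let D : Subgroup G :=
        { carrier := {v | v ∈ V ∧ ∀ a ∈ A, ⁅v, a⁆ ∈ ⁅W, A⁆}
          one_mem' := ⟨V.one_mem, fun a _ => by simp [commutatorElement_def]⟩
          mul_mem' := by
            rintro x y ⟨hx, hx'⟩ ⟨hy, hy'⟩
            refine ⟨V.mul_mem hx hy, fun a ha => ?_⟩
            rw [Cfsg.Agent.Lib.QuadAct.Basic.comm_mul_left hV.1 (hAV ha) hx hy]
            exact Subgroup.mul_mem _ (hx' a ha) (hy' a ha)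
          inv_mem' := by
            rintro x ⟨hx, hx'⟩
            refine ⟨V.inv_mem hx, fun a ha => ?_⟩
            rw [Cfsg.Agent.Lib.QuadAct.Basic.comm_inv_left hV.1 (hAV ha) hx]
            exact Subgroup.inv_mem _ (hx' a ha) }
      have hT1 : W ≤ D := fun w hw => ⟨hWV hw, fun a ha => commutator_mem_commutator hw ha⟩
      have hT2 : V ⊓ centralizer (A : Set G) ≤ D := by
        rintro c ⟨hc, hc'⟩
        refine ⟨hc, fun a ha => ?_⟩
        have := mem_centralizer_iff.1 hc' a ha
        rw [commutatorElement_eq_one_iff_mul_comm.2 this.symm]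
        exact one_mem _
      have hVT' : V ≤ D := hVC.trans (sup_le hT1 hT2)
      rw [Subgroup.commutator_le]
      intro v hv a ha
      exact (hVT' hv).2 a ha
    have hWbot : W = ⊥ := by
      refine eq_bot_of_le_commutator hVp hAV ?_ hWV hsub
      intro a ha
      obtain ⟨k, hk⟩ := hT ⟨a, hA.1 ha⟩
      refine ⟨k, ?_⟩
      have hk' : a ^ p ^ k = 1 := congrArg Subtype.val hk
      rw [hk']
      exact one_mem _
    exact hne hWbot

/-- If `N_G(J(P)) ≤ P`, every normal subgroup containing `J(P)` contains `Q₀`. -/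
lemma le_of_jOf_le' (hr : Reduced p G P Q₀) {e : ℕ} (he : e = 0 ∨ e = p)
    (hNJ : normalizer (jOf e (P : Subgroup G) : Set G) ≤ P)
    (C : Subgroup G) [hCn : C.Normal] (hJC : jOf e (P : Subgroup G) ≤ C) : Q₀ ≤ C := by
  intro x hx
  obtain ⟨c, hc, y, hy, rfl⟩ := Cfsg.Agent.Lib.PLocal.AlperinG.exists_frattini_normal P C x
  have hTp : IsPGroup p ((P : Subgroup G) ⊓ C : Subgroup G) := P.isPGroup'.to_le inf_le_left
  have hJ : jOf e ((P : Subgroup G) ⊓ C) = jOf e (P : Subgroup G) :=
    jOf_eq_of_le inf_le_left (le_inf (jOf_le _ _) hJC)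
  have hy1 : y ∈ normalizer (jOf e (P : Subgroup G) : Set G) := by
    have h1 := (pFunctor_jOf (e := e) (p := p) he).normalizer_le _ hTp hy
    rw [hJ] at h1
    exact h1
  have hyP : y ∈ (P : Subgroup G) := hNJ hy1
  obtain ⟨k, hk⟩ := P.isPGroup' ⟨y, hyP⟩
  have hk1 : y ^ p ^ k = 1 := congrArg Subtype.val hk
  have hord : (orderOf (c * y)).Coprime p := by
    have h1 : orderOf (c * y) ∣ Nat.card Q₀ := Subgroup.orderOf_dvd_natCard Q₀ hx
    exact Nat.Coprime.coprime_dvd_left h1 hr.coprime
  refine mem_of_pow_mem_of_coprime hord (k := k) ?_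
  have hm : (QuotientGroup.mk' C) ((c * y) ^ p ^ k) = 1 := by
    have h1 : QuotientGroup.mk' C c = 1 := by
      rw [QuotientGroup.mk'_apply, QuotientGroup.eq_one_iff]
      exact hc
    rw [map_pow, map_mul, h1, one_mul, ← map_pow, hk1, map_one]
  rw [QuotientGroup.mk'_apply, QuotientGroup.eq_one_iff] at hm
  exact hm

/-- In a reduced group, `Q₀` can not fix all elements of order `p` of `Z(P)` if
`C_G(Z(P)) = P`. -/
lemma false_of_fix (hr : Reduced p G P Q₀) (hC : centralizer
      (((P : Subgroup G) ⊓ centralizer ((P : Subgroup G) : Set G) : Subgroup G) : Set G) = P)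
    (hfix : ∀ z ∈ (P : Subgroup G), (∀ s ∈ (P : Subgroup G), s * z = z * s) → z ^ p = 1 →
      ∀ x ∈ Q₀, x * z * x⁻¹ = z) : False := by
  have hle := centralizes_center_of_omega hr hfix
  rw [hC] at hle
  apply hr.ne_bot
  rw [eq_bot_iff]
  intro x hx
  obtain ⟨k, hk⟩ := P.isPGroup' ⟨x, hle hx⟩
  have h1 : x ^ p ^ k = 1 := congrArg Subtype.val hk
  rw [mem_bot]
  exact eq_one_of_mem_of_coprime hr.coprime hx h1

/-- In a reduced group not involving `S₄` if `p = 2`, the abelian subgroups of largest order of `P`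
centralize a normal subgroup containing all elements of order `p` of `Z(P)`. -/
theorem exists_normal_of_reduced (hr : Reduced p G P Q₀) (h : p ≠ 2 ∨ ¬ Involves (Equiv.Perm (Fin 4)) G) :
    ∃ Cn : Subgroup G, Cn.Normal ∧ jOf 0 (P : Subgroup G) ≤ Cn ∧
      ∀ x ∈ Cn, ∀ z ∈ (P : Subgroup G), (∀ s ∈ (P : Subgroup G), s * z = z * s) → z ^ p = 1 →
        x * z * x⁻¹ = z := by
  classical
  by_cases hp : p = 2
  · have hS4 : ¬ Involves (Equiv.Perm (Fin 4)) G := h.resolve_left (not_not.2 hp)
    haveI hVn : (omegaV p G).Normal := omegaV_normal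
    set V := omegaV p G with hV
    have hsep := isPSolvable_of_reduced hr
    have hVe : Cfsg.IsElementaryAbelian p V := omegaV_ea hsep hr.core
    have hVp : IsPGroup p V := by
      rw [isPGroup_iff_pow_pow_eq_one]
      rintro ⟨v, hv⟩
      exact ⟨1, by apply Subtype.ext; simpa using hVe.2 v hv⟩
    have hVP : V ≤ (P : Subgroup G) := (le_pCore hVn hVp).trans (pCore_le_sylow P)
    have hpc : Cfsg.pCore p (G ⧸ Subgroup.centralizer (V : Set G)) = ⊥ := omegaV_pCore
    refine ⟨centralizer (V : Set G), normal_centralizer, ?_, ?_⟩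
    · refine sSup_le ?_
      intro A hA
      by_contra hAC
      have hne : ⁅V, A⁆ ≠ ⊥ := by
        intro hbot
        apply hAC
        intro a ha
        rw [mem_centralizer_iff]
        intro v hv
        have := commutator_mem_commutator hv ha
        rw [hbot, Subgroup.mem_bot] at this
        exact commutatorElement_eq_one_iff_mul_comm.1 this
      obtain ⟨B, hB, hBne⟩ := exists_offender hp hVn hVe hVP P.isPGroup' hA hne
      exact hS4 (involves_sfour_of_offender hp hVe hsep hpc hB hBne)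
    · intro x hx z hz hc hzp
      have hzV : z ∈ V := by
        refine (le_iSup (fun S : Sylow p G => Cfsg.omegaOne p ((S : Subgroup G) ⊓
          centralizer ((S : Subgroup G) : Set G))) P) ?_
        refine Subgroup.subset_closure ⟨⟨hz, ?_⟩, hzp⟩
        exact mem_centralizer_iff.2 hc
      have h1 := mem_centralizer_iff.1 hx z hzV
      rw [← h1]
      group
  · have hn := hr.normal_Z₀ hp (e := 0) (Or.inl rfl)
    refine ⟨centralizer (Z₀ 0 (P : Subgroup G) : Set G), normal_centralizer, ?_, ?_⟩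
    · rw [jOf, sSup_le_iff]
      intro A hA a ha
      rw [mem_centralizer_iff]
      intro w hw
      exact hA.2.1.comm (Z₀_le hA hw) ha
    · intro x hx z hz hc hzp
      have hzZ : z ∈ Z₀ 0 (P : Subgroup G) := by
        rw [Z₀, mem_sInf]
        intro A hA
        exact hA.mem_of_commute hz (pow_zero z) (fun a ha => hc a (hA.1 ha))
      have h1 := mem_centralizer_iff.1 hx z hzZ
      rw [← h1]
      group

/-- **Thompson's normal `p`-complement theorem**, for the Thompson subgroup generated by the abelian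
subgroups of largest order. -/
theorem pc_of_thompson_sfour {G : Type u} [Group G] [Finite G] (P : Sylow p G)
    (h : p ≠ 2 ∨ ¬ Involves (Equiv.Perm (Fin 4)) G)
    (h₁ : HasNormalPComplement p (normalizer (jOf 0 (P : Subgroup G) : Set G)))
    (h₂ : HasNormalPComplement p (centralizer
      (((P : Subgroup G) ⊓ centralizer ((P : Subgroup G) : Set G) : Subgroup G) : Set G))) :
    HasNormalPComplement p G := by
  refine reduction_amb (ThompsonHyp.and
    (thompsonHyp (pFunctor_jOf (e := 0) (Or.inl rfl)) lFunctor_normalizer)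
    (thompsonHyp pFunctor_center lFunctor_centralizer))
    (fun (X : Type u) [Group X] => p ≠ 2 ∨ ¬ Involves (Equiv.Perm (Fin 4)) X) ?_ ?_ ?_ _ G P rfl h
    ⟨h₁, h₂⟩
  · intro X _ H hX
    refine hX.imp id ?_
    intro hX h
    exact hX (Cfsg.Agent.Lib.PLocal.QdSection.involves_of_injective h H.subtype H.subtype_injective)
  · intro X _ N _ hX
    refine hX.imp id ?_
    intro hX h
    exact hX (Cfsg.Agent.Lib.PLocal.QdSection.involves_of_surjective h (QuotientGroup.mk' N)
      (QuotientGroup.mk'_surjective N))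
  · intro G _ _ P Q₀ hAmb ⟨hyp₁, hyp₂⟩ hr
    change HasNormalPComplement p (normalizer (jOf 0 (P : Subgroup G) : Set G)) at hyp₁
    change HasNormalPComplement p (centralizer
      (((P : Subgroup G) ⊓ centralizer ((P : Subgroup G) : Set G) : Subgroup G) : Set G)) at hyp₂
    have hJ : normalizer (jOf 0 (P : Subgroup G) : Set G) = P := by
      refine hr.eq_of_pc _ ?_ hyp₁
      exact le_normalizer.trans
        ((pFunctor_jOf (e := 0) (p := p) (Or.inl rfl)).normalizer_le _ P.isPGroup')
    have hC : centralizer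
        (((P : Subgroup G) ⊓ centralizer ((P : Subgroup G) : Set G) : Subgroup G) : Set G) = P := by
      refine hr.eq_of_pc _ ?_ hyp₂
      intro s hs
      rw [mem_centralizer_iff]
      rintro z ⟨_, hz⟩
      exact (mem_centralizer_iff.1 hz s hs).symm
    obtain ⟨Cn, hCn, hJC, hfix⟩ := exists_normal_of_reduced hr hAmb
    have hQ₀ := le_of_jOf_le' hr (e := 0) (Or.inl rfl) hJ.le Cn hJC
    exact false_of_fix hr hC (fun z hz hc hzp x hx => hfix x (hQ₀ hx) z hz hc hzp)

end main

end Cfsg.Agent.Lib.PLocal.SFourFF
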