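/-
Glauberman's weak closure theorem for saturated fusion systems: from models of normalizer systems
to the system, using the theorem for groups (`PLocal/WeakClosure`).
-/
import Cfsg.Agent.Lib.PLocal.WeakClosure
import Cfsg.Agent.Lib.Fusion.WeakClosure
import Cfsg.Prelude.Def_FusionReduction

set_option autoImplicit false
set_option linter.unusedSectionVars false

namespace Cfsg.Agent.Lib.PLocal.FusionWC

open Cfsg Cfsg.FusionSystem Cfsg.Agent.Lib.Fusion.Basic Cfsg.Agent.Lib.Fusion.Saturation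
  Cfsg.Agent.Lib.Fusion.Saturation2 Cfsg.Agent.Lib.Fusion.LocalGlobal Cfsg.Agent.Lib.Fusion.Center
  Cfsg.Agent.Lib.Fusion.Model Cfsg.Agent.Lib.Fusion.ModelNormalizer Cfsg.Agent.Lib.Fusion.NormSystem
  Cfsg.Agent.Lib.Core.Basic Cfsg.Agent.Lib.FusionExt.Basic Cfsg.Agent.Lib.Fusion.KSystem
  Cfsg.Agent.Lib.Fusion.WeakClosure
open Cfsg.Agent.Lib.PLocal.Thompson

universe u

section functor

variable {Ω : Type u} [Group Ω] {S : Subgroup Ω}

variable {p : ℕ} [hp : Fact p.Prime] (W : ∀ (Q : Type u) [Group Q], Subgroup Q)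
  (hW2 : ∀ (Q R : Type u) [Group Q] [Group R] [Finite Q], IsPGroup p Q → ∀ φ : Q ≃* R, (W Q).map φ.toMonoidHom = W R)

include hW2 in
/-- **Weak closure from a local condition on models of normalizer systems.** -/
theorem mem_center_of_local_model
    (hWZ : ∀ (Q : Type u) [Group Q] [Finite Q], IsPGroup p Q → Subgroup.center Q ≤ W Q) [Finite S]
    (hS : IsPGroup p S) (F : FusionSystem S) (hF : F.IsSaturated p) (N : FusionSystem (normalizerIn S (UU W S)))
    (hN : F.IsNormalizerSystem (UU W S) N) {x : Ω} (hx : x ∈ N.center)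
    (hLoc : ∀ Q : Subgroup Ω, F.IsFullyNormalized Q → F.IsCentric Q →
      ∀ E₀ : FusionSystem (normalizerIn S Q), F.IsNormalizerSystem Q E₀ →
      ∀ hxT : x ∈ normalizerIn S Q, (⟨x, hxT⟩ : ↥(normalizerIn S Q)) ∈ Subgroup.center ↥(normalizerIn S Q) →
      S ⊓ Subgroup.centralizer (S : Set Ω) ≤ normalizerIn S Q →
      ∀ (L : Type u) [Group L] [Finite L] (P₀ : Sylow p L) (ι : ↥(normalizerIn S Q) →* L),
        E₀.IsModel p L ι → (P₀ : Subgroup L) = ι.range →
        ι ⟨x, hxT⟩ ∈ pCore p L → ι ⟨x, hxT⟩ ∉ Subgroup.center L →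
        ∃ g ∈ Subgroup.normalizer (((W ↥(P₀ : Subgroup L)).map (P₀ : Subgroup L).subtype : Subgroup L) : Set L),
          g * ι ⟨x, hxT⟩ * g⁻¹ ≠ ι ⟨x, hxT⟩) :
    x ∈ F.center := by
  have hW₀S : UU W S ≤ S := UU_le W S
  have hSN : S ≤ normalizerIn S (UU W S) := fun s hs =>
    normalizerIn_le_UU W hW2 hS le_rfl ⟨hs, Subgroup.le_normalizer hs⟩
  haveI : Finite ↥(normalizerIn S (UU W S)) := finite_of_le inf_le_left
  have hxN : x ∈ normalizerIn S (UU W S) := center_le N hx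
  have hxS : x ∈ S := hxN.1
  have hxc : ∀ s ∈ S, s * x * s⁻¹ = x := fun s hs =>
    map_of_mem_center N (N.conj_mem (le_refl (normalizerIn S (UU W S))) (hSN hs)) hxN hx
  have hcomm : ∀ s ∈ S, s * x = x * s := fun s hs => by
    calc s * x = s * x * s⁻¹ * s := by group
      _ = x * s := by rw [hxc s hs]
  have hxZ : ∀ T : Subgroup Ω, T ≤ S → ∀ hxT : x ∈ T, (⟨x, hxT⟩ : T) ∈ Subgroup.center T := fun T hT hxT =>
    Subgroup.mem_center_iff.2 fun g => Subtype.ext (hcomm g (hT g.2))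
  have hxW₀ : x ∈ UU W S := ⟨⟨x, hxS⟩, hWZ S hS (hxZ S le_rfl hxS), rfl⟩
  have hBaseFix : ∀ β ∈ F.autGroup (UU W S), ((β ⟨x, hxW₀⟩ : UU W S) : Ω) = x := by
    intro β hβ
    rw [← normalizerSystem_autGroup F hW₀S hN] at hβ
    exact map_of_mem_center N (autHom_mem N (le_normalizerIn hW₀S) hβ) hxW₀ hx
  have hBase : ∀ β ∈ F.autGroup (UU W S), autHom β ∈ (fixSys F hxc).Hom (UU W S) := fun β hβ =>
    good_of_fixed hxc (autHom_mem F hW₀S hβ) hxW₀ (hBaseFix β hβ)
  have hTop : F.Hom S ⊆ (fixSys F hxc).Hom S := by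
    intro φ hφ
    refine good_of_fixed hxc hφ hxS ?_
    have hr : φ.range = S := Subgroup.eq_of_le_of_card_ge (range_le F hφ) (by rw [card_range F hφ])
    let e : S ≃* S := isoOf φ (F.injective_of_mem hφ) hr
    have hWe := hW2 S S hS e
    have hφ₀ : φ.comp (Subgroup.inclusion hW₀S) ∈ F.Hom (UU W S) := restrict_mem F hW₀S hφ
    have hfinU : Finite (UU W S) := finite_of_le hW₀S
    have hr₀ : (φ.comp (Subgroup.inclusion hW₀S)).range = UU W S := by
      apply Subgroup.eq_of_le_of_card_ge _ (by rw [card_range F hφ₀])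
      rintro _ ⟨⟨_, t, ht, rfl⟩, rfl⟩
      have h1 : e t ∈ W S := by
        rw [← hWe]
        exact ⟨t, ht, rfl⟩
      exact ⟨_, h1, rfl⟩
    obtain ⟨β, hβ, hβv⟩ := exists_aut_of_range F hφ₀ hr₀
    have h1 := hBaseFix β hβ
    rw [hβv] at h1
    exact h1
  have hL : ∀ Q, F.IsFullyNormalized Q → F.IsCentric Q → (∃ α ∈ F.autGroup Q, autHom α ∉ (fixSys F hxc).Hom Q) →
      ∃ β ∈ F.autGroup (UU W (normalizerIn S Q)), autHom β ∉ (fixSys F hxc).Hom (UU W (normalizerIn S Q)) := by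
    rintro Q hQ hQc ⟨α, hα, hb⟩
    have hQS : Q ≤ S := hQ.1
    have hxQ : x ∈ Q := hQc.2 Q (isConj_refl F hQS) ⟨hxS, Subgroup.mem_centralizer_iff.2 fun t ht =>
      (hcomm t (hQS ht))⟩
    have hαx : ((α ⟨x, hxQ⟩ : Q) : Ω) ≠ x := fun h =>
      hb (good_of_fixed hxc (autHom_mem F hQS hα) hxQ h)
    have hTS : normalizerIn S Q ≤ S := inf_le_left
    haveI hTf : Finite ↥(normalizerIn S Q) := finite_of_le hTS
    have hTp : IsPGroup p ↥(normalizerIn S Q) := hS.to_le hTS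
    obtain ⟨E₀, hE₀⟩ := exists_normalizerSystem F hQS
    have hNQ := normalizerSystem_isNormal F hQS hE₀
    have hcon : E₀.IsConstrained p :=
      ⟨isSaturated_normalizerSystem hS F hF hQ E₀ hE₀, Q, hNQ, normalizerSystem_isCentric F hQc hE₀⟩
    obtain ⟨L, iL, ι, hG⟩ := Cfsg.Agent.S5090.result p hTp E₀ hcon
    haveI hLf := model_finite hG
    obtain ⟨P₀, hP₀⟩ := hG.2.2.1
    have hxT : x ∈ normalizerIn S Q := le_normalizerIn hQS hxQ
    have hZT : S ⊓ Subgroup.centralizer (S : Set Ω) ≤ normalizerIn S Q := fun z hz =>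
      centralizerIn_le_normalizerIn S Q ⟨hz.1, Subgroup.centralizer_le (show (Q : Set Ω) ⊆ S from hQS) hz.2⟩
    have hxpc : ι ⟨x, hxT⟩ ∈ pCore p L := by
      refine le_pCore (img_normal hG hNQ) ?_ ⟨⟨x, hxT⟩, hxQ, rfl⟩
      have hp1 : IsPGroup p (Q.subgroupOf (normalizerIn S Q)) := isPGroup_subgroupOf _ (hS.to_le hQS)
      exact hp1.map ι
    have hαE : α ∈ E₀.autGroup Q := by
      rw [normalizerSystem_autGroup F hQS hE₀]
      exact hα
    have hnc : ι ⟨x, hxT⟩ ∉ Subgroup.center L := by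
      intro hc
      have hm := autHom_mem E₀ (le_normalizerIn hQS) hαE
      obtain ⟨g, hg⟩ := (model_realized hG Q (le_normalizerIn hQS) (autHom α) (val_mem E₀ hm)).1 hm
      have h1 := hg ⟨x, hxQ⟩
      have h2 : g * ι ⟨x, hxT⟩ * g⁻¹ = ι ⟨x, hxT⟩ := by
        rw [Subgroup.mem_center_iff.1 hc g]
        group
      have h3 := h1.trans h2
      exact hαx (model_val_eq hG h3)
    obtain ⟨g, hgN, hgx⟩ := hLoc Q hQ hQc E₀ hE₀ hxT (hxZ _ hTS hxT) hZT L P₀ ι hG hP₀ hxpc hnc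
    have hEF₀ : ∀ P, E₀.Hom P ⊆ F.Hom P := fun P φ h => (hE₀ P ▸ h : φ ∈ F.normalizerHom Q P).1
    obtain ⟨β, hβ, hβv⟩ := exists_aut_of_normalizer W hW2 hTp F hEF₀ hG P₀ hP₀ hgN
    refine ⟨β, hβ, fun hgood => ?_⟩
    have hxU : x ∈ UU W (normalizerIn S Q) := ⟨⟨x, hxT⟩, hWZ _ hTp (hxZ _ hTS hxT), rfl⟩
    have h1 : ((β ⟨x, hxU⟩ : UU W (normalizerIn S Q)) : Ω) = x := (hgood.2 ⟨x, hxU⟩).1 rfl
    have h2 := hβv ⟨x, hxU⟩
    apply hgx
    rw [← h2]
    congr 2
  have hall := local_to_global hS hF (E := fixSys F hxc) (fun P φ h => h.1) (UU W) (fun T _ => UU_le W T)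
    (fun T hT => normalizerIn_le_UU W hW2 hS hT) hTop hBase hL
  exact mem_center_of_fixed F hS hF hxS (fun P φ hφ h => ((hall P hφ).2 ⟨x, h⟩).1 rfl)

end functor

section thompson

/-- The Thompson functor. -/
abbrev WJ (Q : Type u) [Group Q] : Subgroup Q := thompsonSubgroupA Q

variable {p : ℕ} [Fact p.Prime]

theorem wJ_map (Q R : Type u) [Group Q] [Group R] [Finite Q] (_ : IsPGroup p Q) (φ : Q ≃* R) :
    (WJ Q).map φ.toMonoidHom = WJ R := by
  rw [WJ, WJ, thompsonSubgroupA_eq, thompsonSubgroupA_eq, jOf_map_equiv]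
  congr 1
  exact Subgroup.map_top_of_surjective _ φ.surjective

theorem center_le_wJ (Q : Type u) [Group Q] [Finite Q] (_ : IsPGroup p Q) :
    Subgroup.center Q ≤ WJ Q := by
  rw [WJ, thompsonSubgroupA_eq]
  intro z hz
  obtain ⟨A, hA⟩ := exists_isMaxIn 0 (⊤ : Subgroup Q)
  exact hA.le_jOf (hA.mem_of_commute (Subgroup.mem_top z) (by simp)
    (fun a _ => Subgroup.mem_center_iff.1 hz a))

variable {L : Type u} [Group L] [Finite L]

/-- The group theorem, in the form of the local condition. -/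
theorem exists_move (P₀ : Sylow p L) {y : L} (hy : y ∈ pCore p L) (hnc : y ∉ Subgroup.center L)
    (hC : p ≠ 2 ∨ (∃ z ∈ (P₀ : Subgroup L) ⊓ Subgroup.centralizer ((P₀ : Subgroup L) : Set L), z ^ p = y) ∨
      ¬ Cfsg.Involves (Equiv.Perm (Fin 4)) L) :
    ∃ g ∈ Subgroup.normalizer (((WJ ↥(P₀ : Subgroup L)).map (P₀ : Subgroup L).subtype : Subgroup L) : Set L),
      g * y * g⁻¹ ≠ y := by
  by_contra hno
  push Not at hno
  apply hnc
  have hE : (WJ ↥(P₀ : Subgroup L)).map (P₀ : Subgroup L).subtype = jOf 0 (P₀ : Subgroup L) :=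
    thompsonSubgroupAOf_eq _
  rw [hE] at hno
  have hP : pCore p L ≤ (P₀ : Subgroup L) := pCore_le_sylow P₀
  have hn : (pCore p L).Normal := pCore_normal p L
  refine Subgroup.mem_center_iff.2 fun g => ?_
  have h1 := Cfsg.Agent.Lib.PLocal.WeakClosure.weakly_closed P₀ y (hP hy)
    (fun m hm => by
      have := hno m hm
      rwa [mul_inv_eq_iff_eq_mul] at this) hC g (hP (hn.conj_mem y hy g))
  rwa [mul_inv_eq_iff_eq_mul] at h1

end thompson

section main

variable {Ω : Type u} [Group Ω] {S : Subgroup Ω} [Finite S] {p : ℕ} [Fact p.Prime]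

/-- **Glauberman's theorem for fusion systems**, the first part. -/
theorem mem_center_of_power (hS : IsPGroup p S) (F : FusionSystem S) (hF : F.IsSaturated p)
    (N : FusionSystem (normalizerIn S (UU WJ S))) (hN : F.IsNormalizerSystem (UU WJ S) N) {x : Ω}
    (hx : x ∈ N.center) {z : Ω} (hzS : z ∈ S) (hz : ∀ s ∈ S, s * z = z * s) (hzx : z ^ p = x) :
    x ∈ F.center := by
  refine mem_center_of_local_model WJ wJ_map center_le_wJ hS F hF N hN hx ?_
  intro Q hQ hQc E₀ hE₀ hxT hxc hZT L _ _ P₀ ι hG hP₀ hxp hxnc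
  refine exists_move P₀ hxp hxnc (Or.inr (Or.inl ?_))
  have hzT : z ∈ normalizerIn S Q := hZT ⟨hzS, Subgroup.mem_centralizer_iff.2 fun s hs => hz s hs⟩
  refine ⟨ι ⟨z, hzT⟩, Subgroup.mem_inf.2 ⟨?_, ?_⟩, ?_⟩
  · rw [hP₀]
    exact ⟨_, rfl⟩
  · rw [Subgroup.mem_centralizer_iff]
    intro g hg
    rw [SetLike.mem_coe, hP₀] at hg
    obtain ⟨t, rfl⟩ := hg
    rw [← map_mul, ← map_mul]
    congr 1
    exact Subtype.ext (hz t (t.2.1))
  · rw [← map_pow]
    congr 1
    exact Subtype.ext hzx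

/-- **Glauberman's theorem for fusion systems**, the second part. -/
theorem mem_center_of_free (hS : IsPGroup p S) (F : FusionSystem S) (hF : F.IsSaturated p)
    (N : FusionSystem (normalizerIn S (UU WJ S))) (hN : F.IsNormalizerSystem (UU WJ S) N) {x : Ω}
    (hx : x ∈ N.center) (hC : p ≠ 2 ∨ F.IsSectionFree p (Equiv.Perm (Fin 4))) :
    x ∈ F.center := by
  refine mem_center_of_local_model WJ wJ_map center_le_wJ hS F hF N hN hx ?_
  intro Q hQ hQc E₀ hE₀ hxT hxc hZT L _ _ P₀ ι hG hP₀ hxp hxnc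
  refine exists_move P₀ hxp hxnc ?_
  rcases hC with hC | hC
  · exact Or.inl hC
  · exact Or.inr (Or.inr (hC Q hQ hQc E₀ hE₀ L ι hG))

end main

end Cfsg.Agent.Lib.PLocal.FusionWC
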