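/-
The centre of a saturated fusion system over a finite `p`-group, `p` odd, is a direct factor of
the centre of `S`: it is the group of fixed points of `Aut_F(J(S))` on `Z(J(S))` by Glauberman's
theorem, and the trace from the fixed points of a Sylow `p`-subgroup provides a retraction.
-/
import Cfsg.Agent.Lib.PLocal.FusionWC

set_option autoImplicit false
set_option linter.unusedSectionVars false

namespace Cfsg.Agent.Lib.PLocal.CenterFactor

open Cfsg Cfsg.FusionSystem Cfsg.Agent.Lib.Fusion.Basic Cfsg.Agent.Lib.Fusion.Saturation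
  Cfsg.Agent.Lib.Fusion.Saturation2 Cfsg.Agent.Lib.Fusion.Center
  Cfsg.Agent.Lib.Fusion.ModelNormalizer Cfsg.Agent.Lib.Fusion.NormSystem
  Cfsg.Agent.Lib.Core.Basic Cfsg.Agent.Lib.FusionExt.Basic Cfsg.Agent.Lib.Fusion.KSystem
  Cfsg.Agent.Lib.Fusion.WeakClosure Cfsg.Agent.Lib.PLocal.FusionWC
open Cfsg.Agent.Lib.PLocal.Thompson

universe u

section Trace

variable {M Γ : Type*} [CommGroup M] [Group Γ] (ρ : Γ →* MulAut M)

/-- The fixed points of a subgroup. -/
def fixS (H : Subgroup Γ) : Subgroup M where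
  carrier := {m | ∀ g ∈ H, ρ g m = m}
  mul_mem' := by
    intro a b ha hb g hg
    rw [map_mul, ha g hg, hb g hg]
  one_mem' := by
    intro g _
    exact map_one _
  inv_mem' := by
    intro a ha g hg
    rw [map_inv, ha g hg]

lemma mem_fixS {H : Subgroup Γ} {m : M} : m ∈ fixS ρ H ↔ ∀ g ∈ H, ρ g m = m := Iff.rfl

variable [Finite M] [Finite Γ]

/-- The trace gives a retraction onto the fixed points. -/
theorem exists_complement_fix {p : ℕ} [Fact p.Prime] (hM : IsPGroup p M) (R : Subgroup Γ)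
    (hR : ¬ p ∣ R.index) :
    ∃ K : Subgroup M, K ≤ fixS ρ R ∧ fixS ρ ⊤ ⊓ K = ⊥ ∧ fixS ρ ⊤ ⊔ K = fixS ρ R := by
  classical
  haveI : Fintype (Γ ⧸ R) := Fintype.ofFinite _
  have hp : p.Prime := Fact.out
  set n : ℕ := R.index with hn
  have hnc : Fintype.card (Γ ⧸ R) = n := by
    rw [hn, Subgroup.index, Nat.card_eq_fintype_card]
  obtain ⟨N, hN⟩ := IsPGroup.iff_card.1 hM
  have hcop : Nat.Coprime n (Nat.card M * p) := by
    rw [hN, ← pow_succ]
    exact Nat.Coprime.pow_right _ ((Nat.Prime.coprime_iff_not_dvd hp).2 hR).symm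
  have h1lt : 1 < Nat.card M * p := by
    have := hp.one_lt
    have h2 : 0 < Nat.card M := Nat.card_pos
    nlinarith
  obtain ⟨n', -, hn'⟩ := Nat.exists_mul_mod_eq_one_of_coprime hcop h1lt
  have hpow : ∀ z : M, (z ^ n) ^ n' = z := by
    intro z
    have h2 : z ^ (Nat.card M * p) = 1 := by
      rw [pow_mul, pow_card_eq_one', one_pow]
    rw [← pow_mul, ← Nat.div_add_mod (n * n') (Nat.card M * p), hn', pow_add, pow_mul, h2, one_pow,
      one_mul, pow_one]
  let π : M →* M := MonoidHom.mk' (fun z => (∏ q : Γ ⧸ R, ρ q.out z) ^ n') (by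
    intro a b
    simp only [map_mul, Finset.prod_mul_distrib, mul_pow])
  have hπ : ∀ z, π z = (∏ q : Γ ⧸ R, ρ q.out z) ^ n' := fun z => rfl
  have hfixtop : ∀ z ∈ fixS ρ ⊤, π z = z := by
    intro z hz
    rw [hπ]
    have h2 : ∏ q : Γ ⧸ R, ρ q.out z = z ^ n := by
      have h3 : ∀ q : Γ ⧸ R, ρ q.out z = z := fun q => hz _ (Subgroup.mem_top _)
      simp_rw [h3]
      rw [Finset.prod_const, Finset.card_univ, hnc]
    rw [h2, hpow]
  have hinv : ∀ z ∈ fixS ρ R, π z ∈ fixS ρ ⊤ := by
    intro z hz g _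
    rw [hπ, map_pow, map_prod]
    congr 1
    have h2 : ∀ q : Γ ⧸ R, ρ g (ρ q.out z) = ρ (g • q).out z := by
      intro q
      have h3 : ((g • q).out : Γ ⧸ R) = ((g * q.out : Γ) : Γ ⧸ R) := by
        rw [QuotientGroup.out_eq']
        conv_lhs => rw [← QuotientGroup.out_eq' q]
        rfl
      have h4 : (g • q).out⁻¹ * (g * q.out) ∈ R := QuotientGroup.eq.1 h3
      have h5 := hz _ h4
      have h6 : g * q.out = (g • q).out * ((g • q).out⁻¹ * (g * q.out)) := by group
      rw [← MulAut.mul_apply, ← map_mul, h6, map_mul, MulAut.mul_apply, h5]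
    simp_rw [h2]
    exact Fintype.prod_equiv (MulAction.toPerm g) _ _ (fun q => rfl)
  have hle : fixS ρ ⊤ ≤ fixS ρ R := fun z hz g _ => hz g (Subgroup.mem_top g)
  refine ⟨π.ker ⊓ fixS ρ R, inf_le_right, ?_, ?_⟩
  · rw [eq_bot_iff]
    rintro z ⟨h1, h2, -⟩
    rw [Subgroup.mem_bot, ← hfixtop z h1]
    exact h2
  · apply le_antisymm
    · exact sup_le hle inf_le_right
    · intro z hz
      have h1 := hinv z hz
      have h2 : z = π z * ((π z)⁻¹ * z) := by group
      rw [h2]
      refine Subgroup.mul_mem_sup h1 (Subgroup.mem_inf.2 ⟨?_, ?_⟩)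
      · rw [MonoidHom.mem_ker, map_mul, map_inv, hfixtop _ h1]
        group
      · exact mul_mem (inv_mem (hle h1)) hz

end Trace

section CenterAut

/-- Automorphisms restrict to the centre. -/
def centerAut (X : Type*) [Group X] : MulAut X →* MulAut (Subgroup.center X) where
  toFun f :=
    { toFun := fun z => ⟨f z, Subgroup.mem_center_iff.2 fun g => by
        obtain ⟨g', rfl⟩ := f.surjective g
        rw [← map_mul, ← map_mul, Subgroup.mem_center_iff.1 z.2 g']⟩
      invFun := fun z => ⟨f.symm z, Subgroup.mem_center_iff.2 fun g => by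
        obtain ⟨g', rfl⟩ := f.symm.surjective g
        rw [← map_mul, ← map_mul, Subgroup.mem_center_iff.1 z.2 g']⟩
      left_inv := fun z => Subtype.ext (f.symm_apply_apply _)
      right_inv := fun z => Subtype.ext (f.apply_symm_apply _)
      map_mul' := fun a b => Subtype.ext (map_mul f _ _) }
  map_one' := by
    ext z
    rfl
  map_mul' f g := by
    ext z
    rfl

@[simp] lemma centerAut_apply_coe (X : Type*) [Group X] (f : MulAut X) (z : Subgroup.center X) :
    ((centerAut X f z : Subgroup.center X) : X) = f z := rfl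

end CenterAut

section main

variable {Ω : Type u} [Group Ω] {S : Subgroup Ω} [Finite S] {p : ℕ} [Fact p.Prime]

/-- The subgroup `J(S)` is fully normalized. -/
lemma isFullyNormalized_UU (hS : IsPGroup p S) (F : FusionSystem S) :
    F.IsFullyNormalized (UU WJ S) := by
  have hSN : S ≤ normalizerIn S (UU WJ S) := fun s hs =>
    normalizerIn_le_UU WJ wJ_map hS le_rfl ⟨hs, Subgroup.le_normalizer hs⟩
  refine ⟨UU_le WJ S, fun Q _ => ?_⟩
  haveI : Finite ↥(normalizerIn S (UU WJ S)) := finite_of_le inf_le_left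
  exact (Subgroup.card_le_of_le (inf_le_left : normalizerIn S Q ≤ S)).trans
    (Subgroup.card_le_of_le hSN)

/-- **`Z(F)` is a direct factor of `Z(S)`.** -/
theorem exists_complement (hp : p ≠ 2) (hS : IsPGroup p S) (F : FusionSystem S)
    (hF : F.IsSaturated p) :
    ∃ K : Subgroup Ω, K ≤ (S ⊓ Subgroup.centralizer (S : Set Ω)) ∧ F.center ⊓ K = ⊥ ∧
      F.center ⊔ K = (S ⊓ Subgroup.centralizer (S : Set Ω)) := by
  classical
  set J : Subgroup Ω := UU WJ S with hJdef
  have hJS : J ≤ S := UU_le WJ S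
  haveI hJf : Finite J := finite_of_le hJS
  have hJp : IsPGroup p J := hS.to_le hJS
  have hfn : F.IsFullyNormalized J := isFullyNormalized_UU hS F
  have hSN : S ≤ normalizerIn S J := fun s hs =>
    normalizerIn_le_UU WJ wJ_map hS le_rfl ⟨hs, Subgroup.le_normalizer hs⟩
  obtain ⟨-, R, hR⟩ := isFullyAutomized_of_isFullyNormalized F hS hF hfn
  let Γ : Subgroup (MulAut J) := F.autGroup J
  haveI : Finite (MulAut J) := inferInstance
  let ι : Subgroup.center J →* Ω := J.subtype.comp (Subgroup.center J).subtype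
  have hι : Function.Injective ι := J.subtype_injective.comp (Subgroup.subtype_injective _)
  let ρ : Γ →* MulAut (Subgroup.center J) := (centerAut J).comp Γ.subtype
  have hρ : ∀ (g : Γ) (m : Subgroup.center J), ((ρ g m : Subgroup.center J) : J) = (g : MulAut J) m :=
    fun g m => rfl
  have hM : IsPGroup p (Subgroup.center J) := hJp.to_subgroup _
  obtain ⟨K, hK1, hK2, hK3⟩ := exists_complement_fix ρ hM (R : Subgroup Γ) R.not_dvd_index
  -- identification of the fixed points
  have hmemJ : ∀ z ∈ S ⊓ Subgroup.centralizer (S : Set Ω), ∃ hz : z ∈ J,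
      (⟨z, hz⟩ : J) ∈ Subgroup.center J := by
    intro z hz
    have hzc : (⟨z, hz.1⟩ : S) ∈ Subgroup.center S := Subgroup.mem_center_iff.2 fun g =>
      Subtype.ext (Subgroup.mem_centralizer_iff.1 hz.2 g g.2)
    have hzJ : z ∈ J := ⟨⟨z, hz.1⟩, center_le_wJ (p := p) S hS hzc, rfl⟩
    refine ⟨hzJ, Subgroup.mem_center_iff.2 fun g => Subtype.ext ?_⟩
    exact Subgroup.mem_centralizer_iff.1 hz.2 g (hJS g.2)
  have hfixR : (fixS ρ (R : Subgroup Γ)).map ι = S ⊓ Subgroup.centralizer (S : Set Ω) := by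
    apply le_antisymm
    · rintro _ ⟨m, hm, rfl⟩
      refine Subgroup.mem_inf.2 ⟨hJS (m : J).2, Subgroup.mem_centralizer_iff.2 fun s hs => ?_⟩
      have hsN := (hSN hs).2
      have hα : normAct J hsN ∈ Γ :=
        autInducedBy_le_autGroup F hJS (normAct_mem_autInducedBy S J hsN hs)
      have hαR : (⟨normAct J hsN, hα⟩ : Γ) ∈ (R : Subgroup Γ) := by
        rw [hR, Subgroup.mem_subgroupOf]
        exact normAct_mem_autInducedBy S J hsN hs
      have h1 := hm _ hαR
      have h2 : s * (ι m) * s⁻¹ = ι m := by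
        have := congrArg (fun u : Subgroup.center J => (((u : Subgroup.center J) : J) : Ω)) h1
        exact this
      rwa [mul_inv_eq_iff_eq_mul] at h2
    · intro z hz
      obtain ⟨hzJ, hzc⟩ := hmemJ z hz
      refine ⟨⟨⟨z, hzJ⟩, hzc⟩, ?_, rfl⟩
      intro g hg
      rw [hR, Subgroup.mem_subgroupOf] at hg
      obtain ⟨s, hs, hsg⟩ := (mem_autInducedBy_iff S J _).1 hg
      apply Subtype.ext
      apply Subtype.ext
      show (((g : MulAut J) ⟨z, hzJ⟩ : J) : Ω) = z
      rw [hsg, Subgroup.mem_centralizer_iff.1 hz.2 s hs]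
      group
  -- the normalizer system
  obtain ⟨N, hN⟩ := exists_normalizerSystem F hJS
  have hNs := isSaturated_normalizerSystem hS F hF hfn N hN
  have hfixT : (fixS ρ (⊤ : Subgroup Γ)).map ι = F.center := by
    apply le_antisymm
    · rintro _ ⟨m, hm, rfl⟩
      refine mem_center_of_free hS F hF N hN ?_ (Or.inl hp)
      haveI hNf : Finite ↥(normalizerIn S J) := finite_of_le inf_le_left
      have hNp : IsPGroup p ↥(normalizerIn S J) := hS.to_le inf_le_left
      have hxJ : ι m ∈ J := (m : J).2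
      refine mem_center_of_fixed N hNp hNs (le_normalizerIn hJS hxJ) ?_
      intro P φ hφ hxP
      obtain ⟨h1, hPN, hval, ψ, hψ, hψ1, hψ2⟩ := (hN P ▸ hφ : φ ∈ F.normalizerHom J P)
      have hres : ψ.comp (Subgroup.inclusion (le_sup_right : J ≤ P ⊔ J)) ∈ F.Hom J :=
        restrict_mem F le_sup_right hψ
      have hr : (ψ.comp (Subgroup.inclusion (le_sup_right : J ≤ P ⊔ J))).range = J := by
        refine Eq.trans ?_ hψ2
        ext y
        constructor
        · rintro ⟨t, rfl⟩
          exact ⟨⟨t, Subgroup.mem_sup_right t.2⟩, t.2, rfl⟩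
        · rintro ⟨t, ht, rfl⟩
          exact ⟨⟨t, ht⟩, rfl⟩
      obtain ⟨α, hα, hαv⟩ := exists_aut_of_range F hres hr
      have h2 := hm ⟨α, hα⟩ (Subgroup.mem_top _)
      have h3 : ((α (m : J) : J) : Ω) = ι m := by
        have := congrArg (fun u : Subgroup.center J => (((u : Subgroup.center J) : J) : Ω)) h2
        exact this
      have h4 := hαv (m : J)
      rw [h3] at h4
      have h5 := hψ1 ⟨ι m, hxP⟩
      have h6 : φ ⟨ι m, hxP⟩ = ψ ⟨ι m, Subgroup.mem_sup_right hxJ⟩ := h5.symm
      rw [h6]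
      exact h4.symm
    · intro z hz
      have hzS := center_le F hz
      have hzZ : z ∈ S ⊓ Subgroup.centralizer (S : Set Ω) := by
        refine Subgroup.mem_inf.2 ⟨hzS, Subgroup.mem_centralizer_iff.2 fun s hs => ?_⟩
        have h1 := map_of_mem_center F (F.conj_mem (le_refl S) hs) hzS hz
        have h2 : s * z * s⁻¹ = z := h1
        rwa [mul_inv_eq_iff_eq_mul] at h2
      obtain ⟨hzJ, hzc⟩ := hmemJ z hzZ
      refine ⟨⟨⟨z, hzJ⟩, hzc⟩, ?_, rfl⟩
      intro g _
      apply Subtype.ext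
      apply Subtype.ext
      have h1 := map_of_mem_center F (autHom_mem F hJS g.2) hzJ hz
      exact h1
  refine ⟨K.map ι, ?_, ?_, ?_⟩
  · rw [← hfixR]
    exact Subgroup.map_mono hK1
  · rw [← hfixT, ← Subgroup.map_inf _ _ _ hι, hK2, Subgroup.map_bot]
  · rw [← hfixT, ← Subgroup.map_sup, hK3, hfixR]

end main

end Cfsg.Agent.Lib.PLocal.CenterFactor
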