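/-
The fusion system of a `Qd(p)`-free group is solvable: factor systems by strongly closed subgroups are
fusion systems of sections, in which `Z(J)` is normal in the fusion system.
-/
import Cfsg.Agent.Lib.ZJStrong.Section
import Cfsg.Agent.Lib.PLocal.QdSection
import Cfsg.Agent.Lib.PLocal.ThompsonFunctor
import Cfsg.Agent.Lib.FusionExt.Factor

set_option autoImplicit false
set_option linter.unusedSectionVars false

namespace Cfsg.Agent.Lib.PLocal.SolvableSystem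

open Subgroup Cfsg Cfsg.FusionSystem
open Cfsg.Agent.Lib.PLocal.ZJ Cfsg.Agent.Lib.PLocal.ZJConstrained
  Cfsg.Agent.Lib.PLocal.ThompsonFunctor Cfsg.Agent.Lib.PLocal.QdSection
  Cfsg.Agent.Lib.ZJStrong.Section

universe u

variable {p : ℕ} [Fact p.Prime]

/-- Glauberman's `ZJ`-control for `Qd(p)`-free groups. -/
lemma zj_control (hp : p ≠ 2) {X : Type u} [Group X] [Finite X] (hqd : ¬ Involves ↥(qd p) X)
    (Q : Sylow p X) (A : Set X) (hA : A ⊆ (Q : Subgroup X)) :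
    ControlsStrongFusionOf (normalizer (Z₀ 0 (Q : Subgroup X) : Set X)) (Q : Subgroup X) A := by
  refine control_strong hp (e := 0) (Or.inl rfl) (fun (X : Type u) [Group X] => ¬ Involves ↥(qd p) X)
    ?_ ?_ ?_ hqd Q (Q : Subgroup X) ⟨le_rfl, fun _ _ _ h => h⟩ A hA
  · intro X _ H hX h
    exact hX (involves_of_injective h H.subtype H.subtype_injective)
  · intro X _ N _ hX h
    exact hX (involves_of_surjective h (QuotientGroup.mk' N) (QuotientGroup.mk'_surjective N))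
  · intro X _ _ hX
    exact isNormalizerPStable_of_not_involves hp hX

variable {G : Type u} [Group G] [Finite G]

/-- The fusion system of a `Qd(p)`-free group is solvable. -/
theorem isSolvableSystem (hp : p ≠ 2) (hqd : ¬ Involves ↥(qd p) G) (P : Sylow p G) :
    (groupFusionSystem (P : Subgroup G)).IsSolvableSystem := by
  classical
  intro R hRsc hne _ E hE
  set S : Subgroup G := (P : Subgroup G) with hS
  have hRS : R ≤ S := hRsc.1
  have hSp : IsPGroup p S := P.isPGroup'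
  -- the section
  set N₀ : Subgroup S := R.subgroupOf S with hN₀
  have hN₀n : N₀.Normal := inferInstance
  let θ : S →* (S ⧸ N₀) := QuotientGroup.mk' N₀
  have hθs : Function.Surjective θ := QuotientGroup.mk'_surjective N₀
  have hθ1 : ∀ s : S, θ s = 1 ↔ (s : G) ∈ R := by
    intro s
    rw [show θ s = ((s : S) : S ⧸ N₀) from rfl, QuotientGroup.eq_one_iff, hN₀, mem_subgroupOf]
  -- `S` normalizes `R`
  have hSN : S ≤ normalizer (R : Set G) := by
    intro s hs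
    rw [mem_normalizer_iff]
    intro r
    constructor
    · intro hr
      have h1 : (⟨r, hRS hr⟩ : S) ∈ N₀ := hr
      have h2 := hN₀n.conj_mem _ h1 ⟨s, hs⟩
      exact h2
    · intro hr
      have hrS : r ∈ S := by
        have h1 := S.mul_mem (S.mul_mem (S.inv_mem hs) (hRS hr)) hs
        have e : s⁻¹ * (s * r * s⁻¹) * s = r := by group
        rwa [e] at h1
      have h1 : (⟨s * r * s⁻¹, hRS hr⟩ : S) ∈ N₀ := hr
      have h2 := hN₀n.conj_mem _ h1 ⟨s⁻¹, S.inv_mem hs⟩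
      have h3 : s⁻¹ * (s * r * s⁻¹) * s⁻¹⁻¹ ∈ R := h2
      have e : s⁻¹ * (s * r * s⁻¹) * s⁻¹⁻¹ = r := by group
      rwa [e] at h3
  -- the group `G₁ = N_G(R) / R`
  set N : Subgroup G := normalizer (R : Set G) with hN
  have hRN : R ≤ N := le_normalizer
  have hRNn : (R.subgroupOf N).Normal := Subgroup.normal_in_normalizer
  let f : N →* (N ⧸ R.subgroupOf N) := QuotientGroup.mk' (R.subgroupOf N)
  have hfs : Function.Surjective f := QuotientGroup.mk'_surjective _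
  have hf1 : ∀ x : N, f x = 1 ↔ (x : G) ∈ R := by
    intro x
    rw [show f x = ((x : N) : N ⧸ R.subgroupOf N) from rfl, QuotientGroup.eq_one_iff, mem_subgroupOf]
  have hqd₁ : ¬ Involves ↥(qd p) (N ⧸ R.subgroupOf N) := by
    intro h
    exact hqd (involves_of_injective (involves_of_surjective h f hfs) N.subtype N.subtype_injective)
  let ι : S →* (N ⧸ R.subgroupOf N) := f.comp (Subgroup.inclusion hSN)
  have hι1 : ∀ s : S, ι s = 1 ↔ (s : G) ∈ R := fun s => hf1 _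
  let τ : (S ⧸ N₀) →* (N ⧸ R.subgroupOf N) := QuotientGroup.lift N₀ ι (by
    intro s hs
    exact (hι1 s).2 hs)
  have hτθ : ∀ s : S, τ (θ s) = ι s := fun s => rfl
  have hτ : Function.Injective τ := by
    rw [injective_iff_map_eq_one]
    intro t ht
    obtain ⟨s, rfl⟩ := hθs t
    rw [hτθ] at ht
    exact (hθ1 s).2 ((hι1 s).1 ht)
  let P₁ : Sylow p (N ⧸ R.subgroupOf N) := (P.subtype hSN).mapSurjective hfs
  have hP₁ : (P₁ : Subgroup (N ⧸ R.subgroupOf N)) = (S.subgroupOf N).map f := by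
    rw [Sylow.coe_mapSurjective, Sylow.coe_subtype]
  have hrange : (⊤ : Subgroup (S ⧸ N₀)).map τ = P₁ := by
    rw [hP₁]
    ext y
    constructor
    · rintro ⟨t, -, rfl⟩
      obtain ⟨s, rfl⟩ := hθs t
      exact ⟨⟨s, hSN s.2⟩, s.2, rfl⟩
    · rintro ⟨x, hx, rfl⟩
      exact ⟨θ ⟨x, hx⟩, mem_top _, rfl⟩
  have hmemS : ∀ z : N, f z ∈ (P₁ : Subgroup (N ⧸ R.subgroupOf N)) → (z : G) ∈ S := by
    intro z hz
    rw [hP₁] at hz
    obtain ⟨x, hx, hxz⟩ := hz
    have h1 : f (x⁻¹ * z) = 1 := by rw [map_mul, map_inv, hxz, inv_mul_cancel]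
    have h2 : ((x⁻¹ * z : N) : G) ∈ R := (hf1 _).1 h1
    have h3 : (x : G) ∈ S := hx
    have h4 := S.mul_mem h3 (hRS h2)
    have e : (x : G) * ((x⁻¹ * z : N) : G) = z := by
      simp
    rwa [e] at h4
  -- the subgroup
  have hTp : IsPGroup p (⊤ : Subgroup (S ⧸ N₀)) := by
    rintro ⟨t, ht⟩
    obtain ⟨s, rfl⟩ := hθs t
    obtain ⟨k, hk⟩ := hSp s
    refine ⟨k, Subtype.ext ?_⟩
    show θ s ^ p ^ k = 1
    rw [← map_pow, hk, map_one]
  have hTne : (⊤ : Subgroup (S ⧸ N₀)) ≠ ⊥ := by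
    intro h
    apply hne
    refine le_antisymm hRS fun s hs => ?_
    have h1 : θ ⟨s, hs⟩ ∈ (⊥ : Subgroup (S ⧸ N₀)) := by
      rw [← h]
      exact mem_top _
    exact (hθ1 _).1 (Subgroup.mem_bot.1 h1)
  set W' : Subgroup (S ⧸ N₀) := Z₀ 0 (⊤ : Subgroup (S ⧸ N₀)) with hW'
  have hWne : W' ≠ ⊥ := Z₀_ne_bot hTp hTne 0 (Or.inl rfl)
  have hWτ : W'.map τ = Z₀ 0 (P₁ : Subgroup (N ⧸ R.subgroupOf N)) := by
    rw [hW', Z₀_map_of_inf τ ⊤ (by
      rw [(MonoidHom.ker_eq_bot_iff τ).2 hτ, inf_bot_eq]), hrange]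
  -- `W'` is normal in the factor system
  have hnormal : E.IsNormal W' := by
    refine ⟨le_top, ?_⟩
    intro P' φ' hφ'
    obtain ⟨-, φ, hφ, hind⟩ := (hE.2.2.2 P' φ').1 hφ'
    obtain ⟨hAS, hφS, g, hg⟩ := hφ
    obtain ⟨hA', hφ₁, hP'', hindeq⟩ := hind
    have hRA : R ≤ preimageAlong θ P' := by
      intro r hr
      refine ⟨⟨r, hRS hr⟩, ?_, rfl⟩
      show θ ⟨r, hRS hr⟩ ∈ P'
      rw [(hθ1 _).2 hr]
      exact one_mem _
    have hgS : ∀ a ∈ preimageAlong θ P', g * a * g⁻¹ ∈ S := by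
      intro a ha
      rw [← hg ⟨a, ha⟩]
      exact hφS ⟨a, ha⟩
    -- `g` normalizes `R`
    have hgN : g ∈ N := by
      refine Cfsg.Agent.Lib.Core.CoprimeMap.mem_normalizer_of_forall_conj_mem ?_
      intro r hr
      let φR : R →* G := (MulAut.conj g).toMonoidHom.comp R.subtype
      have hφR : φR ∈ (groupFusionSystem S).Hom R :=
        ⟨hRS, fun x => hgS _ (hRA x.2), g, fun x => rfl⟩
      exact hRsc.2 R le_rfl φR hφR ⟨r, hr⟩
    let g₁ : (N ⧸ R.subgroupOf N) := f ⟨g, hgN⟩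
    have hg₁ : ∀ (s : S) (hs : (s : G) ∈ preimageAlong θ P'), g₁ * ι s * g₁⁻¹ = ι ⟨g * s * g⁻¹, hgS _ hs⟩ := by
      intro s hs
      show f ⟨g, hgN⟩ * f _ * (f ⟨g, hgN⟩)⁻¹ = f _
      rw [← map_inv, ← map_mul, ← map_mul]
      rfl
    -- control in `G₁`
    have hA₁ : (τ '' (P' : Set (S ⧸ N₀))) ⊆ (P₁ : Subgroup (N ⧸ R.subgroupOf N)) := by
      rintro _ ⟨y, -, rfl⟩
      rw [← hrange]
      exact ⟨y, mem_top _, rfl⟩
    have himg : (fun a => g₁ * a * g₁⁻¹) '' (τ '' (P' : Set (S ⧸ N₀))) ⊆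
        (P₁ : Subgroup (N ⧸ R.subgroupOf N)) := by
      rintro _ ⟨_, ⟨y, hy, rfl⟩, rfl⟩
      obtain ⟨s, rfl⟩ := hθs y
      have hs : (s : G) ∈ preimageAlong θ P' := ⟨s, hy, rfl⟩
      show g₁ * τ (θ s) * g₁⁻¹ ∈ _
      rw [hτθ, hg₁ s hs, ← hτθ, ← hrange]
      exact ⟨_, mem_top _, rfl⟩
    obtain ⟨h₁, hh₁N, hh₁⟩ := (zj_control hp hqd₁ P₁ _ hA₁).2 g₁ himg
    obtain ⟨h, rfl⟩ := hfs h₁
    -- the extension
    set Y : Subgroup (S ⧸ N₀) := P' ⊔ W' with hY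
    have hW₁P₁ : ∀ w ∈ W', τ w ∈ (P₁ : Subgroup (N ⧸ R.subgroupOf N)) := by
      intro w _
      rw [← hrange]
      exact ⟨w, mem_top _, rfl⟩
    have hh₁W : ∀ w ∈ W', f h * τ w * (f h)⁻¹ ∈ W'.map τ := by
      intro w hw
      rw [hWτ]
      have h1 : τ w ∈ W'.map τ := ⟨w, hw, rfl⟩
      rw [hWτ] at h1
      exact (mem_normalizer_iff.1 hh₁N _).1 h1
    have hYP : ∀ y ∈ Y, f h * τ y * (f h)⁻¹ ∈ (P₁ : Subgroup (N ⧸ R.subgroupOf N)) := by
      have hle : Y ≤ ((P₁ : Subgroup (N ⧸ R.subgroupOf N)).comap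
          (MulAut.conj (f h)).toMonoidHom).comap τ := by
        refine sup_le ?_ ?_
        · intro y hy
          show f h * τ y * (f h)⁻¹ ∈ (P₁ : Subgroup (N ⧸ R.subgroupOf N))
          rw [← hh₁ _ ⟨y, hy, rfl⟩]
          exact himg ⟨_, ⟨y, hy, rfl⟩, rfl⟩
        · intro w hw
          show f h * τ w * (f h)⁻¹ ∈ (P₁ : Subgroup (N ⧸ R.subgroupOf N))
          have h1 := hh₁W w hw
          rw [hWτ] at h1
          exact Z₀_le_self _ h1
      exact fun y hy => hle hy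
    have hYr : ∀ y : Y, f h * τ y * (f h)⁻¹ ∈ τ.range := by
      intro y
      have h1 := hYP y y.2
      rw [← hrange] at h1
      obtain ⟨t, -, ht⟩ := h1
      exact ⟨t, ht⟩
    let ψ₀ : Y →* τ.range :=
      (((MulAut.conj (f h)).toMonoidHom.comp τ).comp Y.subtype).codRestrict τ.range hYr
    let ψ : Y →* (S ⧸ N₀) := (MonoidHom.ofInjective hτ).symm.toMonoidHom.comp ψ₀
    have hψ : ∀ y : Y, τ (ψ y) = f h * τ y * (f h)⁻¹ := by
      intro y
      exact MonoidHom.apply_ofInjective_symm hτ (ψ₀ y)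
    -- membership in `E`
    have hpre : ∀ x : preimageAlong θ Y, h.1 * (x : G) * h.1⁻¹ ∈ S := by
      rintro ⟨_, s, hs, rfl⟩
      have h1 := hYP _ hs
      rw [hτθ] at h1
      have h2 : h.1 * (s : G) * h.1⁻¹ = ((h * ⟨s, hSN s.2⟩ * h⁻¹ : N) : G) := by
        simp
      show h.1 * (s : G) * h.1⁻¹ ∈ S
      rw [h2]
      apply hmemS
      rw [map_mul, map_mul, map_inv]
      exact h1
    let φ₂ : preimageAlong θ Y →* G :=
      (MulAut.conj h.1).toMonoidHom.comp (preimageAlong θ Y).subtype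
    have hφ₂ : φ₂ ∈ (groupFusionSystem S).Hom (preimageAlong θ Y) :=
      ⟨Cfsg.Agent.Lib.FusionExt.Factor.preimageAlong_le θ Y, hpre, h.1, fun x => rfl⟩
    have hψE : ψ ∈ E.Hom Y := by
      refine (hE.2.2.2 Y ψ).2 ⟨le_top, φ₂, hφ₂, ?_⟩
      refine ⟨Cfsg.Agent.Lib.FusionExt.Factor.preimageAlong_le θ Y, hpre, ?_, ?_⟩
      · rintro ⟨_, s, hs, rfl⟩
        exact hs
      · rintro ⟨_, s, hs, rfl⟩
        apply hτ
        rw [hψ]
        show f h * τ (θ s) * (f h)⁻¹ = τ (θ ⟨h.1 * (s : G) * h.1⁻¹, _⟩)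
        rw [hτθ, hτθ]
        show f h * f ⟨s, hSN s.2⟩ * (f h)⁻¹ = f _
        rw [← map_inv, ← map_mul, ← map_mul]
        rfl
    refine ⟨ψ, hψE, ?_, ?_⟩
    · intro y
      apply hτ
      rw [hψ]
      show f h * τ y * (f h)⁻¹ = τ (φ' y)
      rw [← hh₁ _ ⟨y, y.2, rfl⟩]
      obtain ⟨y₀, hy₀⟩ := y
      obtain ⟨s, rfl⟩ := hθs y₀
      have hs : (s : G) ∈ preimageAlong θ P' := ⟨s, hy₀, rfl⟩
      have e := hindeq ⟨s, hs⟩
      have e1 : φ' ⟨θ s, hy₀⟩ = θ ⟨φ ⟨s, hs⟩, hφ₁ ⟨s, hs⟩⟩ := e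
      rw [e1, hτθ, hτθ]
      show g₁ * ι s * g₁⁻¹ = ι _
      rw [hg₁ s hs]
      congr 1
      apply Subtype.ext
      exact (hg ⟨s, hs⟩).symm
    · apply le_antisymm
      · rintro _ ⟨⟨y, hy⟩, hyW, rfl⟩
        have h1 : y ∈ W' := hyW
        have h2 := hh₁W y h1
        rw [← hψ ⟨y, hy⟩] at h2
        obtain ⟨w, hw, hwe⟩ := h2
        rw [← hτ hwe]
        exact hw
      · intro w hw
        have h1 : τ w ∈ W'.map τ := ⟨w, hw, rfl⟩
        rw [hWτ] at h1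
        have h2 : (f h)⁻¹ * τ w * (f h)⁻¹⁻¹ ∈ W'.map τ := by
          rw [hWτ]
          have hinv := Subgroup.inv_mem _ hh₁N
          exact (mem_normalizer_iff.1 hinv _).1 h1
        obtain ⟨y, hy, hye⟩ := h2
        have hyY : y ∈ Y := mem_sup_right hy
        refine ⟨⟨y, hyY⟩, hy, ?_⟩
        apply hτ
        show τ (ψ ⟨y, hyY⟩) = τ w
        rw [hψ]
        show f h * τ y * (f h)⁻¹ = τ w
        rw [hye]
        group
  intro hcore
  apply hWne
  rw [eq_bot_iff, ← hcore]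
  exact le_sSup hnormal

end Cfsg.Agent.Lib.PLocal.SolvableSystem
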