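/-
Control of strong fusion by a least centric radical subgroup, when automizers of `p`-subgroups have no
section `SL₂(p)`.
-/
import Cfsg.Agent.Lib.ZJStrong.Section
import Cfsg.Agent.Lib.PLocal.SolvableSystem
import Cfsg.Agent.Lib.PReduced.QdChar

set_option autoImplicit false
set_option linter.unusedSectionVars false
set_option linter.unusedVariables false

namespace Cfsg.Agent.Lib.PLocal.ConstrainedQd

open Subgroup Cfsg
open Cfsg.Agent.Lib.ZJ.Reduction Cfsg.Agent.Lib.PLocal.ZJ Cfsg.Agent.Lib.PLocal.ZJConstrained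
  Cfsg.Agent.Lib.PLocal.ThompsonFunctor Cfsg.Agent.Lib.PLocal.QdSection
  Cfsg.Agent.Lib.ZJStrong.Section

universe u

section CtlBasics

variable {G : Type u} [Group G]

/-- `N_G(Q)` controls strong fusion in `S`, in the subgroup form. -/
def Ctl (S Q : Subgroup G) : Prop :=
  ∀ A : Subgroup G, A ≤ S → ∀ g : G, cj g A ≤ S → Good Q A g

lemma good_iff {Z A : Subgroup G} {g : G} :
    Good Z A g ↔ ∃ h ∈ NN Z, ∃ c ∈ centralizer (A : Set G), g = h * c := by
  constructor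
  · rintro ⟨n, hn, hna⟩
    refine ⟨n, hn, n⁻¹ * g, ?_, by group⟩
    rw [mem_centralizer_iff]
    intro a ha
    have h1 := hna a ha
    have h2 : a = n⁻¹ * (g * a * g⁻¹) * n := by rw [← h1]; group
    calc a * (n⁻¹ * g) = (n⁻¹ * (g * a * g⁻¹) * n) * (n⁻¹ * g) := by rw [← h2]
      _ = n⁻¹ * g * a := by group
  · rintro ⟨h, hh, c, hc, rfl⟩
    refine ⟨h, hh, fun a ha => ?_⟩
    have h1 := mem_centralizer_iff.1 hc a ha
    calc h * a * h⁻¹ = h * (a * c) * c⁻¹ * h⁻¹ := by group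
      _ = h * (c * a) * c⁻¹ * h⁻¹ := by rw [h1]
      _ = h * c * a * (h * c)⁻¹ := by group

lemma centralizer_le_normalizer_set (Q : Subgroup G) : centralizer (Q : Set G) ≤ NN Q := by
  intro c hc
  rw [mem_NN]
  intro x
  constructor
  · intro hx
    have h1 := mem_centralizer_iff.1 hc x hx
    have h2 : c * x * c⁻¹ = x := by rw [← h1]; group
    rwa [h2]
  · intro hx
    have h3 := (inv_mem hc)
    have h1 := mem_centralizer_iff.1 h3 _ hx
    have h2 : c⁻¹ * (c * x * c⁻¹) * c⁻¹⁻¹ = c * x * c⁻¹ := by rw [← h1]; group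
    have h4 : c⁻¹ * (c * x * c⁻¹) * c⁻¹⁻¹ = x := by group
    rw [h4] at h2
    rwa [h2]

lemma conj_mem_centralizer {Q : Subgroup G} {y z : G} (hy : y ∈ NN Q)
    (hz : z ∈ centralizer (Q : Set G)) : y * z * y⁻¹ ∈ centralizer (Q : Set G) := by
  rw [mem_centralizer_iff] at hz ⊢
  intro q hq
  have hq' : y⁻¹ * q * y ∈ Q := by
    have := (mem_NN.1 (inv_mem hy) q).1 hq
    simpa using this
  have h5 := hz _ hq'
  calc q * (y * z * y⁻¹) = y * ((y⁻¹ * q * y) * z) * y⁻¹ := by group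
    _ = y * (z * (y⁻¹ * q * y)) * y⁻¹ := by rw [h5]
    _ = y * z * y⁻¹ * q := by group

lemma ctl_bot (S : Subgroup G) : Ctl S ⊥ := by
  intro A _ g _
  refine Good.of_mem ?_
  rw [mem_NN]
  intro x
  simp only [mem_bot]
  constructor
  · rintro rfl; simp
  · intro h
    have : g⁻¹ * (g * x * g⁻¹) * g = g⁻¹ * 1 * g := by rw [h]
    simpa [mul_assoc] using this

lemma cj_le_of_agree {A B : Subgroup G} {g h : G} (hgh : ∀ a ∈ A, h * a * h⁻¹ = g * a * g⁻¹)
    (hg : cj g A ≤ B) : cj h A ≤ B := by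
  rintro _ ⟨a, ha, rfl⟩
  have h1 : h * a * h⁻¹ = g * a * g⁻¹ := hgh a ha
  show h * a * h⁻¹ ∈ B
  rw [h1]
  exact hg (conj_mem_cj ha)

lemma cj_eq_of_agree {A : Subgroup G} {g h : G} (hgh : ∀ a ∈ A, h * a * h⁻¹ = g * a * g⁻¹) :
    cj h A = cj g A := by
  ext x
  constructor
  · rintro ⟨a, ha, rfl⟩
    exact ⟨a, ha, (hgh a ha).symm⟩
  · rintro ⟨a, ha, rfl⟩
    exact ⟨a, ha, hgh a ha⟩

variable [Finite G]

lemma Ctl.le_NN {S Q : Subgroup G} (h : Ctl S Q) (hQ : Q ≤ S) : S ≤ NN Q := by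
  intro s hs
  have hc : cj s Q ≤ S := by
    rintro _ ⟨q, hq, rfl⟩
    show s * q * s⁻¹ ∈ S
    exact S.mul_mem (S.mul_mem hs (hQ hq)) (S.inv_mem hs)
  obtain ⟨n, hn, hna⟩ := h Q hQ s hc
  apply mem_NN_of_cj_le
  rw [← cj_eq_of_agree hna]
  exact (mem_NN_iff_cj.1 hn).le

lemma cj_sup (g : G) (H K : Subgroup G) : cj g (H ⊔ K) = cj g H ⊔ cj g K := Subgroup.map_sup _ _ _

lemma NN_sup_le {H K : Subgroup G} : NN H ⊓ NN K ≤ NN (H ⊔ K) := by
  intro x hx
  apply mem_NN_of_cj_le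
  rw [cj_sup, mem_NN_iff_cj.1 hx.1, mem_NN_iff_cj.1 hx.2]

lemma Ctl.sup {S Q₁ Q₂ : Subgroup G} (h₁ : Ctl S Q₁) (h₂ : Ctl S Q₂) (hQ₁ : Q₁ ≤ S) :
    Ctl S (Q₁ ⊔ Q₂) := by
  intro A hA g hg
  obtain ⟨n₁, hn₁, hna₁⟩ := h₁ A hA g hg
  have hA' : A ⊔ Q₁ ≤ S := sup_le hA hQ₁
  have hc : cj n₁ (A ⊔ Q₁) ≤ S := by
    rw [cj_sup, mem_NN_iff_cj.1 hn₁, cj_eq_of_agree hna₁]
    exact sup_le hg hQ₁
  obtain ⟨n₂, hn₂, hna₂⟩ := h₂ _ hA' n₁ hc
  have hn₂₁ : n₂ ∈ NN Q₁ := by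
    apply mem_NN_of_cj_le
    have h3 : cj n₂ Q₁ = cj n₁ Q₁ :=
      cj_eq_of_agree (fun a ha => hna₂ a (Subgroup.mem_sup_right ha))
    rw [h3, mem_NN_iff_cj.1 hn₁]
  refine ⟨n₂, NN_sup_le ⟨hn₂₁, hn₂⟩, fun a ha => ?_⟩
  rw [hna₂ a (Subgroup.mem_sup_left ha)]
  exact hna₁ a ha

/-- The largest subgroup of `S` whose normalizer controls strong fusion in `S`. -/
lemma exists_max_ctl (S : Subgroup G) :
    ∃ Q, Q ≤ S ∧ Ctl S Q ∧ ∀ Q', Q' ≤ S → Ctl S Q' → Q' ≤ Q := by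
  classical
  have hfin : Finite (Subgroup G) := inferInstance
  let 𝒩 : Set (Subgroup G) := {Q | Q ≤ S ∧ Ctl S Q}
  have hne : 𝒩.Nonempty := ⟨⊥, bot_le, ctl_bot S⟩
  obtain ⟨Q, -, hmax⟩ := (Set.toFinite 𝒩).exists_le_maximal (a := ⊥) ⟨bot_le, ctl_bot S⟩
  have hQ : Q ∈ 𝒩 := hmax.prop
  refine ⟨Q, hQ.1, hQ.2, fun Q' hQ' hc => ?_⟩
  have h1 : Q ⊔ Q' ∈ 𝒩 := ⟨sup_le hQ.1 hQ', hQ.2.sup hc hQ.1⟩
  exact le_sup_right.trans (hmax.le_of_ge h1 le_sup_left)

lemma isStronglyClosed_of_ctl {S Q : Subgroup G} (h : Ctl S Q) (hS : S ≤ NN Q) :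
    IsStronglyClosed (S ⊓ centralizer (Q : Set G)) S := by
  refine ⟨inf_le_left, fun x hx g hg => ?_⟩
  refine ⟨hg, ?_⟩
  have hzp : zpowers x ≤ S := (zpowers_le).2 hx.1
  have hc : cj g (zpowers x) ≤ S := by
    rw [show cj g (zpowers x) = zpowers (g * x * g⁻¹) from by
      show (zpowers x).map _ = _
      rw [MonoidHom.map_zpowers]; rfl]
    exact (zpowers_le).2 hg
  obtain ⟨n, hn, hna⟩ := h _ hzp g hc
  rw [← hna x (mem_zpowers x)]
  have hx2 : x ∈ centralizer (Q : Set G) := hx.2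
  show n * x * n⁻¹ ∈ centralizer (Q : Set G)
  rw [mem_centralizer_iff] at hx2 ⊢
  intro q hq
  have hq' : n⁻¹ * q * n ∈ Q := by
    have := (mem_NN.1 (inv_mem hn) q).1 hq
    simpa using this
  have h5 := hx2 _ hq'
  calc q * (n * x * n⁻¹) = n * ((n⁻¹ * q * n) * x) * n⁻¹ := by group
    _ = n * (x * (n⁻¹ * q * n)) * n⁻¹ := by rw [h5]
    _ = n * x * n⁻¹ * q := by group

end CtlBasics

section MainInduction

variable {G : Type u} [Group G] [Finite G] {p : ℕ} [Fact p.Prime]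

lemma card_lt_of_lt'' {A B : Subgroup G} (h : A < B) : Nat.card A < Nat.card B := by
  have h1 : Nat.card A ≤ Nat.card B := Subgroup.card_le_of_le h.le
  refine lt_of_le_of_ne h1 fun he => h.not_ge ?_
  exact (Subgroup.eq_of_le_of_card_ge h.le he.ge).ge

/-- The reduction of control to a local statement. -/
theorem ctl_of_local {S Q W : Subgroup G} (hS : SylowIn p S ⊤) (hQ : Q ≤ S) (hctl : Ctl S Q)
    (hDW : ∀ m, m ∈ NN (S ⊓ centralizer (Q : Set G)) → m ∈ NN W)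
    (hloc : ∀ A, Q ≤ A → A ≤ S → FN p S A → ∀ c ∈ centralizer (Q : Set G) ⊓ NN A, Good W A c) :
    Ctl S W := by
  classical
  have hSQ : S ≤ NN Q := hctl.le_NN hQ
  set D := S ⊓ centralizer (Q : Set G) with hDdef
  have hDcl : IsStronglyClosed D S := isStronglyClosed_of_ctl hctl hSQ
  have hSD : S ≤ NN D := by
    intro s hs
    apply mem_NN_of_cj_le
    rintro _ ⟨x, hx, rfl⟩
    refine hDcl.2 x hx s ?_
    exact S.mul_mem (S.mul_mem hs (hDcl.1 hx)) (S.inv_mem hs)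
  suffices H : ∀ n : ℕ, ∀ A : Subgroup G, A ≤ S → Nat.card S - Nat.card A = n →
      ∀ g, cj g A ≤ S → Good W A g from
    fun A hA g hg => H _ A hA rfl g hg
  intro n
  induction n using Nat.strong_induction_on with
  | _ n IH =>
  intro A hA hn g hg
  have hIH : ∀ B, B ≤ S → Nat.card A < Nat.card B → ∀ g', cj g' B ≤ S → Good W B g' := by
    intro B hB hcard g' hg'
    refine IH (Nat.card S - Nat.card B) ?_ B hB rfl g' hg'
    have := Subgroup.card_le_of_le hB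
    omega
  by_cases hAS : A = S
  · rw [hAS] at hg
    refine Good.of_mem (hDW g ?_)
    have hgS : g ∈ NN S := mem_NN_of_cj_le hg
    apply mem_NN_of_cj_le
    rintro _ ⟨x, hx, rfl⟩
    refine hDcl.2 x hx g ?_
    exact hg ⟨x, hDcl.1 hx, rfl⟩
  have hlt : A < S := lt_of_le_of_ne hA hAS
  obtain ⟨x, hxFN, hxle⟩ := exists_FN hS hA
  have hA₀S : cj x A ≤ S := hxFN.le
  have hFNcase : ∀ m ∈ NN (cj x A), Good W (cj x A) m := by
    intro m hm
    obtain ⟨n₀, hn₀, hna⟩ := hctl _ hA₀S m (by rw [mem_NN_iff_cj.1 hm]; exact hA₀S)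
    have hn₀A : n₀ ∈ NN (cj x A) := by
      rw [mem_NN_iff_cj, cj_eq_of_agree hna, mem_NN_iff_cj.1 hm]
    suffices hg' : Good W (cj x A) n₀ from hg'.congr (fun a ha => hna a ha)
    by_cases hQA : Q ≤ cj x A
    swap
    · have h1 : cj x A < cj x A ⊔ Q := by
        refine lt_of_le_of_ne le_sup_left fun he => hQA ?_
        rw [he]
        exact le_sup_right
      have h2 : Nat.card A < Nat.card ↥(cj x A ⊔ Q) := by
        rw [← card_cj x A]
        exact card_lt_of_lt'' h1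
      refine (hIH _ (sup_le hA₀S hQ) h2 n₀ ?_).mono le_sup_left
      rw [cj_sup, mem_NN_iff_cj.1 hn₀A, mem_NN_iff_cj.1 hn₀]
      exact sup_le hA₀S hQ
    by_cases hDA : D ≤ cj x A
    · refine Good.of_mem (hDW n₀ ?_)
      apply mem_NN_of_cj_le
      rintro _ ⟨y, hy, rfl⟩
      refine hDcl.2 y hy n₀ ?_
      apply hA₀S
      have h1 := conj_mem_cj (g := n₀) (hDA hy)
      rwa [mem_NN_iff_cj.1 hn₀A] at h1
    -- the normalizer of `A₀` in `D`
    have hA₀D : cj x A ≤ NN D := hA₀S.trans hSD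
    have hltAD : cj x A < cj x A ⊔ D := by
      refine lt_of_le_of_ne le_sup_left fun he => hDA ?_
      rw [he]
      exact le_sup_right
    have hlt2 := lt_inf_NN (p := p) (hS.isP.to_le (sup_le hA₀S hDcl.1)) hltAD
    obtain ⟨w, hw, hwA⟩ := SetLike.exists_of_lt hlt2
    obtain ⟨a, ha, d, hd, rfl⟩ := (mem_sup_iff_of_le_normalizer hA₀D).1 hw.1
    have hdN : d ∈ NN (cj x A) := by
      have h1 : a⁻¹ * (a * d) ∈ NN (cj x A) := mul_mem (inv_mem (le_NN _ ha)) hw.2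
      simpa using h1
    have hdA : d ∉ cj x A := fun h => hwA (mul_mem ha h)
    set A₀ := cj x A with hA₀
    let D₁ : Subgroup G := D ⊓ NN A₀
    let C₀ : Subgroup G := centralizer (Q : Set G) ⊓ NN A₀
    let Y : Subgroup G := NN Q ⊓ NN A₀
    let T : Subgroup G := S ⊓ NN A₀
    have hTY : SylowIn p T Y :=
      hxFN.syl.mono (le_inf (inf_le_left.trans hSQ) inf_le_right) inf_le_right
    have hC₀Y : C₀ ≤ Y :=
      inf_le_inf_right _ (centralizer_le_normalizer_set Q)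
    have hYC₀ : Y ≤ NN C₀ := by
      intro y hy
      apply mem_NN_of_cj_le
      rintro _ ⟨z, hz, rfl⟩
      have hy2 : y ∈ NN A₀ := hy.2
      have hz2 : z ∈ NN A₀ := hz.2
      exact ⟨conj_mem_centralizer hy.1 hz.1, (NN A₀).mul_mem ((NN A₀).mul_mem hy2 hz2) ((NN A₀).inv_mem hy2)⟩
    have hsyl : SylowIn p (T ⊓ C₀) C₀ := hTY.inf_normal hC₀Y hYC₀
    have hTC : T ⊓ C₀ = D₁ := by
      ext z
      constructor
      · rintro ⟨⟨h1, h2⟩, h3, -⟩
        exact ⟨⟨h1, h3⟩, h2⟩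
      · rintro ⟨⟨h1, h3⟩, h2⟩
        exact ⟨⟨h1, h2⟩, h3, h2⟩
    rw [hTC] at hsyl
    have hn₀Y : n₀ ∈ Y := ⟨?_, hn₀A⟩
    · have h1 : cj n₀ D₁ ≤ C₀ := by
        have h2 : cj n₀ C₀ = C₀ := by
          refine mem_NN_iff_cj.1 (hYC₀ hn₀Y)
        rw [← h2]
        exact cj_mono hsyl.le
      obtain ⟨c, hc, hcle⟩ := hsyl.conj h1 (isPGroup_cj n₀ hsyl.isP)
      have hn₁D : c * n₀ ∈ NN D₁ := mem_NN_of_cj_le (by rw [cj_mul]; exact hcle)
      have hn₁A : c * n₀ ∈ NN A₀ := mul_mem hc.2 hn₀A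
      have hD₁S : D₁ ≤ S := inf_le_left.trans hDcl.1
      have hlt3 : A₀ < A₀ ⊔ D₁ := by
        refine lt_of_le_of_ne le_sup_left fun he => hdA ?_
        rw [he]
        exact Subgroup.mem_sup_right ⟨hd, hdN⟩
      have h2 : Nat.card A < Nat.card ↥(A₀ ⊔ D₁) := by
        rw [← card_cj x A]
        exact card_lt_of_lt'' hlt3
      have h3 : Good W A₀ (c * n₀) := by
        refine (hIH _ (sup_le hA₀S hD₁S) h2 _ ?_).mono le_sup_left
        rw [cj_sup, mem_NN_iff_cj.1 hn₁A, mem_NN_iff_cj.1 hn₁D]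
        exact sup_le hA₀S hD₁S
      have h4 : Good W (cj (c * n₀) A₀) c⁻¹ := by
        rw [mem_NN_iff_cj.1 hn₁A]
        exact hloc A₀ hQA hA₀S hxFN _ (C₀.inv_mem hc)
      have h5 := h3.comp h4
      simpa using h5
    · exact hn₀
  have key : ∀ A₁, A₁ ≤ S → Nat.card A₁ = Nat.card A → ∀ z, cj z A₁ = cj x A → Good W A₁ z := by
    intro A₁ hA₁ hc z hz
    obtain ⟨y, hy, hyle⟩ := exists_to_FN hxFN hz
    have hA₁lt : A₁ < S := by
      refine lt_of_le_of_ne hA₁ fun he => ?_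
      have := card_lt_of_lt'' hlt
      rw [← he, hc] at this
      exact lt_irrefl _ this
    have hlt1 := lt_inf_NN hS.isP hA₁lt
    have hcard' : Nat.card A < Nat.card ↥(S ⊓ NN A₁) := by
      rw [← hc]
      exact card_lt_of_lt'' hlt1
    have h1 : Good W (S ⊓ NN A₁) y := hIH _ inf_le_left hcard' y (hyle.trans inf_le_left)
    have h2 : Good W A₁ y := h1.mono hlt1.le
    have h3 : Good W (cj y A₁) (z * y⁻¹) := by
      rw [hy]
      refine hFNcase _ ?_
      rw [mem_NN_iff_cj, cj_mul, ← hy, cj_inv_cj, hz, hy]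
    have h4 := h2.comp h3
    simpa using h4
  have h1 := key A hA rfl x rfl
  have h2 := key (cj g A) hg (card_cj g A) (x * g⁻¹) (by rw [cj_mul, cj_inv_cj])
  have h3 := h2.inv
  rw [cj_mul, cj_inv_cj] at h3
  have h4 := h1.comp h3
  simpa using h4

end MainInduction

section Sec

variable {G : Type u} [Group G]

/-- The quotient map `N_G(Z) → N_G(Z)/Z`. -/
abbrev piZ (Z : Subgroup G) : ↥(NN Z) →* ↥(NN Z) ⧸ Z.subgroupOf (NN Z) := QuotientGroup.mk' _

/-- The image of a subgroup of `N_G(Z)` in `N_G(Z)/Z`. -/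
abbrev img (Z U : Subgroup G) : Subgroup (↥(NN Z) ⧸ Z.subgroupOf (NN Z)) :=
  (U.subgroupOf (NN Z)).map (piZ Z)

/-- The preimage in `D` of `Z(J(D/Z))`. -/
def secW (Z D : Subgroup G) : Subgroup G :=
  ((Z₀ 0 (img Z D)).comap (piZ Z)).map (NN Z).subtype

lemma piZ_eq_iff {Z : Subgroup G} (x y : ↥(NN Z)) : piZ Z x = piZ Z y ↔ (x : G)⁻¹ * y ∈ Z := by
  show ((x : ↥(NN Z)) : ↥(NN Z) ⧸ Z.subgroupOf (NN Z)) = y ↔ _
  rw [QuotientGroup.eq, Subgroup.mem_subgroupOf]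
  simp

lemma mem_img_iff {Z U : Subgroup G} (hZU : Z ≤ U) (x : ↥(NN Z)) :
    piZ Z x ∈ img Z U ↔ (x : G) ∈ U := by
  constructor
  · rintro ⟨u, hu, hux⟩
    have h1 := (piZ_eq_iff u x).1 hux
    have h2 : (u : G) ∈ U := hu
    have h3 := U.mul_mem h2 (hZU h1)
    simpa using h3
  · intro h
    exact ⟨x, h, rfl⟩

lemma exists_of_mem_img {Z U : Subgroup G} {y : ↥(NN Z) ⧸ Z.subgroupOf (NN Z)} (hy : y ∈ img Z U) :
    ∃ x : ↥(NN Z), (x : G) ∈ U ∧ piZ Z x = y := by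
  obtain ⟨x, hx, rfl⟩ := hy
  exact ⟨x, hx, rfl⟩

lemma mem_secW_iff {Z D : Subgroup G} (x : ↥(NN Z)) :
    (x : G) ∈ secW Z D ↔ piZ Z x ∈ Z₀ 0 (img Z D) := by
  constructor
  · rintro ⟨y, hy, hyx⟩
    have : y = x := Subtype.ext hyx
    rw [← this]
    exact hy
  · intro h
    exact ⟨x, h, rfl⟩

lemma secW_le_NN (Z D : Subgroup G) : secW Z D ≤ NN Z := by
  rintro _ ⟨y, _, rfl⟩
  exact y.2

lemma le_secW (Z D : Subgroup G) : Z ≤ secW Z D := by
  intro z hz
  have hzN : z ∈ NN Z := le_NN Z hz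
  have := (mem_secW_iff (Z := Z) (D := D) ⟨z, hzN⟩).2 (by
    have h1 : piZ Z ⟨z, hzN⟩ = 1 := by
      rw [← map_one (piZ Z), piZ_eq_iff]
      simpa using hz
    rw [h1]
    exact one_mem _)
  exact this

lemma secW_le [Finite G] (Z D : Subgroup G) (hZ : Z ≤ D) : secW Z D ≤ D := by
  rintro _ ⟨y, hy, rfl⟩
  exact (mem_img_iff hZ y).1 (Z₀_le_self _ hy)

lemma mem_NN_secW [Finite G] {Z D : Subgroup G} (x : ↥(NN Z)) (h : piZ Z x ∈ NN (Z₀ 0 (img Z D))) :
    (x : G) ∈ NN (secW Z D) := by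
  apply mem_NN_of_cj_le
  rintro _ ⟨w, hw, rfl⟩
  obtain ⟨y, hy, rfl⟩ := hw
  have h1 : piZ Z y ∈ Z₀ 0 (img Z D) := hy
  have h2 : piZ Z (x * y * x⁻¹) ∈ Z₀ 0 (img Z D) := by
    rw [map_mul, map_mul, map_inv]
    exact (mem_NN.1 h _).1 h1
  exact ⟨x * y * x⁻¹, h2, by simp⟩

lemma mem_NN_img [Finite G] {Z D : Subgroup G} (x : ↥(NN Z)) (h : (x : G) ∈ NN D) : piZ Z x ∈ NN (img Z D) := by
  apply mem_NN_of_cj_le
  rintro _ ⟨y, hy, rfl⟩
  obtain ⟨d, hd, rfl⟩ := hy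
  have hd' : (d : G) ∈ D := hd
  have h2 : ((x * d * x⁻¹ : ↥(NN Z)) : G) ∈ D := by
    have := (mem_NN.1 h _).1 hd'
    simpa using this
  refine ⟨x * d * x⁻¹, h2, ?_⟩
  simp

section
variable {p : ℕ} [Fact p.Prime] [Finite G]

lemma SylowIn.subgroupOf' {U V L : Subgroup G} (h : SylowIn p U V) (hV : V ≤ L) :
    SylowIn p (U.subgroupOf L) (V.subgroupOf L) := by
  refine ⟨Subgroup.comap_mono h.le, ?_, ?_⟩
  · intro x
    obtain ⟨k, hk⟩ := h.isP ⟨x.1.1, x.2⟩
    exact ⟨k, Subtype.ext (Subtype.ext (by simpa [Subtype.ext_iff] using hk))⟩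
  · intro R hR hRp hUR x hxR
    have hRm : R.map L.subtype ≤ V := by
      rintro _ ⟨r, hr, rfl⟩
      exact hR hr
    have hRp' : IsPGroup p (R.map L.subtype) := hRp.map _
    have hUR' : U ≤ R.map L.subtype := by
      intro u hu
      have huL : u ∈ L := hV (h.le hu)
      exact ⟨⟨u, huL⟩, hUR hu, rfl⟩
    have := h.max _ hRm hRp' hUR' ⟨x, hxR, rfl⟩
    exact this

lemma sylowIn_img {Z U V : Subgroup G} (h : SylowIn p U V) (hV : V ≤ NN Z) :
    SylowIn p (img Z U) (img Z V) :=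
  (SylowIn.subgroupOf' h hV).map _

end

end Sec

section RelControl

variable {p : ℕ} [Fact p.Prime] {X : Type u} [Group X] [Finite X]

/-- Control of strong fusion relative to a subgroup of a `Qd(p)`-free group. -/
lemma control_rel (hp : p ≠ 2) (hqd : ¬ Involves ↥(qd p) X) {X₂ S D : Subgroup X}
    (hS : SylowIn p S X₂) (hD : D ≤ S) (hcl : ∀ x ∈ D, ∀ y ∈ X₂, y * x * y⁻¹ ∈ S → y * x * y⁻¹ ∈ D)
    {A : Subgroup X} (hA : A ≤ S) {g : X} (hg : g ∈ X₂) (hgA : cj g A ≤ S) :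
    ∃ n ∈ X₂, n ∈ NN (Z₀ 0 D) ∧ ∀ a ∈ A, n * a * n⁻¹ = g * a * g⁻¹ := by
  classical
  let T : Sylow p X₂ := hS.toSylow
  have hT : (T : Subgroup X₂) = S.subgroupOf X₂ := rfl
  have hqd₂ : ¬ Involves ↥(qd p) X₂ := fun h =>
    hqd (involves_of_injective h X₂.subtype X₂.subtype_injective)
  have hDX : D ≤ X₂ := hD.trans hS.le
  have hAX : A ≤ X₂ := hA.trans hS.le
  have hD₂ : IsStronglyClosed (D.subgroupOf X₂) (T : Subgroup X₂) := by
    refine ⟨?_, ?_⟩
    · rw [hT]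
      exact Subgroup.comap_mono hD
    · intro x hx y hxy
      rw [hT, Subgroup.mem_subgroupOf] at hxy
      rw [Subgroup.mem_subgroupOf]
      exact hcl _ hx _ y.2 (by simpa using hxy)
  have hcontrol : ControlsStrongFusionOf (normalizer (Z₀ 0 (D.subgroupOf X₂) : Set X₂))
      (T : Subgroup X₂) ((A.subgroupOf X₂ : Subgroup X₂) : Set X₂) := by
    refine control_strong hp (e := 0) (Or.inl rfl)
      (fun (X : Type u) [Group X] => ¬ Involves ↥(qd p) X) ?_ ?_ ?_ hqd₂ T _ hD₂ _ ?_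
    · intro X _ H hX h
      exact hX (involves_of_injective h H.subtype H.subtype_injective)
    · intro X _ N _ hX h
      exact hX (involves_of_surjective h (QuotientGroup.mk' N) (QuotientGroup.mk'_surjective N))
    · intro X _ _ hX
      exact isNormalizerPStable_of_not_involves hp hX
    · rw [hT]
      exact Subgroup.comap_mono hA
  obtain ⟨n, hn, hna⟩ := hcontrol.2 ⟨g, hg⟩ (by
    rintro _ ⟨a, ha, rfl⟩
    rw [hT]
    show (_ : X₂) ∈ S.subgroupOf X₂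
    rw [Subgroup.mem_subgroupOf]
    have ha' : (a : X) ∈ A := ha
    have := hgA (conj_mem_cj ha')
    simpa using this)
  have hmap : (Z₀ 0 (D.subgroupOf X₂)).map X₂.subtype = Z₀ 0 D := by
    rw [Z₀_map_of_inf X₂.subtype _ (by
      rw [(MonoidHom.ker_eq_bot_iff _).2 X₂.subtype_injective, inf_bot_eq])]
    congr 1
    rw [Subgroup.subgroupOf_map_subtype, inf_eq_left.2 hDX]
  refine ⟨n, n.2, ?_, fun a ha => ?_⟩
  · rw [← hmap]
    apply mem_NN_of_cj_le
    rintro _ ⟨_, ⟨y, hy, rfl⟩, rfl⟩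
    have h3 := (mem_NN.1 hn y).1 hy
    refine ⟨_, h3, ?_⟩
    simp
  · have h1 := hna ⟨a, hAX ha⟩ (by simpa [Subgroup.mem_subgroupOf] using ha)
    have h2 := congrArg Subtype.val h1
    simpa using h2.symm

end RelControl

section Local

variable {p : ℕ} [Fact p.Prime] {G : Type u} [Group G] [Finite G]

lemma NN_le_NN_center (Q : Subgroup G) : NN Q ≤ NN (Q ⊓ centralizer (Q : Set G)) := by
  intro x hx
  apply mem_NN_of_cj_le
  rintro _ ⟨z, hz, rfl⟩
  exact ⟨(mem_NN.1 hx _).1 hz.1, conj_mem_centralizer hx hz.2⟩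

/-- The elements of `H` acting trivially on `A/Z`. -/
def sigmaSub (H A Z : Subgroup G) (hHZ : H ≤ NN Z) (hHA : H ≤ NN A) : Subgroup G where
  carrier := {y | y ∈ H ∧ ∀ a ∈ A, y * a * y⁻¹ * a⁻¹ ∈ Z}
  mul_mem' := by
    rintro x y ⟨hx, hxa⟩ ⟨hy, hya⟩
    refine ⟨H.mul_mem hx hy, fun a ha => ?_⟩
    have h1 := (mem_NN.1 (hHZ hx) _).1 (hya a ha)
    have h2 := hxa a ha
    have h3 := Z.mul_mem h1 h2
    convert h3 using 1
    group
  one_mem' := ⟨H.one_mem, fun a _ => by simpa using Z.one_mem⟩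
  inv_mem' := by
    rintro x ⟨hx, hxa⟩
    refine ⟨H.inv_mem hx, fun a ha => ?_⟩
    have hb : x⁻¹ * a * x ∈ A := by
      have := (mem_NN.1 (hHA (H.inv_mem hx)) a).1 ha
      simpa using this
    have h := hxa _ hb
    have h2 := Z.inv_mem h
    convert h2 using 1
    group

lemma mem_sigmaSub {H A Z : Subgroup G} {hHZ : H ≤ NN Z} {hHA : H ≤ NN A} {y : G} :
    y ∈ sigmaSub H A Z hHZ hHA ↔ y ∈ H ∧ ∀ a ∈ A, y * a * y⁻¹ * a⁻¹ ∈ Z := Iff.rfl

lemma exists_pow_mem_centralizer {S Z A H : Subgroup G} (hSp : IsPGroup p S) (hSZ : S ≤ NN Z)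
    (hZp : IsPGroup p Z) (hHZ : H ≤ NN Z) (hHA : H ≤ NN A) (hH : H ≤ S ⊔ centralizer (Z : Set G))
    {σ : G} (hσ : σ ∈ sigmaSub H A Z hHZ hHA) :
    ∃ m : ℕ, σ ^ p ^ m ∈ centralizer (A : Set G) := by
  have hSC : S ≤ NN (centralizer (Z : Set G)) := by
    intro s hs
    apply mem_NN_of_cj_le
    rintro _ ⟨y, hy, rfl⟩
    exact conj_mem_centralizer (hSZ hs) hy
  obtain ⟨s, hs, y, hy, hσe⟩ := (mem_sup_iff_of_le_normalizer hSC).1 (hH hσ.1)
  have hpow : ∀ n : ℕ, ∃ y' ∈ centralizer (Z : Set G), (s * y) ^ n = s ^ n * y' := by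
    intro n
    induction n with
    | zero => exact ⟨1, one_mem _, by simp⟩
    | succ n ih =>
      obtain ⟨y', hy', he⟩ := ih
      refine ⟨s⁻¹ * y' * s * y, ?_, ?_⟩
      · refine mul_mem ?_ hy
        have := (mem_NN.1 (hSC (S.inv_mem hs)) y').1 hy'
        simpa using this
      · rw [pow_succ, he, pow_succ]
        group
  obtain ⟨j, hj⟩ := hSp ⟨s, hs⟩
  have hj' : s ^ p ^ j = 1 := by simpa [Subtype.ext_iff] using hj
  obtain ⟨τ, hτC, hτe⟩ := hpow (p ^ j)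
  rw [hj', one_mul, ← hσe] at hτe
  have hτσ : τ ∈ sigmaSub H A Z hHZ hHA := by
    rw [← hτe]
    exact pow_mem hσ _
  obtain ⟨i, hi⟩ := IsPGroup.iff_card.1 hZp
  refine ⟨j + i, ?_⟩
  rw [pow_add, pow_mul, hτe]
  rw [mem_centralizer_iff]
  intro a ha
  have hz := hτσ.2 a ha
  set z := τ * a * τ⁻¹ * a⁻¹ with hzdef
  have h1 : τ * a = z * a * τ := by rw [hzdef]; group
  have hzτ : z * τ = τ * z := (mem_centralizer_iff.1 hτC z hz)
  have hind : ∀ n : ℕ, τ ^ n * a = z ^ n * a * τ ^ n := by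
    intro n
    induction n with
    | zero => simp
    | succ n ih =>
      have hc : Commute z τ := hzτ
      calc τ ^ (n + 1) * a = τ * (τ ^ n * a) := by rw [pow_succ']; group
        _ = τ * (z ^ n * a * τ ^ n) := by rw [ih]
        _ = (τ * z ^ n) * a * τ ^ n := by group
        _ = (z ^ n * τ) * a * τ ^ n := by rw [((hc.pow_left n).eq).symm]
        _ = z ^ n * (τ * a) * τ ^ n := by group
        _ = z ^ n * (z * a * τ) * τ ^ n := by rw [h1]
        _ = z ^ (n + 1) * a * τ ^ (n + 1) := by rw [pow_succ, pow_succ']; group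
  have hzpow : z ^ p ^ i = 1 := by
    have h2 := pow_card_eq_one' (G := Z) (x := ⟨z, hz⟩)
    rw [hi] at h2
    simpa [Subtype.ext_iff] using h2
  have h3 := hind (p ^ i)
  rw [hzpow, one_mul] at h3
  exact h3.symm

/-- The local step: elements of `C_G(Q)` normalizing a fully normalized `A ≥ Q` act on `A` as elements
of the normalizer of the preimage of `Z(J(D/Z))`. -/
theorem good_local (hp : p ≠ 2) (hqd : ¬ Involves ↥(qd p) G) {S Q : Subgroup G} (hS : SylowIn p S ⊤)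
    (hQ : Q ≤ S) (hSQ : S ≤ NN Q) (hDcl : IsStronglyClosed (S ⊓ centralizer (Q : Set G)) S)
    (hSW : S ≤ NN (secW (Q ⊓ centralizer (Q : Set G)) (S ⊓ centralizer (Q : Set G))))
    (A : Subgroup G) (hQA : Q ≤ A) (hAS : A ≤ S) (hFN : FN p S A) (c : G)
    (hc : c ∈ centralizer (Q : Set G) ⊓ NN A) :
    Good (secW (Q ⊓ centralizer (Q : Set G)) (S ⊓ centralizer (Q : Set G))) A c := by
  classical
  set Z : Subgroup G := Q ⊓ centralizer (Q : Set G) with hZdef
  set D : Subgroup G := S ⊓ centralizer (Q : Set G) with hDdef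
  have hZQ : Z ≤ Q := inf_le_left
  have hZS : Z ≤ S := hZQ.trans hQ
  have hZA : Z ≤ A := hZQ.trans hQA
  have hZD : Z ≤ D := le_inf hZS inf_le_right
  have hZp : IsPGroup p Z := hS.isP.to_le hZS
  have hSL : S ≤ NN Z := hSQ.trans (NN_le_NN_center Q)
  have hCZ : centralizer (Z : Set G) ≤ NN Z := centralizer_le_normalizer_set Z
  let K' : Subgroup G := S ⊔ centralizer (Z : Set G)
  have hK'L : K' ≤ NN Z := sup_le hSL hCZ
  have hSK' : SylowIn p S K' := hS.mono le_sup_left le_top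
  have hqdX : ¬ Involves ↥(qd p) (↥(NN Z) ⧸ Z.subgroupOf (NN Z)) :=
    fun h => hqd (involves_of_section h)
  have hcQ : c ∈ centralizer (Q : Set G) := hc.1
  have hcA : c ∈ NN A := hc.2
  have hcZ : c ∈ centralizer (Z : Set G) := centralizer_le (fun z hz => hZQ hz) hcQ
  have hcK : c ∈ K' := Subgroup.mem_sup_right hcZ
  have hcN : c ∈ NN Z := hCZ hcZ
  have hcl : ∀ x ∈ img Z D, ∀ y ∈ img Z K', y * x * y⁻¹ ∈ img Z S → y * x * y⁻¹ ∈ img Z D := by
    intro x hx y hy hxy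
    obtain ⟨x, hxD, rfl⟩ := exists_of_mem_img hx
    obtain ⟨y, hyK, rfl⟩ := exists_of_mem_img hy
    rw [← map_inv, ← map_mul, ← map_mul] at hxy ⊢
    rw [mem_img_iff hZS] at hxy
    rw [mem_img_iff hZD]
    have h1 := hDcl.2 x hxD y (by simpa using hxy)
    simpa using h1
  obtain ⟨n, hnX, hnW, hna⟩ := control_rel hp hqdX (sylowIn_img hSK' hK'L)
    (Subgroup.map_mono (Subgroup.comap_mono inf_le_left)) hcl
    (A := img Z A) (g := piZ Z ⟨c, hcN⟩)
    (Subgroup.map_mono (Subgroup.comap_mono hAS)) ⟨⟨c, hcN⟩, hcK, rfl⟩ (by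
      rintro _ ⟨y, hy, rfl⟩
      obtain ⟨y, hyA, rfl⟩ := exists_of_mem_img hy
      show piZ Z ⟨c, hcN⟩ * piZ Z y * (piZ Z ⟨c, hcN⟩)⁻¹ ∈ _
      rw [← map_inv, ← map_mul, ← map_mul]
      rw [mem_img_iff hZS]
      have := (mem_NN.1 hcA _).1 hyA
      exact hAS (by simpa using this))
  obtain ⟨x, hxK, rfl⟩ := exists_of_mem_img hnX
  have hxW : (x : G) ∈ NN (secW Z D) := mem_NN_secW x hnW
  have hrel : ∀ a ∈ A, ((x : G) * a * (x : G)⁻¹)⁻¹ * (c * a * c⁻¹) ∈ Z := by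
    intro a ha
    have haN : a ∈ NN Z := hSL (hAS ha)
    have h1 := hna (piZ Z ⟨a, haN⟩) ((mem_img_iff hZA _).2 ha)
    rw [← map_inv, ← map_mul, ← map_mul, ← map_inv, ← map_mul, ← map_mul, piZ_eq_iff] at h1
    simpa using h1
  have hxA : (x : G) ∈ NN A := by
    apply mem_NN_of_cj_le
    rintro _ ⟨a, ha, rfl⟩
    have h1 := hrel a ha
    have h2 : c * a * c⁻¹ ∈ A := (mem_NN.1 hcA a).1 ha
    have h3 : (x : G) * a * (x : G)⁻¹ =
        (c * a * c⁻¹) * (((x : G) * a * (x : G)⁻¹)⁻¹ * (c * a * c⁻¹))⁻¹ := by group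
    show (x : G) * a * (x : G)⁻¹ ∈ A
    rw [h3]
    exact A.mul_mem h2 (A.inv_mem (hZA h1))
  -- the automizer
  let H : Subgroup G := K' ⊓ NN A
  have hHZ : H ≤ NN Z := inf_le_left.trans hK'L
  have hHA : H ≤ NN A := inf_le_right
  let Sg : Subgroup G := sigmaSub H A Z hHZ hHA
  let C₁ : Subgroup G := centralizer (A : Set G) ⊓ H
  let T : Subgroup G := S ⊓ NN A
  have hTH : SylowIn p T H :=
    hFN.syl.mono (le_inf (inf_le_left.trans le_sup_left) inf_le_right) inf_le_right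
  have hSgH : Sg ≤ H := fun y hy => hy.1
  have hHSg : H ≤ NN Sg := by
    intro y hy
    apply mem_NN_of_cj_le
    rintro _ ⟨σ, hσ, rfl⟩
    refine ⟨H.mul_mem (H.mul_mem hy hσ.1) (H.inv_mem hy), fun a ha => ?_⟩
    have hb : y⁻¹ * a * y ∈ A := by
      have := (mem_NN.1 (hHA (H.inv_mem hy)) a).1 ha
      simpa using this
    have h1 := hσ.2 _ hb
    have h2 := (mem_NN.1 (hHZ hy) _).1 h1
    show (y * σ * y⁻¹) * a * (y * σ * y⁻¹)⁻¹ * a⁻¹ ∈ Z
    convert h2 using 1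
    group
  have hsyl : SylowIn p (T ⊓ Sg) Sg := hTH.inf_normal hSgH hHSg
  have hC₁Sg : C₁ ≤ Sg := by
    intro y hy
    refine ⟨hy.2, fun a ha => ?_⟩
    have h1 := mem_centralizer_iff.1 hy.1 a ha
    have h2 : y * a * y⁻¹ * a⁻¹ = 1 := by
      rw [← h1]; group
    rw [h2]
    exact Z.one_mem
  have hSgC₁ : Sg ≤ NN C₁ := by
    intro σ hσ
    apply mem_NN_of_cj_le
    rintro _ ⟨y, hy, rfl⟩
    exact ⟨conj_mem_centralizer (hHA hσ.1) hy.1, H.mul_mem (H.mul_mem hσ.1 hy.2) (H.inv_mem hσ.1)⟩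
  have hκ : (x : G)⁻¹ * c ∈ Sg := by
    refine ⟨⟨K'.mul_mem (K'.inv_mem hxK) hcK, (NN A).mul_mem ((NN A).inv_mem hxA) hcA⟩, fun a ha => ?_⟩
    have h1 := hrel a ha
    have h2 := (mem_NN.1 ((NN Z).inv_mem x.2) _).1 h1
    have h3 := (mem_NN.1 (hSL (hAS ha)) _).1 h2
    convert h3 using 1
    group
  have hpp : ∀ y ∈ Sg, ∃ m : ℕ, y ^ p ^ m ∈ C₁ := by
    intro y hy
    obtain ⟨m, hm⟩ := exists_pow_mem_centralizer hS.isP hSL hZp hHZ hHA inf_le_left hy
    exact ⟨m, hm, pow_mem hy.1 _⟩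
  obtain ⟨t, ht, k, hk, hke⟩ := hsyl.cov hC₁Sg hSgC₁ hpp hκ
  rw [good_iff]
  refine ⟨(x : G) * t, (NN _).mul_mem hxW (hSW ht.1.1), k, hk.1, ?_⟩
  have : c = (x : G) * ((x : G)⁻¹ * c) := by group
  rw [this, hke]
  group

end Local

section MaxQ

variable {p : ℕ} [Fact p.Prime] {G : Type u} [Group G] [Finite G]

lemma ctl_Z₀ (hp : p ≠ 2) (hqd : ¬ Involves ↥(qd p) G) (P : Sylow p G) (D : Subgroup G)
    (hD : IsStronglyClosed D (P : Subgroup G)) : Ctl (P : Subgroup G) (Z₀ 0 D) := by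
  intro A hA g hg
  have hc : ControlsStrongFusionOf (normalizer (Z₀ 0 D : Set G)) (P : Subgroup G) (A : Set G) := by
    refine control_strong hp (e := 0) (Or.inl rfl)
      (fun (X : Type u) [Group X] => ¬ Involves ↥(qd p) X) ?_ ?_ ?_ hqd P D hD _ hA
    · intro X _ H hX h
      exact hX (involves_of_injective h H.subtype H.subtype_injective)
    · intro X _ N _ hX h
      exact hX (involves_of_surjective h (QuotientGroup.mk' N) (QuotientGroup.mk'_surjective N))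
    · intro X _ _ hX
      exact isNormalizerPStable_of_not_involves hp hX
  obtain ⟨n, hn, hna⟩ := hc.2 g (by
    rintro _ ⟨a, ha, rfl⟩
    exact hg (conj_mem_cj ha))
  exact ⟨n, hn, fun a ha => (hna a ha).symm⟩

/-- The largest subgroup controlling strong fusion contains its centralizer in `P`. -/
theorem inf_centralizer_le_of_max (hp : p ≠ 2) (hqd : ¬ Involves ↥(qd p) G) (P : Sylow p G)
    {Q : Subgroup G} (hQ : Q ≤ (P : Subgroup G)) (hctl : Ctl (P : Subgroup G) Q)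
    (hmax : ∀ Q', Q' ≤ (P : Subgroup G) → Ctl (P : Subgroup G) Q' → Q' ≤ Q) :
    (P : Subgroup G) ⊓ centralizer (Q : Set G) ≤ Q := by
  classical
  set S : Subgroup G := (P : Subgroup G) with hSdef
  have hS : SylowIn p S ⊤ := SylowIn.of_sylow P le_top
  have hSQ : S ≤ NN Q := hctl.le_NN hQ
  have hDcl : IsStronglyClosed (S ⊓ centralizer (Q : Set G)) S := isStronglyClosed_of_ctl hctl hSQ
  have hSD : S ≤ NN (S ⊓ centralizer (Q : Set G)) := by
    intro s hs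
    apply mem_NN_of_cj_le
    rintro _ ⟨x, hx, rfl⟩
    refine hDcl.2 x hx s ?_
    exact S.mul_mem (S.mul_mem hs (hDcl.1 hx)) (S.inv_mem hs)
  have hZ0 := ctl_Z₀ hp hqd P _ hDcl
  set D : Subgroup G := S ⊓ centralizer (Q : Set G) with hDdef
  set Z : Subgroup G := Q ⊓ centralizer (Q : Set G) with hZdef
  have h1 : Z₀ 0 D ≤ D := Z₀_le_self D
  have h2 : Z₀ 0 D ≤ Q := hmax _ (h1.trans inf_le_left) hZ0
  have hZD : Z ≤ D := le_inf (inf_le_left.trans hQ) inf_le_right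
  have hZeq : Z = Z₀ 0 D := by
    refine le_antisymm ?_ (le_inf h2 (h1.trans inf_le_right))
    intro z hz
    rw [Z₀, mem_sInf]
    rintro A hA
    refine hA.mem_of_commute (hZD hz) (by simp) ?_
    intro a ha
    have ha' : a ∈ centralizer (Q : Set G) := (hA.1 ha).2
    exact (mem_centralizer_iff.1 ha' z hz.1).symm
  have hDW : ∀ m, m ∈ NN D → m ∈ NN (secW Z D) := by
    intro m hm
    have hmZ : m ∈ NN Z := by
      rw [hZeq]
      apply mem_NN_of_cj_le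
      rintro _ ⟨x, hx, rfl⟩
      exact mem_Z₀_conj hm hx
    refine mem_NN_secW ⟨m, hmZ⟩ ?_
    apply mem_NN_of_cj_le
    rintro _ ⟨x, hx, rfl⟩
    exact mem_Z₀_conj (mem_NN_img ⟨m, hmZ⟩ hm) hx
  have hSW : S ≤ NN (secW Z D) := fun s hs => hDW s (hSD hs)
  have hW : Ctl S (secW Z D) := ctl_of_local (p := p) hS hQ hctl hDW
    (fun A hQA hAS hFN c hc => good_local hp hqd hS hQ hSQ hDcl hSW A hQA hAS hFN c hc)
  have hWD : secW Z D ≤ D := secW_le Z D hZD
  have hWQ : secW Z D ≤ Q := hmax _ (hWD.trans inf_le_left) hW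
  have hWZ : secW Z D ≤ Z := le_inf hWQ (hWD.trans inf_le_right)
  by_contra hne
  have hDL : D ≤ NN Z := by
    exact inf_le_left.trans (hSQ.trans (NN_le_NN_center Q))
  have hDp : IsPGroup p (img Z D) :=
    (sylowIn_img (p := p) (U := D) (V := D)
      ⟨le_rfl, hS.isP.to_le inf_le_left, fun R hR _ _ => hR⟩ hDL).isP
  have hne2 : img Z D ≠ ⊥ := by
    intro hb
    apply hne
    intro d hd
    have h3 : piZ Z ⟨d, hDL hd⟩ ∈ img Z D := ⟨⟨d, hDL hd⟩, hd, rfl⟩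
    rw [hb, mem_bot, ← map_one (piZ Z), piZ_eq_iff] at h3
    have h4 : d⁻¹ ∈ Z := by simpa using h3
    have h5 := Z.inv_mem h4
    rw [inv_inv] at h5
    exact h5.1
  have hne3 : Z₀ 0 (img Z D) ≠ ⊥ := Z₀_ne_bot hDp hne2 0 (Or.inl rfl)
  apply hne3
  rw [eq_bot_iff]
  intro w hw
  obtain ⟨x, -, rfl⟩ := exists_of_mem_img (Z₀_le_self _ hw)
  have h5 := hWZ ((mem_secW_iff x).2 hw)
  rw [mem_bot, ← map_one (piZ Z), piZ_eq_iff]
  simpa using Z.inv_mem h5

end MaxQ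

section Radical

variable {p : ℕ} [Fact p.Prime] {G : Type u} [Group G] [Finite G]

lemma pow_natCard_of_mem {H : Type*} [Group H] {K : Subgroup H} {x : H} (hx : x ∈ K) :
    x ^ Nat.card K = 1 := by
  rw [← orderOf_dvd_iff_pow_eq_one]
  exact Subgroup.orderOf_dvd_natCard K hx

lemma pow_eq_one_of_coprime {x : G} {m k : ℕ} (hm : Nat.Coprime m p) (h1 : x ^ m = 1)
    (h2 : x ^ p ^ k = 1) : x = 1 := by
  have h3 : orderOf x ∣ m := orderOf_dvd_of_pow_eq_one h1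
  have h4 : orderOf x ∣ p ^ k := orderOf_dvd_of_pow_eq_one h2
  have h5 : Nat.Coprime m (p ^ k) := Nat.Coprime.pow_right k hm
  exact orderOf_eq_one_iff.1 (Nat.Coprime.eq_one_of_dvd (Nat.Coprime.coprime_dvd_left h3 h5) h4)

/-- A central Sylow subgroup has a complement, consisting of the elements whose order divides a fixed
number prime to `p`. -/
lemma exists_central_complement {C D : Subgroup G} (hD : SylowIn p D C)
    (hcomm : ∀ d ∈ D, ∀ c ∈ C, d * c = c * d) :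
    ∃ m : ℕ, Nat.Coprime m p ∧ ∃ K : Subgroup G, K ≤ C ∧ (∀ x ∈ C, x ∈ K ↔ x ^ m = 1) ∧
      (∀ c ∈ C, ∃ d ∈ D, ∃ k ∈ K, c = d * k) := by
  classical
  have hpp : p.Prime := Fact.out
  let T : Sylow p C := hD.toSylow
  have hT : (T : Subgroup C) = D.subgroupOf C := rfl
  have hN : normalizer ((T : Subgroup C) : Set C) ≤ centralizer ((T : Subgroup C) : Set C) := by
    intro c _
    rw [mem_centralizer_iff]
    intro t ht
    have ht' : t ∈ D.subgroupOf C := ht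
    rw [mem_subgroupOf] at ht'
    exact Subtype.ext (hcomm _ ht' _ c.2)
  have hcomp := MonoidHom.ker_transferSylow_isComplement' T hN
  have hnd := MonoidHom.not_dvd_card_ker_transferSylow T hN
  set K₀ : Subgroup C := (MonoidHom.transferSylow T hN).ker with hK₀
  have hm : Nat.Coprime (Nat.card K₀) p := (hpp.coprime_iff_not_dvd.2 hnd).symm
  have hdec : ∀ c : C, ∃ k ∈ K₀, ∃ d ∈ (T : Subgroup C), c = k * d := by
    intro c
    obtain ⟨⟨k, d⟩, hkd⟩ := hcomp.2 c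
    exact ⟨k, k.2, d, d.2, hkd.symm⟩
  refine ⟨Nat.card K₀, hm, K₀.map C.subtype, ?_, ?_, ?_⟩
  · rintro _ ⟨k, -, rfl⟩
    exact k.2
  · intro x hx
    constructor
    · rintro ⟨k, hk, rfl⟩
      have h1 : (k : C) ^ Nat.card K₀ = 1 := pow_natCard_of_mem hk
      have h2 := congrArg Subtype.val h1
      simpa using h2
    · intro hxm
      obtain ⟨k, hk, d, hd, hkd⟩ := hdec ⟨x, hx⟩
      have hd' : (d : G) ∈ D := by
        have h3 : d ∈ D.subgroupOf C := hd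
        rwa [mem_subgroupOf] at h3
      have hcd : Commute (d : G) (k : G) := hcomm _ hd' _ k.2
      have hxe : x = (k : G) * d := by
        have := congrArg Subtype.val hkd
        simpa using this
      have hk1 : (k : G) ^ Nat.card K₀ = 1 := by
        have h1 : (k : C) ^ Nat.card K₀ = 1 := pow_natCard_of_mem hk
        have h2 := congrArg Subtype.val h1
        simpa using h2
      have hd1 : (d : G) ^ Nat.card K₀ = 1 := by
        rw [hxe, hcd.symm.mul_pow, hk1, one_mul] at hxm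
        exact hxm
      obtain ⟨j, hj⟩ := hD.isP ⟨d, hd'⟩
      have hj' : (d : G) ^ p ^ j = 1 := by simpa [Subtype.ext_iff] using hj
      have hd2 : (d : G) = 1 := pow_eq_one_of_coprime hm hd1 hj'
      have : (k : C) = ⟨x, hx⟩ := by
        apply Subtype.ext
        simp [hxe, hd2]
      exact ⟨k, hk, by simpa using congrArg Subtype.val this⟩
  · intro c hc
    obtain ⟨k, hk, d, hd, hkd⟩ := hdec ⟨c, hc⟩
    have hd' : (d : G) ∈ D := by
      have h3 : d ∈ D.subgroupOf C := hd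
      rwa [mem_subgroupOf] at h3
    refine ⟨d, hd', k, ⟨k, hk, rfl⟩, ?_⟩
    have h1 : c = (k : G) * d := by
      have := congrArg Subtype.val hkd
      simpa using this
    rw [h1]
    exact (hcomm _ hd' _ k.2).symm

/-- The largest subgroup controlling strong fusion is radical. -/
theorem radical_of_max (hp : p ≠ 2) (hqd : ¬ Involves ↥(qd p) G) (P : Sylow p G)
    {Q : Subgroup G} (hQ : Q ≤ (P : Subgroup G)) (hctl : Ctl (P : Subgroup G) Q)
    (hmax : ∀ Q', Q' ≤ (P : Subgroup G) → Ctl (P : Subgroup G) Q' → Q' ≤ Q)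
    {X : Subgroup G} (hXN : X ≤ NN Q) (hNX : ∀ n ∈ NN Q, cj n X = X)
    (hQX : Q ⊔ centralizer (Q : Set G) ≤ X)
    (hk : ∃ k : ℕ, (Q ⊔ centralizer (Q : Set G)).relIndex X = p ^ k) :
    X = Q ⊔ centralizer (Q : Set G) := by
  classical
  have hpp : p.Prime := Fact.out
  have hDQ := inf_centralizer_le_of_max hp hqd P hQ hctl hmax
  set S : Subgroup G := (P : Subgroup G) with hSdef
  have hS : SylowIn p S ⊤ := SylowIn.of_sylow P le_top
  have hSQ : S ≤ NN Q := hctl.le_NN hQ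
  have hSN : SylowIn p S (NN Q) := hS.mono hSQ le_top
  have hNXn : NN Q ≤ NN X := fun n hn => mem_NN_iff_cj.2 (hNX n hn)
  have hCN : centralizer (Q : Set G) ≤ NN Q := centralizer_le_normalizer_set Q
  have hNC : NN Q ≤ NN (centralizer (Q : Set G)) := by
    intro n hn
    apply mem_NN_of_cj_le
    rintro _ ⟨c, hc, rfl⟩
    exact conj_mem_centralizer hn hc
  have hTX : SylowIn p (S ⊓ X) X := hSN.inf_normal hXN hNXn
  have hDs : SylowIn p (S ⊓ centralizer (Q : Set G)) (centralizer (Q : Set G)) :=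
    hSN.inf_normal hCN hNC
  obtain ⟨m, hm, K, hKC, hKm, hKdec⟩ := exists_central_complement hDs (by
    intro d hd c hc
    exact mem_centralizer_iff.1 hc d (hDQ hd))
  -- `K` is normal in `N(Q)`
  have hKN : NN Q ≤ NN K := by
    intro n hn
    apply mem_NN_of_cj_le
    rintro _ ⟨k, hk', rfl⟩
    have h1 := hKC hk'
    have h2 : n * k * n⁻¹ ∈ centralizer (Q : Set G) := conj_mem_centralizer hn h1
    show n * k * n⁻¹ ∈ K
    rw [hKm _ h2, conj_pow, (hKm _ h1).1 hk']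
    simp
  -- `K` is a `p'`-group
  have hKcop : Nat.Coprime (Nat.card K) p := by
    rw [Nat.Coprime, Nat.gcd_comm, ← Nat.Coprime]
    refine (hpp.coprime_iff_not_dvd).2 fun hdvd => ?_
    obtain ⟨x, hx⟩ := exists_prime_orderOf_dvd_card' p hdvd
    have h1 : (x : G) ^ m = 1 := (hKm _ (hKC x.2)).1 x.2
    have h2 : (x : G) ^ p ^ 1 = 1 := by
      rw [pow_one]
      have h3 := pow_orderOf_eq_one x
      rw [hx] at h3
      simpa [Subtype.ext_iff] using h3
    have h3 : (x : G) = 1 := pow_eq_one_of_coprime hm h1 h2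
    have h4 : x = 1 := Subtype.ext h3
    rw [h4, orderOf_one] at hx
    exact hpp.one_lt.ne hx
  have hKinf : ∀ x ∈ K, IsPGroup p (zpowers x) → x = 1 := by
    intro x hx hxp
    obtain ⟨j, hj⟩ := hxp ⟨x, mem_zpowers x⟩
    have hj' : x ^ p ^ j = 1 := by simpa [Subtype.ext_iff] using hj
    exact pow_eq_one_of_coprime hm ((hKm _ (hKC hx)).1 hx) hj'
  set M : Subgroup G := Q ⊔ centralizer (Q : Set G) with hMdef
  have hQM : Q ≤ NN (centralizer (Q : Set G)) := (le_NN Q).trans hNC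
  have hXM : X ≤ NN M := by
    intro x hx
    apply NN_sup_le
    exact ⟨hXN hx, hNC (hXN hx)⟩
  have hXp : ∀ x ∈ X, ∃ n : ℕ, x ^ p ^ n ∈ M := by
    intro x hx
    obtain ⟨k, hk⟩ := hk
    refine ⟨k, ?_⟩
    have hN' : (M.subgroupOf X).Normal := by
      refine ⟨fun a ha b => ?_⟩
      rw [mem_subgroupOf] at ha ⊢
      have := (mem_NN.1 (hXM b.2) a).1 ha
      simpa using this
    have h1 := pow_card_eq_one' (G := X ⧸ M.subgroupOf X) (x := ((⟨x, hx⟩ : X) : X ⧸ M.subgroupOf X))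
    have h2 : Nat.card (X ⧸ M.subgroupOf X) = p ^ k := hk
    rw [h2, ← QuotientGroup.mk_pow, QuotientGroup.eq_one_iff, mem_subgroupOf] at h1
    simpa using h1
  have hdec : ∀ x ∈ X, ∃ t ∈ S ⊓ X, ∃ y ∈ M, x = t * y := by
    intro x hx
    exact hTX.cov hQX hXM hXp hx
  have hQT : Q ≤ S ⊓ X := le_inf hQ (le_sup_left.trans hQX)
  have hmem : ∀ x ∈ X, ∃ t ∈ S ⊓ X, ∃ k ∈ K, x = t * k := by
    intro x hx
    obtain ⟨t, ht, y, hy, rfl⟩ := hdec x hx
    obtain ⟨q, hq, c, hc, rfl⟩ := (mem_sup_iff_of_le_normalizer hQM).1 hy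
    obtain ⟨d, hd, k, hk', rfl⟩ := hKdec c hc
    refine ⟨t * (q * d), ?_, k, hk', by group⟩
    exact (S ⊓ X).mul_mem ht ((S ⊓ X).mul_mem (hQT hq) (hQT (hDQ hd)))
  -- `S ⊓ X` controls strong fusion
  set T : Subgroup G := S ⊓ X with hTdef
  have hTQ : T ≤ Q := by
    refine hmax T inf_le_left ?_
    intro A hA g hg
    obtain ⟨h, hh, hna⟩ := hctl A hA g hg
    suffices hgd : Good T A h from hgd.congr (fun a ha => hna a ha)
    have hSnT : S ≤ NN T := by
      intro s hs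
      apply mem_NN_of_cj_le
      rintro _ ⟨y, hy, rfl⟩
      have h1 : s * y * s⁻¹ ∈ X := (mem_NN.1 (hNXn (hSQ hs)) y).1 hy.2
      exact ⟨S.mul_mem (S.mul_mem hs hy.1) (S.inv_mem hs), h1⟩
    have h1 : cj h T ≤ X := by
      have h2 : cj h X = X := hNX h hh
      rw [← h2]
      exact cj_mono inf_le_right
    obtain ⟨x, hx, hxT⟩ := hTX.conj h1 (isPGroup_cj h hTX.isP)
    have hd₀T : x * h ∈ NN T := mem_NN_of_cj_le (by rw [cj_mul]; exact hxT)
    have hd₀Q : x * h ∈ NN Q := mul_mem (hXN hx) hh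
    obtain ⟨t, ht, k, hk', hxe⟩ := hmem x⁻¹ (X.inv_mem hx)
    have hdT : t * (x * h) ∈ NN T := mul_mem (le_NN T ht) hd₀T
    have hdQ : t * (x * h) ∈ NN Q := mul_mem (hSQ ht.1) hd₀Q
    set d : G := t * (x * h) with hd
    have hk'' : (x * h)⁻¹ * k * (x * h) ∈ K := by
      have := (mem_NN.1 (hKN (inv_mem hd₀Q)) k).1 hk'
      simpa using this
    set k₁ : G := (x * h)⁻¹ * k * (x * h) with hk₁
    have hhe : h = d * k₁ := by
      have h3 : h = x⁻¹ * (x * h) := by group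
      rw [hd, hk₁]
      calc h = x⁻¹ * (x * h) := h3
        _ = t * k * (x * h) := by rw [hxe]
        _ = _ := by group
    have hk₁Q : k₁ ∈ NN Q := hCN (hKC hk'')
    -- the commutators
    have hcomm : ∀ w ∈ K, ∀ a ∈ A, w * a * w⁻¹ * a⁻¹ ∈ K := by
      intro w hw a ha
      have h2 : a * w⁻¹ * a⁻¹ ∈ K := (mem_NN.1 (hKN (hSQ (hA ha))) _).1 (K.inv_mem hw)
      have h3 := K.mul_mem hw h2
      convert h3 using 1
      group
    let U : Subgroup G := K ⊓ NN T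
    have hAU : A ≤ NN U := by
      intro a ha
      apply mem_NN_of_cj_le
      rintro _ ⟨u, hu, rfl⟩
      have haS : a ∈ S := hA ha
      have hu2 : u ∈ NN T := hu.2
      exact ⟨(mem_NN.1 (hKN (hSQ haS)) _).1 hu.1,
        (NN T).mul_mem ((NN T).mul_mem (hSnT haS) hu2) ((NN T).inv_mem (hSnT haS))⟩
    have hUcop : Nat.Coprime (Nat.card U) p :=
      Nat.Coprime.coprime_dvd_left (Subgroup.card_dvd_of_le inf_le_left) hKcop
    have hR : cj k₁ A ≤ A ⊔ U := by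
      rintro _ ⟨a, ha, rfl⟩
      show k₁ * a * k₁⁻¹ ∈ A ⊔ U
      have h2 : k₁ * a * k₁⁻¹ * a⁻¹ ∈ U := by
        refine ⟨hcomm _ hk'' a ha, ?_⟩
        have h3 : k₁ * a * k₁⁻¹ = d⁻¹ * (h * a * h⁻¹) * d := by
          rw [hhe]; group
        have h4 : h * a * h⁻¹ ∈ S := by
          rw [hna a ha]
          exact hg (conj_mem_cj ha)
        refine (NN T).mul_mem ?_ ((NN T).inv_mem (hSnT (hA ha)))
        rw [h3]
        exact (NN T).mul_mem ((NN T).mul_mem ((NN T).inv_mem hdT) (hSnT h4)) hdT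
      have h5 : k₁ * a * k₁⁻¹ = a * (a⁻¹ * (k₁ * a * k₁⁻¹ * a⁻¹) * a) := by group
      rw [h5]
      refine (A ⊔ U).mul_mem (Subgroup.mem_sup_left ha) (Subgroup.mem_sup_right ?_)
      have := (mem_NN.1 (hAU (A.inv_mem ha)) _).1 h2
      simpa using this
    obtain ⟨u₀, hu₀, hu₀R⟩ := sylow_conj_in_prod hAU (hS.isP.to_le hA) hUcop hR
      (isPGroup_cj k₁ (hS.isP.to_le hA))
    have hwK : u₀ * k₁ ∈ K := K.mul_mem hu₀.1 hk''
    have hwA : u₀ * k₁ ∈ NN A := mem_NN_of_cj_le (by rw [cj_mul]; exact hu₀R)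
    have hwC : u₀ * k₁ ∈ centralizer (A : Set G) := by
      rw [mem_centralizer_iff]
      intro a ha
      have h2 := hcomm _ hwK a ha
      have h3 : (u₀ * k₁) * a * (u₀ * k₁)⁻¹ * a⁻¹ ∈ A :=
        A.mul_mem ((mem_NN.1 hwA a).1 ha) (A.inv_mem ha)
      have h4 : (u₀ * k₁) * a * (u₀ * k₁)⁻¹ * a⁻¹ = 1 := by
        refine hKinf _ h2 ?_
        exact (hS.isP.to_le hA).to_le ((zpowers_le).2 h3)
      have h5 : (u₀ * k₁) * a * (u₀ * k₁)⁻¹ = a := by
        rw [mul_inv_eq_one] at h4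
        exact h4
      rw [mul_inv_eq_iff_eq_mul] at h5
      exact h5.symm
    rw [good_iff]
    refine ⟨d * u₀⁻¹, (NN T).mul_mem hdT ((NN T).inv_mem hu₀.2), u₀ * k₁, hwC, ?_⟩
    rw [hhe]
    group
  refine le_antisymm ?_ hQX
  intro x hx
  obtain ⟨t, ht, y, hy, rfl⟩ := hdec x hx
  exact M.mul_mem (Subgroup.mem_sup_left (hTQ ht)) hy

end Radical

section Least

variable {p : ℕ} [Fact p.Prime] {G : Type u} [Group G] [Finite G]

lemma sylowIn_of_sylow {C D : Subgroup G} (R : Sylow p C)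
    (h : (R : Subgroup C).map C.subtype = D) : SylowIn p D C := by
  subst h
  refine ⟨?_, R.isPGroup'.map _, ?_⟩
  · rintro _ ⟨r, _, rfl⟩
    exact r.2
  · intro R' hR' hR'p hle
    have h1 : IsPGroup p (R'.subgroupOf C) := by
      intro x
      obtain ⟨k, hk⟩ := hR'p ⟨x.1.1, x.2⟩
      exact ⟨k, Subtype.ext (Subtype.ext (by simpa [Subtype.ext_iff] using hk))⟩
    have h2 : (R : Subgroup C) ≤ R'.subgroupOf C := by
      intro r hr
      rw [mem_subgroupOf]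
      exact hle ⟨r, hr, rfl⟩
    have h3 := R.is_maximal' h1 h2
    intro x hx
    have h4 : (⟨x, hR' hx⟩ : C) ∈ R'.subgroupOf C := by
      rw [mem_subgroupOf]
      exact hx
    rw [h3] at h4
    exact ⟨⟨x, hR' hx⟩, h4, rfl⟩

/-- A subgroup whose normalizer controls strong fusion lies in every centric radical subgroup. -/
theorem le_of_cr {S Q R : Subgroup G} (hSp : IsPGroup p S) (hQ : Q ≤ S) (hctl : Ctl S Q) (hRS : R ≤ S)
    (hR₁ : SylowIn p (R ⊓ centralizer (R : Set G)) (centralizer (R : Set G)))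
    (hR₂ : ∀ X : Subgroup G, X ≤ NN R → (∀ n ∈ NN R, cj n X = X) →
      R ⊔ centralizer (R : Set G) ≤ X →
      (∃ k : ℕ, (R ⊔ centralizer (R : Set G)).relIndex X = p ^ k) →
      X = R ⊔ centralizer (R : Set G)) : Q ≤ R := by
  classical
  have hSQ : S ≤ NN Q := hctl.le_NN hQ
  set C : Subgroup G := centralizer (R : Set G) with hC
  have hCN : C ≤ NN R := centralizer_le_normalizer_set R
  have hRC : NN R ≤ NN C := by
    intro n hn
    apply mem_NN_of_cj_le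
    rintro _ ⟨c, hc, rfl⟩
    exact conj_mem_centralizer hn hc
  set M : Subgroup G := R ⊔ C with hM
  have hMN : M ≤ NN R := sup_le (le_NN R) hCN
  have hNM : NN R ≤ NN M := fun n hn => NN_sup_le ⟨hn, hRC hn⟩
  let B : Subgroup G := Q ⊓ NN R
  have hBp : IsPGroup p B := hSp.to_le (inf_le_left.trans hQ)
  have hBM : B ≤ NN M := inf_le_right.trans hNM
  let X : Subgroup G := B ⊔ M
  have hXN : X ≤ NN R := sup_le inf_le_right hMN
  have hinv : ∀ n ∈ NN R, cj n X = X := by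
    intro n hn
    obtain ⟨h, hh, c, hc, hne⟩ := good_iff.1 (hctl R hRS n (by rw [mem_NN_iff_cj.1 hn]; exact hRS))
    have hcN : c ∈ NN R := hCN hc
    have hhR : h ∈ NN R := by
      have h3 : h = n * c⁻¹ := by rw [hne]; group
      rw [h3]
      exact mul_mem hn (inv_mem hcN)
    have h1 : cj c X = X := cj_eq_of_mem (Subgroup.mem_sup_right (Subgroup.mem_sup_right hc))
    have h2 : cj h X = X := by
      show cj h (B ⊔ M) = B ⊔ M
      rw [cj_sup, mem_NN_iff_cj.1 (hNM hhR)]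
      congr 1
      show cj h (Q ⊓ NN R) = Q ⊓ NN R
      rw [cj_inf, mem_NN_iff_cj.1 hh, mem_NN_iff_cj.1 (show h ∈ NN (NN R) from le_NN (NN R) hhR)]
    rw [hne, cj_mul, h1, h2]
  have hrel : ∃ k : ℕ, M.relIndex X = p ^ k := by
    have hN' : (M.subgroupOf X).Normal := by
      refine ⟨fun a ha b => ?_⟩
      rw [mem_subgroupOf] at ha ⊢
      have hb : (b : G) ∈ NN M := sup_le hBM (le_NN M) b.2
      have := (mem_NN.1 hb a).1 ha
      simpa using this
    have hq : IsPGroup p (X ⧸ M.subgroupOf X) := by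
      intro y
      obtain ⟨⟨x, hx⟩, rfl⟩ := QuotientGroup.mk_surjective y
      obtain ⟨b, hb, m, hm, rfl⟩ := (mem_sup_iff_of_le_normalizer hBM).1 hx
      obtain ⟨j, hj⟩ := hBp ⟨b, hb⟩
      have hj' : b ^ p ^ j = 1 := by simpa [Subtype.ext_iff] using hj
      refine ⟨j, ?_⟩
      have h1 : ((⟨b * m, hx⟩ : X) : X ⧸ M.subgroupOf X) =
          ((⟨b, Subgroup.mem_sup_left hb⟩ : X) : X ⧸ M.subgroupOf X) := by
        rw [QuotientGroup.eq, mem_subgroupOf]
        have h2 : b⁻¹ * (b * m) = m := by group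
        simpa [h2] using (show (⟨b, Subgroup.mem_sup_left hb⟩ : X)⁻¹.1 * (⟨b * m, hx⟩ : X).1 ∈ M by
          simpa [h2] using hm)
      rw [h1, ← QuotientGroup.mk_pow, QuotientGroup.eq_one_iff, mem_subgroupOf]
      simp [hj', M.one_mem]
    obtain ⟨k, hk⟩ := IsPGroup.iff_card.1 hq
    exact ⟨k, hk⟩
  have hX : X = M := hR₂ X hXN hinv le_sup_right hrel
  have hBM' : B ≤ M := by
    rw [← hX]
    exact le_sup_left
  have hRCn : R ≤ NN C := (le_NN R).trans hRC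
  have hsyl : SylowIn p R M := by
    refine ⟨le_sup_left, hSp.to_le hRS, ?_⟩
    intro R' hR' hR'p hRR' r' hr'
    obtain ⟨r, hr, c, hc, rfl⟩ := (mem_sup_iff_of_le_normalizer hRCn).1 (hR' hr')
    have hcR' : c ∈ R' := by
      have := R'.mul_mem (R'.inv_mem (hRR' hr)) hr'
      simpa using this
    have h1 : R' ⊓ C ≤ R ⊓ C := by
      refine hR₁.max _ inf_le_right (hR'p.to_le inf_le_left) ?_
      exact inf_le_inf_right _ hRR'
    exact R.mul_mem hr (h1 ⟨hcR', hc⟩).1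
  have hBR : B ≤ R := by
    have h1 := hsyl.max (B ⊔ R) (sup_le hBM' le_sup_left)
      (hSp.to_le (sup_le (inf_le_left.trans hQ) hRS)) le_sup_right
    exact le_sup_left.trans h1
  by_contra hne
  have hlt : R < R ⊔ Q := by
    refine lt_of_le_of_ne le_sup_left fun he => hne ?_
    rw [he]
    exact le_sup_right
  have hlt2 := lt_inf_NN (hSp.to_le (sup_le hRS hQ)) hlt
  obtain ⟨w, hw, hwR⟩ := SetLike.exists_of_lt hlt2
  obtain ⟨r, hr, q, hq, rfl⟩ := (mem_sup_iff_of_le_normalizer (hRS.trans hSQ)).1 hw.1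
  apply hwR
  have h3 : q ∈ NN R := by
    have h4 : r⁻¹ * (r * q) ∈ NN R := mul_mem (inv_mem (le_NN R hr)) hw.2
    simpa using h4
  exact R.mul_mem hr (hBR ⟨hq, h3⟩)

end Least

section Hypothesis

variable {p : ℕ} [Fact p.Prime] {G : Type u} [Group G] [Finite G]

open scoped MatrixGroups
open Cfsg.Agent.Lib.PReduced.Qd

lemma exists_hom_ext {H L A : Type*} [Group H] [Group L] [Group A] (j : A →* H) (C : Subgroup H)
    [hC : C.Normal] (hsup : ∀ x : H, ∃ a : A, ∃ c ∈ C, x = j a * c) (f : A →* L)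
    (hf : ∀ a : A, j a ∈ C → f a = 1) :
    ∃ ψ : H →* L, (∀ a : A, ψ (j a) = f a) ∧ ∀ c ∈ C, ψ c = 1 := by
  classical
  choose sel c hc hsel using hsup
  have key : ∀ (x : H) (a : A) (d : H), d ∈ C → x = j a * d → f (sel x) = f a := by
    intro x a d hd hx
    have h1 : j ((sel x)⁻¹ * a) ∈ C := by
      rw [map_mul, map_inv]
      have h2 : (j (sel x))⁻¹ * j a = c x * d⁻¹ := by
        have h3 : j (sel x) * c x = j a * d := (hsel x).symm.trans hx
        have h4 : j a = j (sel x) * c x * d⁻¹ := by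
          rw [h3]; group
        rw [h4]
        group
      rw [h2]
      exact C.mul_mem (hc x) (C.inv_mem hd)
    have h2 := hf _ h1
    rw [map_mul, map_inv, inv_mul_eq_one] at h2
    exact h2
  let ψ : H →* L := MonoidHom.mk' (fun x => f (sel x)) (by
    intro x y
    have h1 : x * y = j (sel x * sel y) * ((j (sel y))⁻¹ * c x * j (sel y) * c y) := by
      conv_lhs => rw [hsel x, hsel y]
      rw [map_mul]
      group
    have h2 : (j (sel y))⁻¹ * c x * j (sel y) * c y ∈ C := by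
      refine C.mul_mem ?_ (hc y)
      have := hC.conj_mem _ (hc x) (j (sel y))⁻¹
      simpa using this
    rw [key _ _ _ h2 h1, map_mul])
  refine ⟨ψ, fun a => ?_, fun d hd => ?_⟩
  · exact key _ a 1 C.one_mem (by simp)
  · have h1 := key d 1 d hd (by simp)
    show f (sel d) = 1
    rw [h1, map_one]

/-- If no automizer of a `p`-subgroup involves `SL₂(p)`, then `Qd(p)` is not involved. -/
theorem not_involves_of_automizers (hfree : ∀ Q : Subgroup G, IsPGroup p ↥Q → ¬ ∃ (H K : Subgroup G)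
    (_ : (K.subgroupOf H).Normal),
      centralizer (Q : Set G) ≤ K ∧ K ≤ H ∧ H ≤ normalizer (Q : Set G) ∧
      Nonempty ((↥H ⧸ K.subgroupOf H) ≃* Matrix.SpecialLinearGroup (Fin 2) (ZMod p))) :
    ¬ Involves ↥(qd p) G := by
  classical
  intro hi
  have hpp : p.Prime := Fact.out
  obtain ⟨K₀, θ, hθ⟩ := involves_exists_surj hi
  let θ' : ↥K₀ →* QdG (ZMod p) := θ
  let φ : ↥K₀ →* SL(2, ZMod p) := lin.comp θ'
  have hφ : Function.Surjective φ := lin_surjective.comp hθ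
  let M : Subgroup ↥K₀ := φ.ker
  have hMn : M.Normal := inferInstance
  obtain ⟨T⟩ : Nonempty (Sylow p M) := inferInstance
  let T₁ : Subgroup ↥K₀ := (T : Subgroup M).map M.subtype
  have hfr : normalizer (T₁ : Set ↥K₀) ⊔ M = ⊤ := Sylow.normalizer_sup_eq_top T
  have hT₁p : IsPGroup p T₁ := T.isPGroup'.map _
  have hT₁s : SylowIn p T₁ M := sylowIn_of_sylow T rfl
  have htrans : ∀ v : Fin 2 → ZMod p, ∃ s ∈ T₁, θ' s = mk 1 v := by
    intro v
    obtain ⟨t, ht⟩ := hθ (mk 1 v)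
    have ht' : θ' t = mk 1 v := ht
    have htM : t ∈ M := by
      refine MonoidHom.mem_ker.2 ?_
      show lin (θ' t) = 1
      rw [ht', lin_mk]
    have hkerle : θ'.ker ≤ M := by
      intro x hx
      refine MonoidHom.mem_ker.2 ?_
      show lin (θ' x) = 1
      rw [MonoidHom.mem_ker.1 hx, map_one]
    have hkerN : M ≤ NN θ'.ker := by
      rw [NN_eq_top_iff.2 inferInstance]
      exact le_top
    have hpow : ∀ x ∈ M, ∃ m : ℕ, x ^ p ^ m ∈ θ'.ker := by
      intro x hx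
      obtain ⟨m, hm⟩ := isPGroup_ker_lin (p := p) (F := ZMod p) ⟨θ' x, hx⟩
      refine ⟨m, MonoidHom.mem_ker.2 ?_⟩
      rw [map_pow]
      simpa [Subtype.ext_iff] using hm
    obtain ⟨s, hs, k, hk, hse⟩ := hT₁s.cov hkerle hkerN hpow htM
    refine ⟨s, hs, ?_⟩
    rw [← ht', hse, map_mul, MonoidHom.mem_ker.1 hk, mul_one]
  let Q₁ : Subgroup G := T₁.map K₀.subtype
  have hQ₁p : IsPGroup p Q₁ := hT₁p.map _
  let K₁ : Subgroup ↥K₀ := normalizer (T₁ : Set ↥K₀)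
  have hK₁ : K₁.map K₀.subtype ≤ NN Q₁ := by
    rintro _ ⟨a, ha, rfl⟩
    exact Subgroup.le_normalizer_map K₀.subtype ⟨a, ha, rfl⟩
  let C : Subgroup G := centralizer (Q₁ : Set G)
  have hBC : K₁.map K₀.subtype ≤ NN C := by
    intro b hb
    apply mem_NN_of_cj_le
    rintro _ ⟨c, hc, rfl⟩
    exact conj_mem_centralizer (hK₁ hb) hc
  let H : Subgroup G := K₁.map K₀.subtype ⊔ C
  have hHN : H ≤ NN Q₁ := sup_le hK₁ (centralizer_le_normalizer_set Q₁)
  let j : ↥K₁ →* ↥H := (K₀.subtype.comp K₁.subtype).codRestrict H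
    (fun x => Subgroup.mem_sup_left ⟨x, x.2, rfl⟩)
  let Cs : Subgroup ↥H := C.subgroupOf H
  have hCn : Cs.Normal := by
    refine ⟨fun a ha b => ?_⟩
    have ha' : (a : G) ∈ C := ha
    have := conj_mem_centralizer (hHN b.2) ha'
    show ((b * a * b⁻¹ : ↥H) : G) ∈ C
    simpa using this
  have hsup : ∀ x : ↥H, ∃ a : ↥K₁, ∃ c ∈ Cs, x = j a * c := by
    rintro ⟨x, hx⟩
    obtain ⟨b, hb, c, hc, rfl⟩ := (mem_sup_iff_of_le_normalizer hBC).1 hx
    obtain ⟨a, ha, rfl⟩ := hb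
    exact ⟨⟨a, ha⟩, ⟨c, Subgroup.mem_sup_right hc⟩, hc, Subtype.ext rfl⟩
  have hf : ∀ a : ↥K₁, j a ∈ Cs → (φ.comp K₁.subtype) a = 1 := by
    intro a ha
    have h1 : (((a : ↥K₀)) : G) ∈ C := ha
    show lin (θ' a) = 1
    have hfix : ∀ v : Fin 2 → ZMod p,
        ((lin (θ' a) : SL(2, ZMod p)) : Matrix (Fin 2) (Fin 2) (ZMod p)).mulVec v = v := by
      intro v
      obtain ⟨s, hs, hsv⟩ := htrans v
      have h2 := mem_centralizer_iff.1 h1 ((s : ↥K₀) : G) ⟨s, hs, rfl⟩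
      have h3 : s * (a : ↥K₀) = (a : ↥K₀) * s := Subtype.ext h2
      have h4 := congrArg θ' h3
      rw [map_mul, map_mul, hsv] at h4
      have h5 := Cfsg.Agent.Lib.PReduced.QdChar.conj_translation (θ' a) v
      rw [← h4] at h5
      have h6 : mk 1 v * θ' a * (θ' a)⁻¹ = mk 1 v := by group
      rw [h6] at h5
      have h7 := congrArg tv h5
      rw [tv_mk, tv_mk] at h7
      exact h7.symm
    apply Subtype.ext
    apply Matrix.mulVec_injective
    funext v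
    rw [hfix v]
    simp
  obtain ⟨ψ, hψ, hψC⟩ := exists_hom_ext j Cs hsup (φ.comp K₁.subtype) hf
  have hψs : Function.Surjective ψ := by
    intro A
    obtain ⟨k, hk⟩ := hφ A
    have hk' : k ∈ K₁ ⊔ M := by
      rw [hfr]
      trivial
    obtain ⟨n, hn, m', hm', rfl⟩ := Subgroup.mem_sup_of_normal_right.1 hk'
    refine ⟨j ⟨n, hn⟩, ?_⟩
    rw [hψ]
    show φ n = A
    rw [← hk, map_mul, MonoidHom.mem_ker.1 hm', mul_one]
  let K : Subgroup G := ψ.ker.map H.subtype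
  have hKs : K.subgroupOf H = ψ.ker :=
    Subgroup.comap_map_eq_self_of_injective H.subtype_injective _
  have hKn : (K.subgroupOf H).Normal := by
    rw [hKs]
    infer_instance
  refine hfree Q₁ hQ₁p ⟨H, K, hKn, ?_, ?_, hHN, ?_⟩
  · intro c hc
    have hcH : c ∈ H := Subgroup.mem_sup_right hc
    exact ⟨⟨c, hcH⟩, MonoidHom.mem_ker.2 (hψC _ hc), rfl⟩
  · rintro _ ⟨x, -, rfl⟩
    exact x.2
  · exact ⟨(QuotientGroup.quotientMulEquivOfEq hKs).trans
      (QuotientGroup.quotientKerEquivOfSurjective ψ hψs)⟩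

end Hypothesis

end Cfsg.Agent.Lib.PLocal.ConstrainedQd
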