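/-
Thompson factorization: `G = N_G(J(P)) C_G(Ω₁(Z(P)))`, and its relation to `J(G)` centralizing the
subgroup generated by all `Ω₁(Z(S))`.
-/
import Cfsg.Agent.Lib.PLocal.ThompsonComplement
import Cfsg.Agent.Lib.QuadAct.OmegaZ

set_option autoImplicit false
set_option linter.unusedSectionVars false

namespace Cfsg.Agent.Lib.PLocal.Factorization

open Subgroup Cfsg
open scoped commutatorElement
open Cfsg.Agent.Lib.PLocal.Thompson Cfsg.Agent.Lib.PLocal.ZJ Cfsg.Agent.Lib.PLocal.ZJConstrained
  Cfsg.Agent.Lib.PLocal.Stability Cfsg.Agent.Lib.Core.Basic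
  Cfsg.Agent.Lib.Transfer.Basic Cfsg.Agent.Lib.Core.CoprimeMap
  Cfsg.Agent.Lib.PLocal.ThompsonFunctor Cfsg.Agent.Lib.PLocal.ConjFamily
  Cfsg.Agent.Lib.PLocal.Alperin

universe u

variable {G : Type u} [Group G] [Finite G] {p : ℕ} [Fact p.Prime]

/-- The Frattini argument for `J(P)`. -/
lemma exists_factor (P : Sylow p G) (C : Subgroup G) [hC : C.Normal]
    (hJC : jOf p (P : Subgroup G) ≤ C) (g : G) :
    ∃ c ∈ C, ∃ n ∈ normalizer (jOf p (P : Subgroup G) : Set G), g = c * n := by
  obtain ⟨c, hc, y, hy, rfl⟩ := Cfsg.Agent.Lib.PLocal.AlperinG.exists_frattini_normal P C g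
  refine ⟨c, hc, y, ?_, rfl⟩
  have hTp : IsPGroup p ((P : Subgroup G) ⊓ C : Subgroup G) := P.isPGroup'.to_le inf_le_left
  have hJ : jOf p ((P : Subgroup G) ⊓ C) = jOf p (P : Subgroup G) :=
    jOf_eq_of_le inf_le_left (le_inf (jOf_le _ _) hJC)
  have h1 := (pFunctor_jOf (e := p) (p := p) (Or.inr rfl)).normalizer_le _ hTp hy
  rwa [hJ] at h1

/-- A conjugate of `Ω₁(Z(S))`. -/
lemma conj_omega_mem {S : Subgroup G} {z h : G} (hz : z ∈ omegaOne p (S ⊓ centralizer (S : Set G))) :
    h * z * h⁻¹ ∈ omegaOne p ((S.map (MulAut.conj h).toMonoidHom) ⊓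
      centralizer ((S.map (MulAut.conj h).toMonoidHom : Subgroup G) : Set G)) := by
  induction hz using closure_induction with
  | mem x hx =>
    obtain ⟨⟨hx1, hx2⟩, hx3⟩ := hx
    refine subset_closure ⟨Subgroup.mem_inf.2 ⟨⟨x, hx1, rfl⟩, ?_⟩, ?_⟩
    · rw [mem_centralizer_iff]
      rintro _ ⟨s, hs, rfl⟩
      have h1 := mem_centralizer_iff.1 hx2 s hs
      show h * s * h⁻¹ * (h * x * h⁻¹) = h * x * h⁻¹ * (h * s * h⁻¹)
      calc h * s * h⁻¹ * (h * x * h⁻¹) = h * (s * x) * h⁻¹ := by group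
        _ = h * (x * s) * h⁻¹ := by rw [h1]
        _ = _ := by group
    · rw [conj_pow, hx3]
      group
  | one =>
    simp only [mul_one, mul_inv_cancel]
    exact one_mem _
  | mul x y _ _ hx hy =>
    have e : h * (x * y) * h⁻¹ = (h * x * h⁻¹) * (h * y * h⁻¹) := by group
    rw [e]
    exact mul_mem hx hy
  | inv x _ hx =>
    have e : h * x⁻¹ * h⁻¹ = (h * x * h⁻¹)⁻¹ := by group
    rw [e]
    exact inv_mem hx

/-- Everything in `Ω₁(Z(S))` commutes with the elements of `J(S)`. -/
lemma omega_commute_jOf {S : Subgroup G} {z j : G} (hz : z ∈ omegaOne p (S ⊓ centralizer (S : Set G)))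
    (hj : j ∈ jOf p S) : z * j = j * z := by
  have hle : omegaOne p (S ⊓ centralizer (S : Set G)) ≤ centralizer (jOf p S : Set G) := by
    rw [omegaOne, closure_le]
    rintro x ⟨⟨_, hx2⟩, -⟩
    rw [SetLike.mem_coe, mem_centralizer_iff]
    intro y hy
    exact mem_centralizer_iff.1 hx2 y (jOf_le _ _ hy)
  exact (mem_centralizer_iff.1 (hle hz) j hj).symm

/-- The equivalence behind S0608. -/
theorem factorizable_iff (hO : pPrimeCore p G = ⊥) :
    IsThompsonFactorizable p G ↔ thompsonSubgroup p G ≤ centralizer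
      ((⨆ S : Sylow p G, omegaOne p ((S : Subgroup G) ⊓
        centralizer ((S : Subgroup G) : Set G)) : Subgroup G) : Set G) := by
  classical
  have hV : ∀ S : Sylow p G, omegaOne p ((S : Subgroup G) ⊓ centralizer ((S : Subgroup G) : Set G)) ≤
      (⨆ S : Sylow p G, omegaOne p ((S : Subgroup G) ⊓ centralizer ((S : Subgroup G) : Set G)) :
        Subgroup G) := fun S => le_iSup (fun S : Sylow p G => omegaOne p ((S : Subgroup G) ⊓
          centralizer ((S : Subgroup G) : Set G))) S
  constructor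
  · intro hfac
    -- each `Ω₁(Z(T))` centralizes each `J(S)`
    have hmain : ∀ S T : Sylow p G, ∀ j ∈ jOf p (S : Subgroup G), ∀ z ∈ omegaOne p
        ((T : Subgroup G) ⊓ centralizer ((T : Subgroup G) : Set G)), z * j = j * z := by
      intro S T j hj z hz
      obtain ⟨h, hh⟩ := MulAction.exists_smul_eq G S T
      have hT : (T : Subgroup G) = (S : Subgroup G).map (MulAut.conj h).toMonoidHom := by
        rw [← hh]
        rfl
      obtain ⟨x, hx, c, hc, n, hn, e⟩ := hfac S h⁻¹
      rw [hO, mem_bot] at hx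
      rw [hx, one_mul] at e
      rw [thompsonSubgroupOf_eq] at hn
      set z₀ : G := h⁻¹ * z * h with hz₀
      have hz₀m : z₀ ∈ omegaOne p ((S : Subgroup G) ⊓ centralizer ((S : Subgroup G) : Set G)) := by
        have h1 := conj_omega_mem (p := p) (S := (T : Subgroup G)) (z := z) (h := h⁻¹) hz
        have h2 : (T : Subgroup G).map (MulAut.conj h⁻¹).toMonoidHom = (S : Subgroup G) := by
          rw [hT, Subgroup.map_map]
          convert Subgroup.map_id (S : Subgroup G)
          ext y
          show h⁻¹ * (h * y * h⁻¹) * h⁻¹⁻¹ = y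
          group
        rw [h2] at h1
        have e1 : h⁻¹ * z * h⁻¹⁻¹ = z₀ := by
          rw [hz₀, inv_inv]
        rwa [e1] at h1
      have hzz : z = n⁻¹ * z₀ * n := by
        have hcz : c * z₀ * c⁻¹ = z₀ := by
          have h1 := mem_centralizer_iff.1 hc z₀ hz₀m
          rw [← h1]
          group
        have e1 : h * z₀ * h⁻¹ = z := by
          rw [hz₀]
          group
        have hh' : h = n⁻¹ * c⁻¹ := by
          have : h = (h⁻¹)⁻¹ := by group
          rw [this, e]
          group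
        rw [← e1, hh']
        calc n⁻¹ * c⁻¹ * z₀ * (n⁻¹ * c⁻¹)⁻¹ = n⁻¹ * (c⁻¹ * z₀ * c) * n := by group
          _ = n⁻¹ * z₀ * n := by
            have : c⁻¹ * z₀ * c = z₀ := by
              nth_rewrite 1 [← hcz]
              group
            rw [this]
      have hj' : n * j * n⁻¹ ∈ jOf p (S : Subgroup G) := (mem_normalizer_iff.1 hn j).1 hj
      have h3 := omega_commute_jOf hz₀m hj'
      rw [hzz]
      calc n⁻¹ * z₀ * n * j = n⁻¹ * (z₀ * (n * j * n⁻¹)) * n := by group
        _ = n⁻¹ * ((n * j * n⁻¹) * z₀) * n := by rw [h3]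
        _ = j * (n⁻¹ * z₀ * n) := by group
    rw [thompsonSubgroup_eq, jOf, sSup_le_iff]
    intro A hA a ha
    -- `A` lies in a Sylow subgroup
    have hAp : IsPGroup p A := by
      rintro ⟨x, hx⟩
      exact ⟨1, Subtype.ext (by simpa using hA.2.1.2 x hx)⟩
    obtain ⟨S, hS⟩ := hAp.exists_le_sylow
    have hAS : IsMaxIn p (S : Subgroup G) A := hA.of_le le_top hS
    have haJ : a ∈ jOf p (S : Subgroup G) := hAS.le_jOf ha
    rw [mem_centralizer_iff]
    intro v hv
    have hC : centralizer ({a} : Set G) ≥ (⨆ S : Sylow p G, omegaOne p ((S : Subgroup G) ⊓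
        centralizer ((S : Subgroup G) : Set G)) : Subgroup G) := by
      refine iSup_le ?_
      intro T z hz
      rw [mem_centralizer_iff]
      intro w hw
      rw [Set.mem_singleton_iff] at hw
      rw [hw]
      exact (hmain S T a haJ z hz).symm
    exact (mem_centralizer_iff.1 (hC hv) a rfl).symm
  · intro hJ S g
    have hCn : (centralizer ((⨆ S : Sylow p G, omegaOne p ((S : Subgroup G) ⊓
        centralizer ((S : Subgroup G) : Set G)) : Subgroup G) : Set G)).Normal := by
      have hVn : (⨆ S : Sylow p G, omegaOne p ((S : Subgroup G) ⊓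
        centralizer ((S : Subgroup G) : Set G)) : Subgroup G).Normal :=
        Cfsg.Agent.Lib.QuadAct.OmegaZ.omegaZ_normal
      exact normal_centralizer
    have hJS : jOf p (S : Subgroup G) ≤ centralizer ((⨆ S : Sylow p G, omegaOne p
        ((S : Subgroup G) ⊓ centralizer ((S : Subgroup G) : Set G)) : Subgroup G) : Set G) := by
      refine le_trans ?_ hJ
      rw [thompsonSubgroup_eq, jOf, sSup_le_iff]
      intro A hA
      refine IsMaxIn.le_jOf (⟨le_top, hA.2.1, ?_⟩ : IsMaxIn p ⊤ A)
      intro B _ hB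
      have hBp : IsPGroup p B := by
        rintro ⟨x, hx⟩
        exact ⟨1, Subtype.ext (by simpa using hB.2 x hx)⟩
      obtain ⟨T, hT⟩ := hBp.exists_le_sylow
      obtain ⟨h, hh⟩ := MulAction.exists_smul_eq G T S
      have hS : (S : Subgroup G) = (T : Subgroup G).map (MulAut.conj h).toMonoidHom := by
        rw [← hh]
        rfl
      have hB'S : B.map (MulAut.conj h).toMonoidHom ≤ (S : Subgroup G) := by
        rw [hS]
        exact Subgroup.map_mono hT
      have h1 := hA.2.2 _ hB'S (hB.map _)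
      rwa [Subgroup.card_map_of_injective (MulAut.conj h).injective] at h1
    obtain ⟨c, hc, n, hn, rfl⟩ := exists_factor S _ hJS g
    refine ⟨1, one_mem _, c, ?_, n, ?_, by group⟩
    · rw [mem_centralizer_iff]
      intro z hz
      exact mem_centralizer_iff.1 hc z (hV S hz)
    · rw [thompsonSubgroupOf_eq]
      exact hn

/-- Thompson factorization from the normality of `Ω₁(Z(J(P)))`. -/
theorem factorization_of_normal (P : Sylow p G) (hW : (Z₀ p (P : Subgroup G)).Normal) (g : G) :
    ∃ a ∈ normalizer (jOf p (P : Subgroup G) : Set G),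
      ∃ c ∈ centralizer {x : G | x ∈ (P : Subgroup G) ∧ (∀ y ∈ (P : Subgroup G), x * y = y * x) ∧
        x ^ p = 1}, g = a * c := by
  have hCn : (centralizer (Z₀ p (P : Subgroup G) : Set G)).Normal := normal_centralizer
  have hJC : jOf p (P : Subgroup G) ≤ centralizer (Z₀ p (P : Subgroup G) : Set G) := by
    rw [jOf, sSup_le_iff]
    intro A hA a ha
    rw [mem_centralizer_iff]
    intro w hw
    exact hA.2.1.comm (Z₀_le hA hw) ha
  obtain ⟨c, hc, n, hn, e⟩ := exists_factor P _ hJC g⁻¹
  refine ⟨n⁻¹, inv_mem hn, c⁻¹, ?_, ?_⟩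
  · rw [mem_centralizer_iff]
    rintro x ⟨hx1, hx2, hx3⟩
    have hxZ : x ∈ Z₀ p (P : Subgroup G) :=
      Cfsg.Agent.Lib.PLocal.ThompsonComplement.mem_Z₀_of_central _ hx1
        (fun s hs => (hx2 s hs).symm) hx3
    exact mem_centralizer_iff.1 (inv_mem hc) x hxZ
  · have : g = (g⁻¹)⁻¹ := by group
    rw [this, e]
    group

end Cfsg.Agent.Lib.PLocal.Factorization
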