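/-
Stability for `p`-solvable groups, `p` odd, `p = 3` with abelian Sylow `2`-subgroups; Thompson
factorization for such groups.
-/
import Cfsg.Agent.Lib.PLocal.Factorization
import Cfsg.Agent.Lib.QuadAct.PStable
import Cfsg.Agent.Lib.Core.PSolvable2

set_option autoImplicit false
set_option linter.unusedSectionVars false

namespace Cfsg.Agent.Lib.PLocal.StablePSolvable

open Subgroup Cfsg
open scoped commutatorElement
open Cfsg.Agent.Lib.PLocal.Thompson Cfsg.Agent.Lib.PLocal.ZJ Cfsg.Agent.Lib.PLocal.ZJConstrained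
  Cfsg.Agent.Lib.PLocal.Stability Cfsg.Agent.Lib.Core.Basic
  Cfsg.Agent.Lib.Core.PSolvable Cfsg.Agent.Lib.QuadAct.ThmA Cfsg.Agent.Lib.QuadAct.ThmAx
  Cfsg.Agent.Lib.QuadAct.Sections

universe u

variable {G : Type u} [Group G] [Finite G] {p : ℕ} [Fact p.Prime]

/-- The representation of `G / sectionKernel R R₁` on the section `R / R₁`. -/
theorem exists_section_rep {R R₁ : Subgroup G} [hR : R.Normal] [hR₁ : R₁.Normal]
    [hK : (sectionKernel R R₁).Normal]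
    (hab : ∀ r ∈ R, ∀ s ∈ R, ⁅r, s⁆ ∈ R₁) (hexp : ∀ r ∈ R, r ^ p ∈ R₁) :
    ∃ (M : Type u) (_ : AddCommGroup M) (_ : Module (ZMod p) M) (_ : Finite M)
      (ρ : (G ⧸ sectionKernel R R₁) →* Module.End (ZMod p) M), Function.Injective ρ ∧
        ∀ a : G, (∀ r ∈ R, ⁅a, ⁅a, r⁆⁆ ∈ R₁) → Quad (ρ (QuotientGroup.mk a)) := by
  classical
  let m : G →* G ⧸ R₁ := QuotientGroup.mk' R₁
  have hm1 : ∀ t : G, m t = 1 ↔ t ∈ R₁ := fun t => by
    show (QuotientGroup.mk t : G ⧸ R₁) = 1 ↔ _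
    exact QuotientGroup.eq_one_iff t
  let B : Subgroup (G ⧸ R₁) := R.map m
  have hB : B.Normal := Subgroup.Normal.map hR _ (QuotientGroup.mk'_surjective R₁)
  let τ : G →* MulAut B := (MulAut.conjNormal (H := B)).comp m
  have hτ : ∀ (g r : G) (hr : r ∈ R),
      τ g ⟨m r, ⟨r, hr, rfl⟩⟩ = ⟨m (g * r * g⁻¹), ⟨g * r * g⁻¹, hR.conj_mem r hr g, rfl⟩⟩ := by
    intro g r hr
    apply Subtype.ext
    simp [τ, MulAut.conjNormal_apply]
  have hcomm : ∀ u v : B, u * v = v * u := by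
    rintro ⟨_, r, hr, rfl⟩ ⟨_, s, hs, rfl⟩
    apply Subtype.ext
    show m r * m s = m s * m r
    have h1 := (hm1 _).2 (hab r hr s hs)
    rw [map_commutatorElement, commutatorElement_eq_one_iff_mul_comm] at h1
    exact h1
  have hmk : ∀ t r : G, ∀ hr : r ∈ R, ⁅t, r⁆ ∈ R₁ ↔ τ t ⟨m r, ⟨r, hr, rfl⟩⟩ = ⟨m r, ⟨r, hr, rfl⟩⟩ := by
    intro t r hr
    rw [hτ t r hr, Subtype.ext_iff, ← hm1]
    have e : t * r * t⁻¹ = ⁅t, r⁆ * r := by
      rw [commutatorElement_def]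
      group
    show _ ↔ m (t * r * t⁻¹) = m r
    rw [e, map_mul]
    constructor
    · intro h
      rw [h, one_mul]
    · intro h
      exact mul_eq_right.1 h
  have hker : ∀ t : G, t ∈ sectionKernel R R₁ ↔ τ t = 1 := by
    intro t
    rw [mem_sectionKernel_iff]
    constructor
    · intro h
      refine MulEquiv.ext fun v => ?_
      obtain ⟨_, r, hr, rfl⟩ := v
      exact (hmk t r hr).1 (h r hr)
    · intro h r hr
      rw [hmk t r hr, h]
      rfl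
  have hexp' : ∀ v : B, v ^ p = 1 := by
    rintro ⟨_, r, hr, rfl⟩
    apply Subtype.ext
    show (m r) ^ p = 1
    rw [← map_pow]
    exact (hm1 _).2 (hexp r hr)
  let f : (G ⧸ sectionKernel R R₁) →* MulAut B :=
    QuotientGroup.lift (sectionKernel R R₁) τ (fun t ht => (hker t).1 ht)
  have hf : Function.Injective f := by
    rw [injective_iff_map_eq_one]
    intro z hz
    obtain ⟨g, rfl⟩ := QuotientGroup.mk_surjective z
    rw [QuotientGroup.eq_one_iff]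
    exact (hker g).2 hz
  obtain ⟨M, i1, i2, i3, ρ, hρ, hq⟩ := exists_rep (p := p) hcomm hexp' f hf
  refine ⟨M, i1, i2, i3, ρ, hρ, ?_⟩
  intro a ha
  apply hq
  rintro ⟨_, r, hr, rfl⟩
  have hc : ⁅a, r⁆ ∈ R := by
    have e : ⁅a, r⁆ = a * r * a⁻¹ * r⁻¹ := rfl
    rw [e]
    exact mul_mem (hR.conj_mem r hr a) (inv_mem hr)
  have e : τ a ⟨m r, ⟨r, hr, rfl⟩⟩ * (⟨m r, ⟨r, hr, rfl⟩⟩ : B)⁻¹ = ⟨m ⁅a, r⁆, ⟨_, hc, rfl⟩⟩ := by
    rw [hτ a r hr]
    apply Subtype.ext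
    show m (a * r * a⁻¹) * (m r)⁻¹ = m ⁅a, r⁆
    rw [← map_inv, ← map_mul]
    rfl
  show τ a (τ a ⟨m r, ⟨r, hr, rfl⟩⟩ * (⟨m r, ⟨r, hr, rfl⟩⟩ : B)⁻¹) =
    τ a ⟨m r, ⟨r, hr, rfl⟩⟩ * (⟨m r, ⟨r, hr, rfl⟩⟩ : B)⁻¹
  rw [e]
  exact (hmk a _ hc).1 (ha r hr)

/-- Stability for `p`-solvable groups. -/
theorem stable_of_pSolvable (hp : p ≠ 2) (hs : IsPSolvable p G)
    (h3 : p = 3 → ∀ T : Sylow 2 G, IsMulCommutative T) (S : Subgroup G)
    (R : Subgroup G) [hRn : R.Normal] (hRU : R ≤ pCore p G) (a : G) (ha : a ∈ S)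
    (hq : ⁅⁅R, zpowers a⁆, zpowers a⁆ = ⊥) :
    (QuotientGroup.mk a : G ⧸ centralizer (R : Set G)) ∈ pCore p (G ⧸ centralizer (R : Set G)) := by
  classical
  refine stable_of_sections p S ?_ R hRU a ha hq
  intro R R₁ hRn hR₁n hR₁R hRU hU hpow a _ hquad
  have hKn : (sectionKernel R R₁).Normal := sectionKernel_normal _ _
  obtain ⟨M, i1, i2, i3, ρ, hρ, hQ⟩ := exists_section_rep (R := R) (R₁ := R₁) (p := p)
    (fun r hr s hs => (mem_sectionKernel_iff.1 (hU r (hRU hr))) s hs) hpow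
  by_cases hmem : (QuotientGroup.mk a : G ⧸ sectionKernel R R₁) ∈ pCore p (G ⧸ sectionKernel R R₁)
  · exact exists_D_of_mem_pCore hmem
  · exfalso
    have hsq : IsPSolvable p (G ⧸ sectionKernel R R₁) :=
      isPSolvable_of_surjective (QuotientGroup.mk' _) (QuotientGroup.mk'_surjective _) hs
    obtain ⟨hp3, -⟩ := rep_sep hp ρ hρ (hQ a hquad) hmem hsq
    have : Fact (Nat.Prime 2) := ⟨Nat.prime_two⟩
    obtain ⟨T₀⟩ : Nonempty (Sylow 2 G) := inferInstance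
    let T : Sylow 2 (G ⧸ sectionKernel R R₁) :=
      T₀.mapSurjective (QuotientGroup.mk'_surjective (sectionKernel R R₁))
    apply rep_ab hp ρ hρ (hQ a hquad) hmem T
    have hT : (T : Subgroup (G ⧸ sectionKernel R R₁)) =
        (T₀ : Subgroup G).map (QuotientGroup.mk' (sectionKernel R R₁)) := Sylow.coe_mapSurjective _ _
    have hab := h3 hp3 T₀
    rw [mulComm_iff] at hab ⊢
    rw [hT]
    rintro _ ⟨x, hx, rfl⟩ _ ⟨y, hy, rfl⟩
    rw [← map_mul, ← map_mul, hab x hx y hy]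

/-- The ZJ-theorem for `Ω₁(Z(J(P)))` and `Z(J(P))` in `p`-solvable groups. -/
theorem normal_Z₀_of_pSolvable (hp : p ≠ 2) (hs : IsPSolvable p G)
    (h3 : p = 3 → ∀ T : Sylow 2 G, IsMulCommutative T) (hO : pPrimeCore p G = ⊥) {e : ℕ}
    (he : e = 0 ∨ e = p) (P : Sylow p G) : (Z₀ e (P : Subgroup G)).Normal :=
  zj_main hp he P (centralizer_pCore_le_of_isPSolvable hs hO) (fun R _ hRU a ha hq =>
    stable_of_pSolvable hp hs h3 (P : Subgroup G) R hRU a ha hq)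

end Cfsg.Agent.Lib.PLocal.StablePSolvable
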