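/-
Automizers of `p`-subgroups, with prime divisors `q` such that `{p, q} ≠ {2, 3}`: from the automizer of a
`p`-subgroup to a normal subgroup of a Sylow `p`-subgroup.
-/
import Cfsg.Agent.Lib.PLocal.SFourFF
import Cfsg.Agent.Lib.PLocal.StablePSolvable
import Cfsg.Agent.Lib.Coprime.Action

set_option autoImplicit false
set_option linter.unusedSectionVars false
set_option linter.unusedVariables false

namespace Cfsg.Agent.Lib.PLocal.QAut

open Subgroup Cfsg
open scoped commutatorElement
open Cfsg.Agent.Lib.PLocal.Thompson Cfsg.Agent.Lib.PLocal.ZJ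
  Cfsg.Agent.Lib.Core.Basic Cfsg.Agent.Lib.Core.PSolvable
  Cfsg.Agent.Lib.PLocal.SFourFF Cfsg.Agent.Lib.PLocal.StablePSolvable
  Cfsg.Agent.Lib.PLocal.ThompsonFunctor
  Cfsg.Agent.Lib.QuadAct.FFFail

universe u

section General

/-- Images of automizers. -/
theorem relIndex_dvd_of_map {A B : Type*} [Group A] [Group B] (f : A →* B) (K : Subgroup A)
    (hN : (normalizer (K : Set A)).map f = normalizer ((K.map f : Subgroup B) : Set B)) :
    (centralizer ((K.map f : Subgroup B) : Set B)).relIndex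
        (normalizer ((K.map f : Subgroup B) : Set B)) ∣
      (centralizer (K : Set A)).relIndex (normalizer (K : Set A)) := by
  rw [← hN, ← Subgroup.relIndex_comap]
  apply Subgroup.relIndex_dvd_of_le_left
  intro x hx
  rw [mem_comap, mem_centralizer_iff]
  rintro _ ⟨k, hk, rfl⟩
  have := mem_centralizer_iff.1 hx k hk
  rw [← map_mul, ← map_mul, this]

/-- Automizers in subgroups. -/
theorem relIndex_dvd_of_subgroup {G : Type*} [Group G] (W : Subgroup G) (K : Subgroup W) :
    (centralizer (K : Set W)).relIndex (normalizer (K : Set W)) ∣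
      (centralizer ((K.map W.subtype : Subgroup G) : Set G)).relIndex
        (normalizer ((K.map W.subtype : Subgroup G) : Set G)) := by
  set K' : Subgroup G := K.map W.subtype with hK'
  have e1 : centralizer (K : Set W) = (centralizer (K' : Set G)).comap W.subtype := by
    ext x
    rw [mem_comap, mem_centralizer_iff, mem_centralizer_iff]
    constructor
    · rintro h _ ⟨k, hk, rfl⟩
      have := h k hk
      exact congrArg Subtype.val this
    · intro h k hk
      apply Subtype.ext
      exact h (k : G) ⟨k, hk, rfl⟩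
  have hle : (normalizer (K : Set W)).map W.subtype ≤ normalizer (K' : Set G) := by
    rintro _ ⟨x, hx, rfl⟩
    rw [mem_normalizer_iff]
    intro g
    constructor
    · rintro ⟨k, hk, rfl⟩
      refine ⟨x * k * x⁻¹, (mem_normalizer_iff.1 hx k).1 hk, ?_⟩
      simp
    · rintro ⟨k, hk, e⟩
      have hg : g ∈ W := by
        have h1 : (x : G) * g * (x : G)⁻¹ ∈ W := by
          have e' : (W.subtype k : G) = (x : G) * g * (x : G)⁻¹ := e
          rw [← e']
          exact k.2
        have h2 : g = (x : G)⁻¹ * ((x : G) * g * (x : G)⁻¹) * (x : G) := by group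
        rw [h2]
        exact W.mul_mem (W.mul_mem (W.inv_mem x.2) h1) x.2
      have h3 : (⟨g, hg⟩ : W) ∈ K := by
        refine (mem_normalizer_iff.1 hx ⟨g, hg⟩).2 ?_
        have : x * ⟨g, hg⟩ * x⁻¹ = k := by
          apply Subtype.ext
          exact e.symm
        rw [this]
        exact hk
      exact ⟨⟨g, hg⟩, h3, rfl⟩
  rw [e1, Subgroup.relIndex_comap]
  set N' := normalizer (K' : Set G) with hN'
  set C' := centralizer (K' : Set G) with hC'
  have hCn : (C'.subgroupOf N').Normal := by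
    constructor
    rintro ⟨c, hc⟩ hcm ⟨g, hg⟩
    show g * c * g⁻¹ ∈ C'
    have hc' : c ∈ C' := hcm
    rw [mem_centralizer_iff]
    intro k hk
    have h1 : g⁻¹ * k * g ∈ K' := by
      have := (mem_normalizer_iff.1 (N'.inv_mem hg) k).1 hk
      simpa using this
    have h2 := mem_centralizer_iff.1 hc' _ h1
    calc k * (g * c * g⁻¹) = g * ((g⁻¹ * k * g) * c) * g⁻¹ := by group
      _ = g * (c * (g⁻¹ * k * g)) * g⁻¹ := by rw [h2]
      _ = _ := by group
  have h1 := Subgroup.relIndex_dvd_index_of_normal (C'.subgroupOf N')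
    (((normalizer (K : Set W)).map W.subtype).subgroupOf N')
  rw [Subgroup.relIndex_subgroupOf hle] at h1
  exact h1

/-- Comaps of characteristic subgroups. -/
theorem char_comap {A B : Type*} [Group A] [Group B] (θ : A →* B) (hθ : Function.Surjective θ)
    (hk : θ.ker.Characteristic) {K : Subgroup B} (hK : K.Characteristic) :
    (K.comap θ).Characteristic := by
  rw [Subgroup.characteristic_iff_comap_eq]
  intro φ
  have hk1 : ∀ ψ : A ≃* A, θ.ker ≤ (θ.comp ψ.toMonoidHom).ker := by
    intro ψ a ha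
    have h2 := (Subgroup.characteristic_iff_comap_eq.1 hk ψ).symm.le ha
    exact h2
  let f₁ : B →* B := θ.liftOfSurjective hθ ⟨θ.comp φ.toMonoidHom, hk1 φ⟩
  let f₂ : B →* B := θ.liftOfSurjective hθ ⟨θ.comp φ.symm.toMonoidHom, hk1 φ.symm⟩
  have e₁ : ∀ a, f₁ (θ a) = θ (φ a) := fun a =>
    MonoidHom.liftOfRightInverse_comp_apply _ _ _ _ a
  have e₂ : ∀ a, f₂ (θ a) = θ (φ.symm a) := fun a =>
    MonoidHom.liftOfRightInverse_comp_apply _ _ _ _ a
  let φ₂ : B ≃* B := MonoidHom.toMulEquiv f₁ f₂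
    (by
      ext b
      obtain ⟨a, rfl⟩ := hθ b
      simp [e₁, e₂])
    (by
      ext b
      obtain ⟨a, rfl⟩ := hθ b
      simp [e₁, e₂])
  have h2 := Subgroup.characteristic_iff_comap_eq.1 hK φ₂
  ext a
  rw [mem_comap, mem_comap, mem_comap]
  show θ (φ a) ∈ K ↔ _
  rw [← e₁]
  nth_rewrite 2 [← h2]
  rfl

/-- `Ω₁(Z(X))` is characteristic. -/
theorem omegaOne_center_char (p : ℕ) (X : Type*) [Group X] :
    (Cfsg.omegaOne p (center X)).Characteristic := by
  rw [Subgroup.characteristic_iff_map_le]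
  intro φ
  rw [Cfsg.omegaOne, MonoidHom.map_closure, closure_le]
  rintro _ ⟨x, ⟨hx, hxp⟩, rfl⟩
  refine subset_closure ⟨?_, ?_⟩
  · rw [mem_center_iff] at hx ⊢
    intro g
    obtain ⟨g, rfl⟩ := φ.surjective g
    show φ g * φ x = φ x * φ g
    rw [← map_mul, ← map_mul, hx g]
  · show (φ x) ^ p = 1
    rw [← map_pow, hxp, map_one]

end General

section Local

variable {Y : Type u} [Group Y] [Finite Y] {p q : ℕ} [Fact p.Prime] [Fact q.Prime]

/-- A group involving `S₃` has even order divisible by `3`. -/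
theorem three_dvd_of_involves (h : Involves (Equiv.Perm (Fin 3)) Y) : 3 ∣ Nat.card Y := by
  obtain ⟨K, R, hR, ⟨e⟩⟩ := h
  have h1 : Nat.card (K ⧸ R.subgroupOf K) = 6 := by
    rw [Nat.card_congr e.toEquiv, Nat.card_eq_fintype_card, Fintype.card_perm]
    rfl
  have h2 : Nat.card (K ⧸ R.subgroupOf K) ∣ Nat.card K := Subgroup.card_quotient_dvd_card _
  have h3 : Nat.card K ∣ Nat.card Y := Subgroup.card_subgroup_dvd_card K
  rw [h1] at h2
  exact (Dvd.dvd.trans (by norm_num) h2).trans h3

/-- In a `{p, q}`-group, `{p, q} ≠ {2, 3}`, the abelian subgroups of largest order of `T` centralize a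
normal subgroup containing all elements of order `p` of `Z(T)`. -/
theorem exists_Cn (hsep : IsPSolvable p Y) (hO : pPrimeCore p Y = ⊥)
    (hpr : ∀ r : ℕ, r.Prime → r ∣ Nat.card Y → r = p ∨ r = q)
    (h23 : ¬ ((p = 2 ∧ q = 3) ∨ (p = 3 ∧ q = 2))) (P : Sylow p Y) :
    ∃ Cn : Subgroup Y, Cn.Normal ∧ jOf 0 (P : Subgroup Y) ≤ Cn ∧
      ∀ x ∈ Cn, ∀ z ∈ (P : Subgroup Y), (∀ s ∈ (P : Subgroup Y), s * z = z * s) → z ^ p = 1 →
        x * z * x⁻¹ = z := by
  classical
  by_cases hp : p = 2
  · haveI hVn : (omegaV p Y).Normal := omegaV_normal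
    set V := omegaV p Y with hV
    have hVe : Cfsg.IsElementaryAbelian p V := omegaV_ea hsep hO
    have hVp : IsPGroup p V := by
      rw [isPGroup_iff_pow_pow_eq_one]
      rintro ⟨v, hv⟩
      exact ⟨1, by apply Subtype.ext; simpa using hVe.2 v hv⟩
    have hVP : V ≤ (P : Subgroup Y) := (le_pCore hVn hVp).trans (pCore_le_sylow P)
    have hpc : Cfsg.pCore p (Y ⧸ Subgroup.centralizer (V : Set Y)) = ⊥ := omegaV_pCore
    refine ⟨centralizer (V : Set Y), normal_centralizer, ?_, ?_⟩
    · refine sSup_le ?_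
      intro A hA
      by_contra hAC
      have hne : ⁅V, A⁆ ≠ ⊥ := by
        intro hbot
        apply hAC
        intro a ha
        rw [mem_centralizer_iff]
        intro v hv
        have := commutator_mem_commutator hv ha
        rw [hbot, Subgroup.mem_bot] at this
        exact commutatorElement_eq_one_iff_mul_comm.1 this
      obtain ⟨B, hB, hBne⟩ := exists_offender hp hVn hVe hVP P.isPGroup' hA hne
      have h3 := involves_sthree_of_offender hp hVe hsep hpc hB hBne
      have h4 : 3 ∣ Nat.card Y :=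
        (three_dvd_of_involves h3).trans (Subgroup.card_quotient_dvd_card _)
      rcases hpr 3 Nat.prime_three h4 with h5 | h5
      · omega
      · exact h23 (Or.inl ⟨hp, h5.symm⟩)
    · intro x hx z hz hc hzp
      have hzV : z ∈ V := by
        refine (le_iSup (fun S : Sylow p Y => Cfsg.omegaOne p ((S : Subgroup Y) ⊓
          centralizer ((S : Subgroup Y) : Set Y))) P) ?_
        refine Subgroup.subset_closure ⟨⟨hz, ?_⟩, hzp⟩
        exact mem_centralizer_iff.2 hc
      have h1 := mem_centralizer_iff.1 hx z hzV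
      rw [← h1]
      group
  · have h3 : p = 3 → ∀ T : Sylow 2 Y, IsMulCommutative T := by
      intro hp3 T
      have h2 : ¬ 2 ∣ Nat.card Y := by
        intro h2
        rcases hpr 2 Nat.prime_two h2 with h5 | h5
        · exact hp h5.symm
        · exact h23 (Or.inr ⟨hp3, h5.symm⟩)
      have hT : Nat.card T = 1 := by
        obtain ⟨n, hn⟩ := IsPGroup.iff_card.1 T.isPGroup'
        have h5 : Nat.card T ∣ Nat.card Y := Subgroup.card_subgroup_dvd_card _
        rcases n with _ | n
        · simpa using hn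
        · exfalso
          apply h2
          refine Dvd.dvd.trans ?_ h5
          rw [hn, pow_succ]
          exact dvd_mul_left _ _
      have : Subsingleton T := (Nat.card_eq_one_iff_unique.1 hT).1
      refine ⟨⟨fun a b => Subsingleton.elim _ _⟩⟩
    have hn := normal_Z₀_of_pSolvable hp hsep h3 hO (e := 0) (Or.inl rfl) P
    refine ⟨centralizer (Z₀ 0 (P : Subgroup Y) : Set Y), normal_centralizer, ?_, ?_⟩
    · rw [jOf, sSup_le_iff]
      intro A hA a ha
      rw [mem_centralizer_iff]
      intro w hw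
      exact hA.2.1.comm (Z₀_le hA hw) ha
    · intro x hx z hz hc hzp
      have hzZ : z ∈ Z₀ 0 (P : Subgroup Y) := by
        rw [Z₀, mem_sInf]
        intro A hA
        exact hA.mem_of_commute hz (pow_zero z) (fun a ha => hc a (hA.1 ha))
      have h1 := mem_centralizer_iff.1 hx z hzZ
      rw [← h1]
      group

/-- The Frattini argument for `J(P)`. -/
lemma exists_factor_zero (P : Sylow p Y) (C : Subgroup Y) [hC : C.Normal]
    (hJC : jOf 0 (P : Subgroup Y) ≤ C) (g : Y) :
    ∃ c ∈ C, ∃ n ∈ normalizer (jOf 0 (P : Subgroup Y) : Set Y), g = c * n := by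
  obtain ⟨c, hc, y, hy, rfl⟩ := Cfsg.Agent.Lib.PLocal.AlperinG.exists_frattini_normal P C g
  refine ⟨c, hc, y, ?_, rfl⟩
  have hTp : IsPGroup p ((P : Subgroup Y) ⊓ C : Subgroup Y) := P.isPGroup'.to_le inf_le_left
  have hJ : jOf 0 ((P : Subgroup Y) ⊓ C) = jOf 0 (P : Subgroup Y) :=
    jOf_eq_of_le inf_le_left (le_inf (jOf_le _ _) hJC)
  have h1 := (pFunctor_jOf (e := 0) (p := p) (Or.inl rfl)).normalizer_le _ hTp hy
  rwa [hJ] at h1

/-- An element of order `q` can not centralize an abelian subgroup of largest order of a Sylow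
`p`-subgroup, if `C_Y(O_p(Y)) ≤ O_p(Y)`. -/
theorem false_of_centralizes_max (hsep : IsPSolvable p Y) (hO : pPrimeCore p Y = ⊥) (hpq : p ≠ q)
    (T : Sylow p Y) {A : Subgroup Y} (hA : IsMaxIn 0 (T : Subgroup Y) A) {y : Y}
    (hy : orderOf y = q) (hyA : ∀ a ∈ A, a * y = y * a) : False := by
  classical
  have hpp : p.Prime := Fact.out
  have hqp : q.Prime := Fact.out
  set P₀ := pCore p Y with hP₀
  have hP₀T : P₀ ≤ T := pCore_le_sylow T
  set X : Subgroup Y := P₀ ⊔ A with hX
  have hXT : X ≤ T := sup_le hP₀T hA.1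
  have hXp : IsPGroup p X := T.isPGroup'.to_le hXT
  set D : Subgroup Y := X ⊓ centralizer ({y} : Set Y) with hD
  have hAD : A ≤ D := by
    intro a ha
    refine Subgroup.mem_inf.2 ⟨Subgroup.mem_sup_right ha, ?_⟩
    rw [mem_centralizer_singleton_iff]
    exact hyA a ha
  have hDX : X ≤ D := by
    by_contra hne
    haveI : Group.IsNilpotent X := hXp.isNilpotent
    have hlt : D.subgroupOf X < ⊤ := by
      refine lt_of_le_of_ne le_top ?_
      intro h
      apply hne
      intro x hx
      have h1 : (⟨x, hx⟩ : X) ∈ D.subgroupOf X := by rw [h]; trivial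
      exact h1
    obtain ⟨u, hu1, hu2⟩ := SetLike.exists_of_lt (Group.normalizerCondition_of_isNilpotent _ hlt)
    have huX : (u : Y) ∈ X := u.2
    have hconj : ∀ d ∈ D, (u : Y)⁻¹ * d * (u : Y) ∈ D := by
      intro d hd
      have hdX : d ∈ X := hd.1
      have h1 : (⟨d, hdX⟩ : X) ∈ D.subgroupOf X := hd
      have h2 := (mem_normalizer_iff.1 (inv_mem hu1) ⟨d, hdX⟩).1 h1
      have h3 : ((u⁻¹ * ⟨d, hdX⟩ * u⁻¹⁻¹ : X) : Y) ∈ D := h2
      simpa using h3
    set w : Y := (u : Y) * y * (u : Y)⁻¹ * y⁻¹ with hw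
    -- `w ∈ O_p(Y)`
    have hwP : w ∈ P₀ := by
      have hmm : (u : Y) ∈ ((P₀ ⊔ A : Subgroup Y) : Set Y) := huX
      rw [Subgroup.normal_mul P₀ A] at hmm
      obtain ⟨a, ha, b, hb, e⟩ := Set.mem_mul.1 hmm
      have hby : b * y * b⁻¹ = y := by
        rw [hyA b hb]
        group
      have e1 : w = a * (y * a⁻¹ * y⁻¹) := by
        rw [hw, ← e]
        calc a * b * y * (a * b)⁻¹ * y⁻¹ = a * (b * y * b⁻¹) * a⁻¹ * y⁻¹ := by group
          _ = a * y * a⁻¹ * y⁻¹ := by rw [hby]
          _ = _ := by group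
      rw [e1]
      have : P₀.Normal := inferInstance
      exact P₀.mul_mem ha (this.conj_mem _ (P₀.inv_mem ha) y)
    have hwT : w ∈ (T : Subgroup Y) := hP₀T hwP
    -- `w` centralizes `D`
    have hwD : ∀ d ∈ D, d * w = w * d := by
      intro d hd
      have h1 := hconj d hd
      have h2 : y * d = d * y := by
        have := mem_centralizer_singleton_iff.1 hd.2
        exact this.symm
      have h3 : y * ((u : Y)⁻¹ * d * (u : Y)) = ((u : Y)⁻¹ * d * (u : Y)) * y := by
        have := mem_centralizer_singleton_iff.1 h1.2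
        exact this.symm
      -- `d u y u⁻¹ = u y u⁻¹ d`
      have h4 : d * ((u : Y) * y * (u : Y)⁻¹) = ((u : Y) * y * (u : Y)⁻¹) * d := by
        calc d * ((u : Y) * y * (u : Y)⁻¹)
            = (u : Y) * (((u : Y)⁻¹ * d * (u : Y)) * y) * (u : Y)⁻¹ := by group
          _ = (u : Y) * (y * ((u : Y)⁻¹ * d * (u : Y))) * (u : Y)⁻¹ := by rw [h3]
          _ = _ := by group
      have h5 : d * y⁻¹ = y⁻¹ * d := by
        have : y⁻¹ * (y * d) * y⁻¹ = y⁻¹ * (d * y) * y⁻¹ := by rw [h2]
        calc d * y⁻¹ = y⁻¹ * (y * d) * y⁻¹ := by group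
          _ = y⁻¹ * (d * y) * y⁻¹ := this
          _ = _ := by group
      rw [hw]
      calc d * ((u : Y) * y * (u : Y)⁻¹ * y⁻¹) = (d * ((u : Y) * y * (u : Y)⁻¹)) * y⁻¹ := by group
        _ = ((u : Y) * y * (u : Y)⁻¹) * d * y⁻¹ := by rw [h4]
        _ = ((u : Y) * y * (u : Y)⁻¹) * (d * y⁻¹) := by group
        _ = ((u : Y) * y * (u : Y)⁻¹) * (y⁻¹ * d) := by rw [h5]
        _ = _ := by group
    have hwA : w ∈ A := hA.mem_of_commute hwT (pow_zero w) (fun a ha => hwD a (hAD ha))
    have hwy : w * y = y * w := hyA w hwA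
    -- `w` has order dividing `q`
    have he : (u : Y) * y * (u : Y)⁻¹ = w * y := by
      rw [hw]
      group
    have hwq : w ^ q = 1 := by
      have h1 : ((u : Y) * y * (u : Y)⁻¹) ^ q = 1 := by
        rw [conj_pow, ← hy, pow_orderOf_eq_one]
        group
      rw [he, (Commute.mul_pow hwy), ← hy, pow_orderOf_eq_one, mul_one, hy] at h1
      exact h1
    have hw1 : w = 1 := by
      obtain ⟨k, hk⟩ := T.isPGroup' ⟨w, hwT⟩
      have hk1 : w ^ p ^ k = 1 := congrArg Subtype.val hk
      have h1 : orderOf w ∣ q := orderOf_dvd_of_pow_eq_one hwq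
      have h2 : orderOf w ∣ p ^ k := orderOf_dvd_of_pow_eq_one hk1
      have h3 : Nat.Coprime q (p ^ k) := Nat.Coprime.pow_right _ ((Nat.coprime_primes hqp hpp).2 hpq.symm)
      have h4 := Nat.eq_one_of_dvd_coprimes h3 h1 h2
      exact orderOf_eq_one_iff.1 h4
    apply hu2
    refine Subgroup.mem_inf.2 ⟨huX, ?_⟩
    rw [mem_centralizer_singleton_iff]
    rw [hw1] at he
    rw [one_mul, mul_inv_eq_iff_eq_mul] at he
    exact he
  have hyC : y ∈ centralizer (P₀ : Set Y) := by
    rw [mem_centralizer_iff]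
    intro v hv
    have h1 := hDX (Subgroup.mem_sup_left hv : v ∈ X)
    exact mem_centralizer_singleton_iff.1 h1.2
  have hyP : y ∈ P₀ := centralizer_pCore_le_of_isPSolvable hsep hO hyC
  obtain ⟨k, hk⟩ := T.isPGroup' ⟨y, hP₀T hyP⟩
  have hk1 : y ^ p ^ k = 1 := congrArg Subtype.val hk
  have h2 : q ∣ p ^ k := hy ▸ orderOf_dvd_of_pow_eq_one hk1
  exact hpq ((Nat.prime_dvd_prime_iff_eq hqp hpp).1 (hqp.dvd_of_dvd_pow h2)).symm

end Local

section Main

/-- The order of the automizer of `K`. -/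
noncomputable abbrev autIdx {X : Type*} [Group X] (K : Subgroup X) : ℕ :=
  (centralizer (K : Set X)).relIndex (normalizer (K : Set X))

variable {Y : Type u} [Group Y] [Finite Y] {p q : ℕ} [Fact p.Prime] [Fact q.Prime]

theorem case_one (hsep : IsPSolvable p Y) (hO : pPrimeCore p Y = ⊥) (hpq : p ≠ q)
    (T : Sylow p Y) (Cn : Subgroup Y) [hCn : Cn.Normal] (hJ : jOf 0 (T : Subgroup Y) ≤ Cn)
    (hq : q ∣ Cn.index) : q ∣ autIdx (jOf 0 (T : Subgroup Y)) := by
  classical
  have hqp : q.Prime := Fact.out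
  set J := jOf 0 (T : Subgroup Y) with hJdef
  set N := normalizer (J : Set Y) with hN
  have htop : Cn ⊔ N = ⊤ := by
    rw [eq_top_iff]
    intro g _
    obtain ⟨c, hc, n, hn, rfl⟩ := exists_factor_zero T Cn hJ g
    exact Subgroup.mul_mem_sup hc hn
  have h1 : Cn.relIndex N = Cn.index := by
    rw [← Subgroup.relIndex_sup_left, htop, Subgroup.relIndex_top_right]
  have h2 : q ∣ Nat.card N := by
    rw [← h1] at hq
    exact hq.trans (Subgroup.index_dvd_card _)
  by_contra hnq
  set C := centralizer (J : Set Y) with hC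
  have hcard := Subgroup.card_mul_index (C.subgroupOf N)
  have h3 : q ∣ Nat.card (C.subgroupOf N) := by
    rw [← hcard] at h2
    rcases hqp.dvd_mul.1 h2 with h | h
    · exact h
    · exact absurd h hnq
  obtain ⟨y₀, hy₀⟩ := exists_prime_orderOf_dvd_card' q h3
  obtain ⟨A, hA⟩ := exists_isMaxIn 0 (T : Subgroup Y)
  have hyC : (((y₀ : C.subgroupOf N) : N) : Y) ∈ C := y₀.2
  refine false_of_centralizes_max hsep hO hpq T hA (y := ((y₀ : C.subgroupOf N) : N)) ?_ ?_
  · rw [Subgroup.orderOf_coe, Subgroup.orderOf_coe, hy₀]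
  · intro a ha
    exact mem_centralizer_iff.1 hyC a (hA.le_jOf ha)

theorem case_two (hpr : ∀ r : ℕ, r.Prime → r ∣ Nat.card Y → r = p ∨ r = q)
    (T : Sylow p Y) (Cn : Subgroup Y) [hCn : Cn.Normal]
    (hfix : ∀ x ∈ Cn, ∀ z ∈ (T : Subgroup Y), (∀ s ∈ (T : Subgroup Y), s * z = z * s) → z ^ p = 1 →
      x * z * x⁻¹ = z) (hq : ¬ q ∣ Cn.index) :
    omegaOne p ((T : Subgroup Y) ⊓ centralizer ((T : Subgroup Y) : Set Y)) ≤ center Y := by
  have htop : Cn ⊔ (T : Subgroup Y) = ⊤ := by
    rw [← Subgroup.index_eq_one]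
    by_contra hne
    obtain ⟨r, hr, hrd⟩ := Nat.exists_prime_and_dvd hne
    have h1 : (Cn ⊔ (T : Subgroup Y)).index ∣ Cn.index := Subgroup.index_dvd_of_le le_sup_left
    have h2 : (Cn ⊔ (T : Subgroup Y)).index ∣ (T : Subgroup Y).index :=
      Subgroup.index_dvd_of_le le_sup_right
    have h3 : r ∣ Nat.card Y := (hrd.trans h1).trans (Subgroup.index_dvd_card _)
    rcases hpr r hr h3 with rfl | rfl
    · exact T.not_dvd_index (hrd.trans h2)
    · exact hq (hrd.trans h1)
  rw [omegaOne, closure_le]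
  rintro z ⟨hz1, hzp⟩
  have hz : z ∈ (T : Subgroup Y) := (Subgroup.mem_inf.1 hz1).1
  have hc : ∀ s ∈ (T : Subgroup Y), s * z = z * s :=
    fun s hs => mem_centralizer_iff.1 (Subgroup.mem_inf.1 hz1).2 s hs
  rw [SetLike.mem_coe, mem_center_iff]
  intro g
  have hg : g ∈ ((Cn ⊔ (T : Subgroup Y) : Subgroup Y) : Set Y) := by rw [htop]; trivial
  rw [Subgroup.normal_mul Cn (T : Subgroup Y)] at hg
  obtain ⟨c, hc', t, ht, rfl⟩ := Set.mem_mul.1 hg
  have h1 := hfix c hc' z hz hc hzp
  have h2 : c * z = z * c := by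
    rwa [mul_inv_eq_iff_eq_mul] at h1
  calc c * t * z = c * (t * z) := by group
    _ = c * (z * t) := by rw [hc t ht]
    _ = (c * z) * t := by group
    _ = z * (c * t) := by rw [h2]; group

/-- The main theorem for `{p, q}`-groups with `O_{p'} = 1`. -/
theorem main_Y (hpq : p ≠ q) (h23 : ¬ ((p = 2 ∧ q = 3) ∨ (p = 3 ∧ q = 2))) :
    ∀ (n : ℕ) (Y : Type u) [Group Y] [Finite Y], Nat.card Y = n → IsPSolvable p Y →
      pPrimeCore p Y = ⊥ → (∀ r : ℕ, r.Prime → r ∣ Nat.card Y → r = p ∨ r = q) → q ∣ Nat.card Y →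
      ∀ T : Sylow p Y, ∃ K : Subgroup ↥(T : Subgroup Y), K.Characteristic ∧
        q ∣ autIdx (K.map (T : Subgroup Y).subtype) := by
  classical
  have hpp : p.Prime := Fact.out
  have hqp : q.Prime := Fact.out
  intro n
  induction n using Nat.strong_induction_on with
  | _ n ih =>
  intro Y _ _ hn hsep hO hpr hq T
  obtain ⟨Cn, hCn, hJ, hfix⟩ := exists_Cn hsep hO hpr h23 T
  by_cases hqC : q ∣ Cn.index
  · refine ⟨jOf 0 (⊤ : Subgroup ↥(T : Subgroup Y)), ?_, ?_⟩
    · rw [Subgroup.characteristic_iff_map_le]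
      intro φ
      rw [jOf_map_equiv]
      have : (⊤ : Subgroup ↥(T : Subgroup Y)).map φ.toMonoidHom = ⊤ :=
        Subgroup.map_top_of_surjective _ φ.surjective
      rw [this]
    · rw [jOf_map_subtype]
      exact case_one hsep hO hpq T Cn hJ hqC
  · have hZc := case_two hpr T Cn hfix hqC
    set Z : Subgroup Y := omegaOne p ((T : Subgroup Y) ⊓ centralizer ((T : Subgroup Y) : Set Y)) with hZ
    have hZT : Z ≤ (T : Subgroup Y) := by
      rw [hZ, omegaOne, closure_le]
      rintro z ⟨hz1, -⟩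
      exact (Subgroup.mem_inf.1 hz1).1
    have hZp : IsPGroup p Z := T.isPGroup'.to_le hZT
    -- `Z` in terms of `T`
    set ZT : Subgroup ↥(T : Subgroup Y) := omegaOne p (center ↥(T : Subgroup Y)) with hZTdef
    have hZmap : ZT.map (T : Subgroup Y).subtype = Z := by
      rw [hZTdef, Cfsg.Agent.Lib.QuadAct.OmegaZ.map_omegaOne _ (T : Subgroup Y).subtype_injective, hZ]
      congr 1
      apply le_antisymm
      · rintro _ ⟨t, ht, rfl⟩
        refine Subgroup.mem_inf.2 ⟨t.2, ?_⟩
        rw [mem_centralizer_iff]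
        intro s hs
        have := mem_center_iff.1 ht ⟨s, hs⟩
        exact congrArg Subtype.val this
      · rintro t ht
        obtain ⟨ht1, ht2⟩ := Subgroup.mem_inf.1 ht
        refine ⟨⟨t, ht1⟩, ?_, rfl⟩
        rw [SetLike.mem_coe, mem_center_iff]
        intro g
        apply Subtype.ext
        exact mem_centralizer_iff.1 ht2 g g.2
    -- `T` is not trivial
    have hYne : Nat.card Y ≠ 1 := by
      intro h1
      rw [h1] at hq
      exact hqp.one_lt.ne' (Nat.dvd_one.1 hq)
    have hTdvd : p ∣ Nat.card Y := by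
      by_contra hnd
      have h1 : pPrimeCore p Y = ⊤ :=
        pPrimeCore_eq_top_iff.2 ((Nat.Prime.coprime_iff_not_dvd hpp).2 hnd).symm
      rw [hO] at h1
      apply hYne
      have : (⊤ : Subgroup Y) = ⊥ := h1.symm
      rw [← Subgroup.card_top, this, Subgroup.card_bot]
    have hTne : Nontrivial ↥(T : Subgroup Y) := by
      by_contra hnt
      rw [not_nontrivial_iff_subsingleton] at hnt
      have h1 : Nat.card ↥(T : Subgroup Y) = 1 := Nat.card_eq_one_iff_unique.2 ⟨hnt, ⟨1⟩⟩
      have h2 := Subgroup.card_mul_index (T : Subgroup Y)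
      rw [h1, one_mul] at h2
      exact T.not_dvd_index (h2 ▸ hTdvd)
    have hZne : Z ≠ ⊥ := by
      haveI : Nontrivial (center ↥(T : Subgroup Y)) := T.isPGroup'.center_nontrivial
      have hcp : IsPGroup p (center ↥(T : Subgroup Y)) := T.isPGroup'.to_subgroup _
      have h1 : p ∣ Nat.card (center ↥(T : Subgroup Y)) := by
        obtain ⟨k, hk⟩ := IsPGroup.iff_card.1 hcp
        rcases k with _ | k
        · have : 1 < Nat.card (center ↥(T : Subgroup Y)) := Finite.one_lt_card_iff_nontrivial.2 inferInstance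
          rw [pow_zero] at hk
          omega
        · rw [hk, pow_succ]
          exact dvd_mul_left _ _
      obtain ⟨z, hz⟩ := exists_prime_orderOf_dvd_card' p h1
      intro hbot
      have hzZ : ((z : ↥(T : Subgroup Y)) : Y) ∈ Z := by
        rw [← hZmap]
        refine ⟨z, subset_closure ⟨z.2, ?_⟩, rfl⟩
        have h2 : z ^ p = 1 := orderOf_dvd_iff_pow_eq_one.1 hz.dvd
        exact congrArg Subtype.val h2
      rw [hbot, mem_bot] at hzZ
      have h3 : z = 1 := Subtype.ext (Subtype.ext hzZ)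
      subst h3
      rw [orderOf_one] at hz
      exact hpp.one_lt.ne hz
    haveI hZn : Z.Normal := by
      constructor
      intro z hz g
      have := mem_center_iff.1 (hZc hz) g
      rw [this, mul_inv_cancel_right]
      exact hz
    set Y₂ := Y ⧸ Z with hY₂
    set f : Y →* Y₂ := QuotientGroup.mk' Z with hfdef
    have hf : Function.Surjective f := QuotientGroup.mk'_surjective Z
    have hfk : ∀ x : Y, f x = 1 ↔ x ∈ Z := fun x => QuotientGroup.eq_one_iff x
    have hcard : Nat.card Y = Nat.card Y₂ * Nat.card Z := Subgroup.card_eq_card_quotient_mul_card_subgroup Z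
    have hZ1 : 1 < Nat.card Z := by
      by_contra hle
      have h1 : Nat.card Z = 1 := by
        have : 0 < Nat.card Z := Nat.card_pos
        omega
      exact hZne (Subgroup.eq_bot_of_card_eq Z h1)
    have hlt : Nat.card Y₂ < n := by
      rw [← hn, hcard]
      have : 0 < Nat.card Y₂ := Nat.card_pos
      nlinarith
    have hsep₂ : IsPSolvable p Y₂ := isPSolvable_of_surjective f hf hsep
    have hO₂ : pPrimeCore p Y₂ = ⊥ := by
      set D₂ : Subgroup Y := (pPrimeCore p Y₂).comap f with hD₂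
      have hD₂n : D₂.Normal := Subgroup.Normal.comap inferInstance f
      have hZD₂ : Z ≤ D₂ := by
        intro z hz
        show f z ∈ pPrimeCore p Y₂
        rw [(hfk z).2 hz]
        exact one_mem _
      have hi : ¬ p ∣ Z.relIndex D₂ := by
        have h1 : Z = (⊥ : Subgroup Y₂).comap f := by
          ext x
          rw [mem_comap, mem_bot, hfk]
        rw [h1, Subgroup.relIndex_comap, hD₂, Subgroup.map_comap_eq_self_of_surjective hf,
          Subgroup.relIndex_bot_left]
        exact (Nat.Prime.coprime_iff_not_dvd hpp).1 (pPrimeCore_coprime (p := p) (G := Y₂)).symm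
      have hEq := eq_of_central_of_not_dvd hO hZD₂ hD₂n.isSubnormal
        (fun a ha b _ => (mem_center_iff.1 (hZc ha) b).symm) hZp hi
      rw [eq_bot_iff]
      intro x hx
      obtain ⟨g, rfl⟩ := hf x
      have hg : g ∈ D₂ := hx
      rw [← hEq] at hg
      rw [mem_bot]
      exact (hfk g).2 hg
    have hpr₂ : ∀ r : ℕ, r.Prime → r ∣ Nat.card Y₂ → r = p ∨ r = q := by
      intro r hr hrd
      exact hpr r hr (by rw [hcard]; exact hrd.trans (dvd_mul_right _ _))
    have hq₂ : q ∣ Nat.card Y₂ := by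
      rw [hcard] at hq
      rcases hqp.dvd_mul.1 hq with h | h
      · exact h
      · exfalso
        obtain ⟨k, hk⟩ := IsPGroup.iff_card.1 hZp
        rw [hk] at h
        exact hpq ((Nat.prime_dvd_prime_iff_eq hqp hpp).1 (hqp.dvd_of_dvd_pow h)).symm
    set T₂ : Sylow p Y₂ := T.mapSurjective hf with hT₂
    obtain ⟨K₂, hK₂c, hK₂q⟩ := ih _ hlt Y₂ rfl hsep₂ hO₂ hpr₂ hq₂ T₂
    let π : ↥(T : Subgroup Y) →* ↥(T₂ : Subgroup Y₂) :=
      ((f.comp (T : Subgroup Y).subtype)).codRestrict (T₂ : Subgroup Y₂) (fun x => ⟨x, x.2, rfl⟩)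
    have hπv : ∀ t : ↥(T : Subgroup Y), ((π t : ↥(T₂ : Subgroup Y₂)) : Y₂) = f t := fun t => rfl
    have hπ : Function.Surjective π := by
      rintro ⟨y, t, ht, rfl⟩
      exact ⟨⟨t, ht⟩, rfl⟩
    have hπk : π.ker = ZT := by
      ext t
      rw [MonoidHom.mem_ker]
      constructor
      · intro h
        have h1 : f t = 1 := congrArg Subtype.val h
        have h2 : (t : Y) ∈ Z := (hfk t).1 h1
        rw [← hZmap] at h2
        obtain ⟨t', ht', e⟩ := h2
        have : t' = t := Subtype.ext e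
        rwa [← this]
      · intro h
        apply Subtype.ext
        have h2 : (t : Y) ∈ Z := by
          rw [← hZmap]
          exact ⟨t, h, rfl⟩
        exact (hfk t).2 h2
    have hkc : π.ker.Characteristic := by
      rw [hπk]
      exact omegaOne_center_char p _
    set K : Subgroup ↥(T : Subgroup Y) := K₂.comap π with hK
    refine ⟨K, char_comap π hπ hkc hK₂c, ?_⟩
    set K' : Subgroup Y := K.map (T : Subgroup Y).subtype with hK'
    set K₂' : Subgroup Y₂ := K₂.map (T₂ : Subgroup Y₂).subtype with hK₂'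
    have hZK' : Z ≤ K' := by
      rw [← hZmap]
      apply Subgroup.map_mono
      intro t ht
      have h1 : t ∈ π.ker := by rw [hπk]; exact ht
      show π t ∈ K₂
      rw [MonoidHom.mem_ker.1 h1]
      exact one_mem _
    have hcomap : K' = K₂'.comap f := by
      apply le_antisymm
      · rintro _ ⟨t, ht, rfl⟩
        exact ⟨π t, ht, rfl⟩
      · rintro x ⟨k, hk, e⟩
        obtain ⟨t, rfl⟩ := hπ k
        have e' : f t = f x := e
        have h1 : x * (t : Y)⁻¹ ∈ Z := by
          rw [← hfk, map_mul, map_inv, ← e', mul_inv_cancel]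
        have h2 : (t : Y) ∈ K' := ⟨t, hk, rfl⟩
        have h3 : x = (x * (t : Y)⁻¹) * t := by group
        rw [h3]
        exact K'.mul_mem (hZK' h1) h2
    have hmap : K'.map f = K₂' := by
      rw [hcomap, Subgroup.map_comap_eq_self_of_surjective hf]
    have hN : (normalizer (K' : Set Y)).map f = normalizer ((K'.map f : Subgroup Y₂) : Set Y₂) := by
      apply le_antisymm
      · rintro _ ⟨x, hx, rfl⟩
        rw [hmap, mem_normalizer_iff]
        intro y
        obtain ⟨y, rfl⟩ := hf y
        have h1 := mem_normalizer_iff.1 hx y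
        rw [hcomap] at h1
        have h2 : y ∈ K₂'.comap f ↔ f y ∈ K₂' := Iff.rfl
        rw [h2] at h1
        rw [h1]
        show f (x * y * x⁻¹) ∈ K₂' ↔ _
        simp
      · intro y hy
        obtain ⟨x, rfl⟩ := hf y
        refine ⟨x, ?_, rfl⟩
        show x ∈ normalizer (K' : Set Y)
        rw [mem_normalizer_iff]
        intro h
        rw [hmap, mem_normalizer_iff] at hy
        have h1 := hy (f h)
        rw [hcomap]
        show f h ∈ K₂' ↔ f (x * h * x⁻¹) ∈ K₂'
        rw [h1]
        simp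
    have h1 := relIndex_dvd_of_map f K' hN
    rw [hmap] at h1
    exact hK₂q.trans h1

end Main

section Hall

open Cfsg.Agent.Lib.Coprime.Action

variable {p q : ℕ} [Fact p.Prime] [Fact q.Prime]

/-- The order of the preimage of a subgroup of a quotient. -/
theorem card_comap_mk' {R : Type u} [Group R] [Finite R] (N : Subgroup R) [hN : N.Normal]
    (X₂ : Subgroup (R ⧸ N)) :
    Nat.card (X₂.comap (QuotientGroup.mk' N)) = Nat.card N * Nat.card X₂ := by
  have h1 := Subgroup.card_mul_index (X₂.comap (QuotientGroup.mk' N))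
  have h2 := Subgroup.card_mul_index X₂
  have h3 := Subgroup.card_eq_card_quotient_mul_card_subgroup N
  rw [Subgroup.index_comap_of_surjective _ (QuotientGroup.mk'_surjective N)] at h1
  have h4 : 0 < X₂.index := Nat.pos_of_ne_zero Subgroup.index_ne_zero_of_finite
  refine Nat.eq_of_mul_eq_mul_right h4 ?_
  rw [h1, mul_assoc, h2, mul_comm, ← h3]

theorem hall_step {R : Type u} [Group R] [Finite R] (T : Sylow p R) (N : Subgroup R) [hN : N.Normal]
    (hNpr : ∀ r : ℕ, r.Prime → r ∣ Nat.card N → r = p ∨ r = q)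
    (X₂ : Subgroup (R ⧸ N))
    (hT : ((T.mapSurjective (QuotientGroup.mk'_surjective N) : Sylow p (R ⧸ N)) : Subgroup (R ⧸ N)) ≤ X₂)
    (hi : ¬ q ∣ X₂.index) (hpr : ∀ r : ℕ, r.Prime → r ∣ Nat.card X₂ → r = p ∨ r = q) :
    ∃ X : Subgroup R, (T : Subgroup R) ≤ X ∧ ¬ q ∣ X.index ∧
      ∀ r : ℕ, r.Prime → r ∣ Nat.card X → r = p ∨ r = q := by
  refine ⟨X₂.comap (QuotientGroup.mk' N), ?_, ?_, ?_⟩
  · intro t ht
    exact hT ⟨t, ht, rfl⟩
  · rw [Subgroup.index_comap_of_surjective _ (QuotientGroup.mk'_surjective N)]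
    exact hi
  · intro r hr hrd
    rw [card_comap_mk'] at hrd
    rcases hr.dvd_mul.1 hrd with h | h
    · exact hNpr r hr h
    · exact hpr r hr h

theorem not_dvd_index_normalizer {R : Type u} [Group R] [Finite R] (N : Subgroup R) [hN : N.Normal]
    {Q₀ : Subgroup R} (hQ₀ : IsSylowIn q Q₀ N) : ¬ q ∣ (normalizer (Q₀ : Set R)).index := by
  obtain ⟨P, hP⟩ := exists_sylow_of_isSylowIn hQ₀
  set K := normalizer (Q₀ : Set R) with hK
  have hFr : K ⊔ N = ⊤ := by
    have h1 := Sylow.normalizer_sup_eq_top (N := N) P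
    rw [hP] at h1
    exact h1
  have hr : N.relIndex K = N.index := by
    rw [← Subgroup.relIndex_sup_right, hFr, Subgroup.relIndex_top_right]
  have h1 := Subgroup.card_mul_index N
  have h2 := Subgroup.card_mul_index (N.subgroupOf K)
  have h3 := Subgroup.card_mul_index K
  have h4 := Subgroup.card_mul_index (K.subgroupOf N)
  have h5 : Nat.card (N.subgroupOf K) = Nat.card ↥(K ⊓ N) := by
    rw [← Subgroup.inf_subgroupOf_right N K]
    rw [Nat.card_congr (Subgroup.subgroupOfEquivOfLe (inf_le_right : N ⊓ K ≤ K)).toEquiv, inf_comm]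
  have h6 : Nat.card (K.subgroupOf N) = Nat.card ↥(K ⊓ N) := by
    rw [← Subgroup.inf_subgroupOf_right K N]
    rw [Nat.card_congr (Subgroup.subgroupOfEquivOfLe (inf_le_right : K ⊓ N ≤ N)).toEquiv]
  have e2 : Nat.card ↥(K ⊓ N) * N.index = Nat.card K := by
    rw [← h5, ← hr]
    exact h2
  have e4 : Nat.card ↥(K ⊓ N) * K.relIndex N = Nat.card N := by
    rw [← h6]
    exact h4
  have e5 : K.relIndex N = K.index := by
    have hpos : 0 < Nat.card ↥(K ⊓ N) * N.index :=
      Nat.mul_pos Nat.card_pos (Nat.pos_of_ne_zero Subgroup.index_ne_zero_of_finite)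
    refine Nat.eq_of_mul_eq_mul_left hpos ?_
    calc Nat.card ↥(K ⊓ N) * N.index * K.relIndex N
        = (Nat.card ↥(K ⊓ N) * K.relIndex N) * N.index := by ring
      _ = Nat.card R := by rw [e4, h1]
      _ = Nat.card K * K.index := h3.symm
      _ = _ := by rw [e2]
  rw [← e5, ← Subgroup.inf_relIndex_right]
  intro hd
  apply hQ₀.2.2
  refine hd.trans (Subgroup.relIndex_dvd_of_le_left N ?_)
  exact le_inf Subgroup.le_normalizer hQ₀.1

/-- Subgroups containing a Sylow `p`-subgroup and a Sylow `q`-subgroup with order involving only `p`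
and `q`, in `p`-solvable groups. -/
theorem exists_hall (hpq : p ≠ q) : ∀ (n : ℕ) (R : Type u) [Group R] [Finite R], Nat.card R = n →
    IsPSolvable p R → ∀ T : Sylow p R, ∃ X : Subgroup R, (T : Subgroup R) ≤ X ∧ ¬ q ∣ X.index ∧
      ∀ r : ℕ, r.Prime → r ∣ Nat.card X → r = p ∨ r = q := by
  classical
  have hpp : p.Prime := Fact.out
  have hqp : q.Prime := Fact.out
  intro n
  induction n using Nat.strong_induction_on with
  | _ n ih =>
  intro R _ _ hn hsep T
  by_cases hnt : Nontrivial R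
  swap
  · rw [not_nontrivial_iff_subsingleton] at hnt
    refine ⟨⊤, le_top, ?_, ?_⟩
    · rw [Subgroup.index_top]
      exact hqp.one_lt.ne' ∘ Nat.dvd_one.1
    · intro r hr hrd
      have h1 : Nat.card (⊤ : Subgroup R) = 1 := by
        rw [Subgroup.card_top]
        exact Nat.card_eq_one_iff_unique.2 ⟨hnt, ⟨1⟩⟩
      rw [h1] at hrd
      exact absurd (Nat.dvd_one.1 hrd) hr.one_lt.ne'
  obtain ⟨N, hNn, hNb, hNpc⟩ := isPSolvable_exists_normal hsep
  haveI := hNn
  have hquot : ∀ (M : Subgroup R) [M.Normal], M ≠ ⊥ → Nat.card (R ⧸ M) < n := by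
    intro M _ hM
    have h1 := Subgroup.card_eq_card_quotient_mul_card_subgroup M
    have h2 : 1 < Nat.card M := by
      by_contra hle
      have h3 : Nat.card M = 1 := by
        have : 0 < Nat.card M := Nat.card_pos
        omega
      exact hM (Subgroup.eq_bot_of_card_eq M h3)
    have h4 : 0 < Nat.card (R ⧸ M) := Nat.card_pos
    rw [← hn, h1]
    nlinarith
  have hstep : ∀ (M : Subgroup R) [M.Normal], M ≠ ⊥ →
      (∀ r : ℕ, r.Prime → r ∣ Nat.card M → r = p ∨ r = q) →
      ∃ X : Subgroup R, (T : Subgroup R) ≤ X ∧ ¬ q ∣ X.index ∧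
        ∀ r : ℕ, r.Prime → r ∣ Nat.card X → r = p ∨ r = q := by
    intro M _ hM hMpr
    obtain ⟨X₂, h1, h2, h3⟩ := ih _ (hquot M hM) (R ⧸ M) rfl
      (isPSolvable_of_surjective (QuotientGroup.mk' M) (QuotientGroup.mk'_surjective M) hsep)
      (T.mapSurjective (QuotientGroup.mk'_surjective M))
    exact hall_step T M hMpr X₂ h1 h2 h3
  rcases hNpc with ⟨m, hm⟩ | hcop
  · refine hstep N hNb fun r hr hrd => Or.inl ?_
    rw [hm] at hrd
    exact (Nat.prime_dvd_prime_iff_eq hr hpp).1 (hr.dvd_of_dvd_pow hrd)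
  · have hTN : (T : Subgroup R) ≤ normalizer (N : Set R) := by
      rw [normalizer_eq_top_iff.2 hNn]
      exact le_top
    have hc : (Nat.card (T : Subgroup R)).Coprime (Nat.card N) := by
      obtain ⟨k, hk⟩ := IsPGroup.iff_card.1 T.isPGroup'
      rw [hk]
      exact Nat.Coprime.pow_left _ hcop.symm
    haveI : Group.IsNilpotent (T : Subgroup R) := T.isPGroup'.isNilpotent
    have hTs : Group.IsSolvable (T : Subgroup R) := inferInstance
    obtain ⟨Q₀, hQ₀, hTQ⟩ := exists_invariant_sylowIn (p := q) hTN hc (Or.inl hTs)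
    by_cases hNr : normalizer (Q₀ : Set R) = ⊤
    · haveI hQn : Q₀.Normal := normalizer_eq_top_iff.1 hNr
      by_cases hQb : Q₀ = ⊥
      · -- `q` does not divide `|N|`
        have hqN : ¬ q ∣ Nat.card N := by
          have := hQ₀.2.2
          rwa [hQb, Subgroup.relIndex_bot_left] at this
        obtain ⟨X₂, h1, h2, h3⟩ := ih _ (hquot N hNb) (R ⧸ N) rfl
          (isPSolvable_of_surjective (QuotientGroup.mk' N) (QuotientGroup.mk'_surjective N) hsep)
          (T.mapSurjective (QuotientGroup.mk'_surjective N))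
        set X₁ : Subgroup R := X₂.comap (QuotientGroup.mk' N) with hX₁
        have hTX₁ : (T : Subgroup R) ≤ X₁ := fun t ht => h1 ⟨t, ht, rfl⟩
        have hX₁i : X₁.index = X₂.index :=
          Subgroup.index_comap_of_surjective _ (QuotientGroup.mk'_surjective N)
        have hNX₁ : N ≤ X₁ := by
          intro x hx
          show QuotientGroup.mk' N x ∈ X₂
          have : QuotientGroup.mk' N x = 1 := (QuotientGroup.eq_one_iff x).2 hx
          rw [this]
          exact one_mem _
        set N₁ : Subgroup X₁ := N.subgroupOf X₁ with hN₁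
        have hN₁c : Nat.card N₁ = Nat.card N :=
          Nat.card_congr (Subgroup.subgroupOfEquivOfLe hNX₁).toEquiv
        have hN₁i : N₁.index = Nat.card X₂ := by
          have h4 := Subgroup.card_mul_index N₁
          have h5 : Nat.card X₁ = Nat.card N * Nat.card X₂ := card_comap_mk' N X₂
          rw [hN₁c, h5] at h4
          exact (Nat.eq_of_mul_eq_mul_left Nat.card_pos h4)
        have hcop₁ : (Nat.card N₁).Coprime N₁.index := by
          rw [hN₁c, hN₁i]
          refine Nat.coprime_of_dvd fun r hr hr1 hr2 => ?_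
          rcases h3 r hr hr2 with rfl | rfl
          · exact (Nat.Prime.coprime_iff_not_dvd hr).1 hcop.symm hr1
          · exact hqN hr1
        obtain ⟨Hc, hHc⟩ := Subgroup.exists_right_complement'_of_coprime hcop₁
        have hHcard : Nat.card Hc = Nat.card X₂ := by
          rw [← hN₁i]
          exact hHc.symm.index_eq_card.symm
        have hHi : Hc.index = Nat.card N := by
          rw [← hN₁c]
          exact hHc.index_eq_card
        let S₁ : Sylow p X₁ := T.subtype hTX₁
        obtain ⟨P₂⟩ : Nonempty (Sylow p Hc) := inferInstance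
        have hP₃p : IsPGroup p ((P₂ : Subgroup Hc).map Hc.subtype) := P₂.isPGroup'.map _
        have hP₃i : ¬ p ∣ ((P₂ : Subgroup Hc).map Hc.subtype).index := by
          rw [Subgroup.index_map_subtype, hHi]
          intro hd
          rcases hpp.dvd_mul.1 hd with h | h
          · exact P₂.not_dvd_index h
          · exact (Nat.Prime.coprime_iff_not_dvd hpp).1 hcop.symm h
        let S₃ : Sylow p X₁ := hP₃p.toSylow hP₃i
        obtain ⟨g, hg⟩ := MulAction.exists_smul_eq X₁ S₃ S₁
        refine ⟨(Hc.map (MulAut.conj g).toMonoidHom).map X₁.subtype, ?_, ?_, ?_⟩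
        · intro t ht
          have h4 : (⟨t, hTX₁ ht⟩ : X₁) ∈ (S₁ : Subgroup X₁) := ht
          rw [← hg, Sylow.coe_subgroup_smul, Subgroup.pointwise_smul_def] at h4
          obtain ⟨s, hs, e⟩ := h4
          have hsH : s ∈ (S₃ : Subgroup X₁) := hs
          have hsH' : s ∈ Hc := by
            obtain ⟨s', -, rfl⟩ := hsH
            exact s'.2
          refine ⟨⟨t, hTX₁ ht⟩, ⟨s, hsH', e⟩, rfl⟩
        · rw [Subgroup.index_map_subtype]
          have h5 : (Hc.map (MulAut.conj g).toMonoidHom).index = Hc.index :=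
            Subgroup.index_map_equiv Hc (MulAut.conj g)
          rw [h5, hHi, hX₁i]
          intro hd
          rcases hqp.dvd_mul.1 hd with h | h
          · exact hqN h
          · exact h2 h
        · intro r hr hrd
          rw [Subgroup.card_map_of_injective X₁.subtype_injective,
            Subgroup.card_map_of_injective (MulAut.conj g).injective, hHcard] at hrd
          exact h3 r hr hrd
      · refine hstep Q₀ hQb fun r hr hrd => Or.inr ?_
        obtain ⟨k, hk⟩ := IsPGroup.iff_card.1 hQ₀.2.1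
        rw [hk] at hrd
        exact (Nat.prime_dvd_prime_iff_eq hr hqp).1 (hr.dvd_of_dvd_pow hrd)
    · set Nr := normalizer (Q₀ : Set R) with hNrdef
      have hlt : Nat.card Nr < n := by
        rw [← hn]
        by_contra hle
        push Not at hle
        apply hNr
        refine Subgroup.eq_of_le_of_card_ge le_top ?_
        rw [Subgroup.card_top]
        exact hle
      obtain ⟨X', h1, h2, h3⟩ := ih _ hlt Nr rfl (isPSolvable_subgroup Nr hsep) (T.subtype hTQ)
      refine ⟨X'.map Nr.subtype, ?_, ?_, ?_⟩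
      · intro t ht
        refine ⟨⟨t, hTQ ht⟩, h1 ?_, rfl⟩
        rw [Sylow.coe_subtype]
        exact ht
      · rw [Subgroup.index_map_subtype]
        intro hd
        rcases hqp.dvd_mul.1 hd with h | h
        · exact h2 h
        · exact not_dvd_index_normalizer N hQ₀ h
      · intro r hr hrd
        rw [Subgroup.card_map_of_injective Nr.subtype_injective] at hrd
        exact h3 r hr hrd

end Hall

section Sub

open Cfsg.Agent.Lib.Core.CoprimeMap

variable {G : Type u} [Group G] [Finite G] {p q : ℕ} [Fact p.Prime] [Fact q.Prime]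

/-- The theorem inside a `p`-solvable `{p, q}`-subgroup of `N_G(H)` containing a Sylow `p`-subgroup
`T` of it. -/
theorem main_sub (hpq : p ≠ q) (h23 : ¬ ((p = 2 ∧ q = 3) ∨ (p = 3 ∧ q = 2))) (W T H : Subgroup G)
    (hTW : T ≤ W) (hT : IsPGroup p T) (hTi : ¬ p ∣ T.relIndex W) (hsep : IsPSolvable p W)
    (hpr : ∀ r : ℕ, r.Prime → r ∣ Nat.card W → r = p ∨ r = q)
    (hHT : H ≤ T) (hHW : W ≤ normalizer (H : Set G)) (hq : q ∣ (centralizer (H : Set G)).relIndex W) :
    ∃ K : Subgroup T, K.Characteristic ∧ q ∣ autIdx (K.map T.subtype) := by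
  classical
  have hpp : p.Prime := Fact.out
  have hqp : q.Prime := Fact.out
  have hTWp : IsPGroup p (T.subgroupOf W) := hT.comap_subtype
  let S : Sylow p W := hTWp.toSylow hTi
  have hS : (S : Subgroup W) = T.subgroupOf W := rfl
  set D : Subgroup W := pPrimeCore p W with hD
  have hDn : D.Normal := inferInstance
  have hDc : (Nat.card D).Coprime p := pPrimeCore_coprime
  set Y := W ⧸ D with hY
  set f : W →* Y := QuotientGroup.mk' D with hfdef
  have hf : Function.Surjective f := QuotientGroup.mk'_surjective D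
  have hfk : f.ker = D := QuotientGroup.ker_mk' D
  have hcard : Nat.card W = Nat.card Y * Nat.card D := Subgroup.card_eq_card_quotient_mul_card_subgroup D
  have hO : pPrimeCore p Y = ⊥ := pPrimeCore_quotient_eq_bot
  have hsepY : IsPSolvable p Y := isPSolvable_of_surjective f hf hsep
  have hprY : ∀ r : ℕ, r.Prime → r ∣ Nat.card Y → r = p ∨ r = q := by
    intro r hr hrd
    exact hpr r hr (by rw [hcard]; exact hrd.trans (dvd_mul_right _ _))
  -- `D` centralizes `H`
  have hDC : D ≤ (centralizer (H : Set G)).subgroupOf W := by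
    intro d hd
    show (d : G) ∈ centralizer (H : Set G)
    rw [mem_centralizer_iff]
    intro h hh
    have hhW : h ∈ W := hTW (hHT hh)
    have h1 : (d : G) * h * (d : G)⁻¹ ∈ H := (mem_normalizer_iff.1 (hHW d.2) h).1 hh
    have hc : (d : G)⁻¹ * h * (d : G) * h⁻¹ ∈ H := by
      have h2 : (d : G)⁻¹ * h * (d : G) ∈ H := by
        have := (mem_normalizer_iff.1 (inv_mem (hHW d.2)) h).1 hh
        simpa using this
      exact H.mul_mem h2 (H.inv_mem hh)
    have hc2 : (⟨(d : G)⁻¹ * h * (d : G) * h⁻¹, W.mul_mem (W.mul_mem (W.mul_mem (W.inv_mem d.2) hhW) d.2)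
        (W.inv_mem hhW)⟩ : W) ∈ D := by
      have h3 : (⟨(d : G)⁻¹ * h * (d : G) * h⁻¹, W.mul_mem (W.mul_mem (W.mul_mem (W.inv_mem d.2) hhW) d.2)
        (W.inv_mem hhW)⟩ : W) = d⁻¹ * ((⟨h, hhW⟩ : W) * d * (⟨h, hhW⟩ : W)⁻¹) := by
        apply Subtype.ext
        show _ = (d : G)⁻¹ * (h * (d : G) * h⁻¹)
        group
      rw [h3]
      exact D.mul_mem (D.inv_mem hd) (hDn.conj_mem _ hd _)
    have h4 : (d : G)⁻¹ * h * (d : G) * h⁻¹ = 1 := by
      have h5 : (⟨(d : G)⁻¹ * h * (d : G) * h⁻¹, W.mul_mem (W.mul_mem (W.mul_mem (W.inv_mem d.2) hhW) d.2)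
        (W.inv_mem hhW)⟩ : W) ∈ D ⊓ (H.subgroupOf W) := ⟨hc2, hc⟩
      have hHp : IsPGroup p (H.subgroupOf W) := (hT.to_le hHT).comap_subtype
      have h55 : (H.subgroupOf W) ⊓ D = ⊥ := inf_eq_bot_of_isPGroup_of_coprime hHp hDc
      rw [inf_comm, h55, mem_bot] at h5
      exact congrArg Subtype.val h5
    have h6 : (d : G)⁻¹ * h * (d : G) = h := by
      rwa [mul_inv_eq_one] at h4
    have h7 : h * (d : G) = (d : G) * h := by
      nth_rewrite 2 [← h6]
      group
    exact h7
  have hqY : q ∣ Nat.card Y := by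
    have h1 : ((centralizer (H : Set G)).subgroupOf W).index ∣ D.index := Subgroup.index_dvd_of_le hDC
    have h2 : D.index = Nat.card Y := Subgroup.index_eq_card D
    rw [← h2]
    exact dvd_trans hq h1
  set TY : Sylow p Y := S.mapSurjective hf with hTY
  obtain ⟨K₂, hK₂c, hK₂q⟩ := main_Y hpq h23 _ Y rfl hsepY hO hprY hqY TY
  let θ : T →* (TY : Subgroup Y) :=
    ((f.comp (Subgroup.inclusion hTW))).codRestrict (TY : Subgroup Y) (fun x =>
      ⟨Subgroup.inclusion hTW x, x.2, rfl⟩)
  have hθv : ∀ t : T, ((θ t : (TY : Subgroup Y)) : Y) = f (Subgroup.inclusion hTW t) := fun t => rfl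
  have hθs : Function.Surjective θ := by
    rintro ⟨y, t, ht, rfl⟩
    exact ⟨⟨t, ht⟩, rfl⟩
  have hker : (Nat.card f.ker).Coprime p := by rw [hfk]; exact hDc
  have hθi : θ.ker = ⊥ := by
    rw [eq_bot_iff]
    intro t ht
    have h1 : f (Subgroup.inclusion hTW t) = 1 := congrArg Subtype.val (MonoidHom.mem_ker.1 ht)
    have h2 : Subgroup.inclusion hTW t ∈ (S : Subgroup W) ⊓ f.ker := ⟨t.2, h1⟩
    rw [inf_ker_eq_bot f S.isPGroup' hker, mem_bot] at h2
    rw [mem_bot]
    apply Subtype.ext
    have h3 : ((Subgroup.inclusion hTW t : W) : G) = ((1 : W) : G) := congrArg Subtype.val h2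
    exact h3
  have hkc : θ.ker.Characteristic := by
    rw [hθi]
    infer_instance
  refine ⟨K₂.comap θ, char_comap θ hθs hkc hK₂c, ?_⟩
  set K : Subgroup T := K₂.comap θ with hK
  set K' : Subgroup G := K.map T.subtype with hK'
  have hK'W : K' ≤ W := (Subgroup.map_subtype_le K).trans hTW
  set KW : Subgroup W := K'.subgroupOf W with hKW
  have hKWmap : KW.map W.subtype = K' := Subgroup.map_subgroupOf_eq_of_le hK'W
  have hKWp : IsPGroup p KW := by
    have h1 : IsPGroup p K' := IsPGroup.to_le hT (Subgroup.map_subtype_le K)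
    exact h1.comap_subtype
  have hmap : KW.map f = K₂.map (TY : Subgroup Y).subtype := by
    ext y
    constructor
    · rintro ⟨x, hx, rfl⟩
      obtain ⟨t, ht, e⟩ : (x : G) ∈ K' := hx
      have e1 : Subgroup.inclusion hTW t = x := Subtype.ext e
      refine ⟨θ t, ht, ?_⟩
      show f (Subgroup.inclusion hTW t) = f x
      rw [e1]
    · rintro ⟨k, hk, rfl⟩
      obtain ⟨t, rfl⟩ := hθs k
      refine ⟨Subgroup.inclusion hTW t, ?_, rfl⟩
      exact ⟨t, hk, rfl⟩
  have h1 := relIndex_dvd_of_map f KW (map_normalizer_eq f hf hKWp hker)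
  rw [hmap] at h1
  have h2 := relIndex_dvd_of_subgroup W KW
  rw [hKWmap] at h2
  exact hK₂q.trans (h1.trans h2)

end Sub

section CHall

open Cfsg.Agent.Lib.Core.SylowFacts

variable {G : Type u} [Group G] [Finite G] {p q : ℕ} [Fact p.Prime] [Fact q.Prime]

/-- Extensions, in two steps. -/
theorem isPSolvable_of_two {X Y : Type u} [Group X] [Finite X] [Group Y] [Finite Y] (f : X →* Y)
    (B : Subgroup X) [hBn : B.Normal] (hBA : B ≤ f.ker) (hB : IsPOrCoprime p (Nat.card B))
    (hAB : IsPOrCoprime p (B.relIndex f.ker)) (hY : IsPSolvable p Y) : IsPSolvable p X := by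
  apply isPSolvable_of_normal_of_quotient B hB
  let F : X ⧸ B →* Y := QuotientGroup.lift B f hBA
  have hFk : F.ker = f.ker.map (QuotientGroup.mk' B) := by
    ext x
    obtain ⟨x, rfl⟩ := QuotientGroup.mk'_surjective B x
    constructor
    · intro h
      exact ⟨x, h, rfl⟩
    · rintro ⟨y, hy, e⟩
      rw [← e]
      exact hy
  haveI : (f.ker.map (QuotientGroup.mk' B)).Normal :=
    Subgroup.Normal.map inferInstance _ (QuotientGroup.mk'_surjective B)
  apply isPSolvable_of_normal_of_quotient F.ker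
  · have e : Nat.card F.ker = B.relIndex f.ker := by
      rw [hFk]
      let g : f.ker →* X ⧸ B := (QuotientGroup.mk' B).comp f.ker.subtype
      have hg : g.ker = B.subgroupOf f.ker := by
        ext x
        show (((x : X) : X ⧸ B) = 1) ↔ _
        rw [QuotientGroup.eq_one_iff]
        rfl
      have hr : g.range = f.ker.map (QuotientGroup.mk' B) := by
        rw [MonoidHom.range_comp, Subgroup.range_subtype]
      rw [← hr, ← Subgroup.index_ker, hg]
      rfl
    rw [e]
    exact hAB
  · have hinj : Function.Injective (QuotientGroup.kerLift F) := QuotientGroup.kerLift_injective F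
    exact isPSolvable_of_injective _ hinj hY

/-- From an automizer to a `p`-solvable `{p, q}`-subgroup of the normalizer. -/
theorem exists_chall (hpq : p ≠ q) (H T : Subgroup G) (hT : IsPGroup p T)
    (hTN : T ≤ normalizer (H : Set G)) (hTi : ¬ p ∣ T.relIndex (normalizer (H : Set G)))
    (hsol : IsPSolvable p (↥(normalizer (H : Set G)) ⧸
      (centralizer (H : Set G)).subgroupOf (normalizer (H : Set G))))
    (hq : q ∣ (centralizer (H : Set G)).relIndex (normalizer (H : Set G))) :
    ∃ W : Subgroup G, T ≤ W ∧ W ≤ normalizer (H : Set G) ∧ IsPSolvable p W ∧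
      (∀ r : ℕ, r.Prime → r ∣ Nat.card W → r = p ∨ r = q) ∧
      q ∣ (centralizer (H : Set G)).relIndex W := by
  classical
  have hpp : p.Prime := Fact.out
  have hqp : q.Prime := Fact.out
  set Λ : Subgroup G := normalizer (H : Set G) with hΛ
  set C : Subgroup G := centralizer (H : Set G) with hC
  set E : Subgroup Λ := C.subgroupOf Λ with hE
  haveI hEn : E.Normal := by
    constructor
    rintro ⟨c, hc⟩ hcm ⟨g, hg⟩
    show g * c * g⁻¹ ∈ C
    have hc' : c ∈ C := hcm
    rw [hC, mem_centralizer_iff]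
    intro k hk
    have h1 : g⁻¹ * k * g ∈ H := by
      have := (mem_normalizer_iff.1 (Λ.inv_mem hg) k).1 hk
      simpa using this
    have h2 := mem_centralizer_iff.1 hc' _ h1
    calc k * (g * c * g⁻¹) = g * ((g⁻¹ * k * g) * c) * g⁻¹ := by group
      _ = g * (c * (g⁻¹ * k * g)) * g⁻¹ := by rw [h2]
      _ = _ := by group
  have hTΛp : IsPGroup p (T.subgroupOf Λ) := hT.comap_subtype
  let S : Sylow p Λ := hTΛp.toSylow hTi
  have hS : (S : Subgroup Λ) = T.subgroupOf Λ := rfl
  set D : Subgroup Λ := (S : Subgroup Λ) ⊓ E with hD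
  set L : Subgroup Λ := normalizer (D : Set Λ) with hL
  have hSL : (S : Subgroup Λ) ≤ L := by
    intro s hs
    rw [hL, mem_normalizer_iff]
    intro x
    constructor
    · rintro ⟨h1, h2⟩
      exact ⟨S.mul_mem (S.mul_mem hs h1) (S.inv_mem hs), hEn.conj_mem _ h2 _⟩
    · rintro ⟨h1, h2⟩
      have e : x = s⁻¹ * (s * x * s⁻¹) * s := by group
      rw [e]
      refine ⟨S.mul_mem (S.mul_mem (S.inv_mem hs) h1) hs, ?_⟩
      have := hEn.conj_mem _ h2 s⁻¹
      simpa using this
  have hEL : L ⊔ E = ⊤ := by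
    rw [eq_top_iff]
    intro x _
    obtain ⟨c, hc, y, hy, rfl⟩ :=
      Cfsg.Agent.Lib.PLocal.AlperinG.exists_frattini_normal S E x
    exact Subgroup.mul_mem _ (Subgroup.mem_sup_right hc) (Subgroup.mem_sup_left hy)
  have hDp : IsPGroup p D := S.isPGroup'.to_le inf_le_left
  have hDi : ¬ p ∣ D.relIndex E := by
    have h1 := map_sylowOfNormal S E
    have h2 : ((sylowOfNormal S E : Sylow p E) : Subgroup E).index = D.relIndex E := by
      have h3 : D.subgroupOf E = (sylowOfNormal S E : Subgroup E) := by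
        have h4 : ((sylowOfNormal S E : Sylow p E) : Subgroup E).map E.subtype = D := h1
        rw [← h4]
        exact Subgroup.comap_map_eq_self_of_injective E.subtype_injective _
      rw [Subgroup.relIndex, h3]
    rw [← h2]
    exact Sylow.not_dvd_index _
  -- `L` is `p`-solvable
  let F : L →* Λ ⧸ E := (QuotientGroup.mk' E).comp L.subtype
  have hFk : F.ker = E.subgroupOf L := by
    ext x
    show (((x : Λ) : Λ ⧸ E) = 1) ↔ _
    rw [QuotientGroup.eq_one_iff]
    rfl
  haveI hBn : (D.subgroupOf L).Normal := Subgroup.normal_in_normalizer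
  have hLs : IsPSolvable p L := by
    refine isPSolvable_of_two F (D.subgroupOf L) ?_ ?_ ?_ hsol
    · rw [hFk]
      intro x hx
      exact hx.2
    · left
      obtain ⟨k, hk⟩ := IsPGroup.iff_card.1 (hDp.comap_subtype (K := L))
      exact ⟨k, hk⟩
    · right
      rw [hFk]
      have h1 : (D.subgroupOf L).relIndex (E.subgroupOf L) ∣ D.relIndex E := by
        have e1 : (D.subgroupOf L).relIndex (E.subgroupOf L) =
            D.relIndex ((E.subgroupOf L).map L.subtype) := Subgroup.relIndex_comap _ _ _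
        rw [e1]
        have hle1 : D ≤ (E.subgroupOf L).map L.subtype := by
          intro d hd
          have hdL : d ∈ L := Subgroup.le_normalizer hd
          exact ⟨⟨d, hdL⟩, hd.2, rfl⟩
        have hle2 : (E.subgroupOf L).map L.subtype ≤ E := by
          rintro _ ⟨x, hx, rfl⟩
          exact hx
        rw [← Subgroup.relIndex_mul_relIndex D _ E hle1 hle2]
        exact dvd_mul_right _ _
      rw [Nat.coprime_comm, Nat.Prime.coprime_iff_not_dvd hpp]
      exact fun h => hDi (h.trans h1)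
  obtain ⟨R₀, h1, h2, h3⟩ := exists_hall (p := p) (q := q) hpq _ L rfl hLs (S.subtype hSL)
  refine ⟨(R₀.map L.subtype).map Λ.subtype, ?_, Subgroup.map_subtype_le _, ?_, ?_, ?_⟩
  · intro t ht
    have ht1 : (⟨t, hTN ht⟩ : Λ) ∈ (S : Subgroup Λ) := ht
    have ht2 : (⟨⟨t, hTN ht⟩, hSL ht1⟩ : L) ∈ R₀ := by
      apply h1
      rw [Sylow.coe_subtype]
      exact ht1
    exact ⟨⟨t, hTN ht⟩, ⟨⟨⟨t, hTN ht⟩, hSL ht1⟩, ht2, rfl⟩, rfl⟩
  · refine isPSolvable_of_equiv (Subgroup.equivMapOfInjective _ _ Λ.subtype_injective) ?_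
    refine isPSolvable_of_equiv (Subgroup.equivMapOfInjective _ _ L.subtype_injective) ?_
    exact isPSolvable_subgroup R₀ hLs
  · intro r hr hrd
    rw [Subgroup.card_map_of_injective Λ.subtype_injective,
      Subgroup.card_map_of_injective L.subtype_injective] at hrd
    exact h3 r hr hrd
  · have e1 : C.relIndex ((R₀.map L.subtype).map Λ.subtype) = (E.subgroupOf L).relIndex R₀ := by
      rw [← Subgroup.relIndex_comap, ← Subgroup.relIndex_comap]
      rfl
    rw [e1]
    have e2 : (E.subgroupOf L).index = E.index := by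
      show E.relIndex L = _
      rw [← Subgroup.relIndex_sup_right, hEL, Subgroup.relIndex_top_right]
    have e3 : E.index = C.relIndex Λ := rfl
    have h4 : q ∣ (E.subgroupOf L).index := by
      rw [e2, e3]
      exact hq
    have h5 : (E.subgroupOf L).index ∣ ((E.subgroupOf L) ⊓ R₀).index :=
      Subgroup.index_dvd_of_le inf_le_left
    rw [← Subgroup.relIndex_mul_index (inf_le_right : (E.subgroupOf L) ⊓ R₀ ≤ R₀),
      Subgroup.inf_relIndex_right] at h5
    rcases hqp.dvd_mul.1 (h4.trans h5) with h | h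
    · exact h
    · exact absurd h h2

end CHall

section Top

variable {G : Type u} [Group G] [Finite G] {p q : ℕ} [Fact p.Prime] [Fact q.Prime]

/-- Conjugates. -/
theorem autIdx_conj (g : G) (K : Subgroup G) (h : q ∣ autIdx K) :
    q ∣ autIdx (K.map (MulAut.conj g).toMonoidHom) := by
  set e : G ≃* G := MulAut.conj g with he
  set K₂ : Subgroup G := K.map e.toMonoidHom with hK₂
  have h1 : K₂.map e.symm.toMonoidHom = K := by
    ext x
    constructor
    · rintro ⟨_, ⟨k, hk, rfl⟩, rfl⟩
      have : e.symm (e k) = k := e.symm_apply_apply k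
      change e.symm (e k) ∈ K
      rw [this]
      exact hk
    · intro hx
      refine ⟨e x, ⟨x, hx, rfl⟩, ?_⟩
      exact e.symm_apply_apply x
  have h2 := relIndex_dvd_of_map e.symm.toMonoidHom K₂ (map_equiv_normalizer_eq K₂ e.symm)
  rw [h1] at h2
  exact h.trans h2

/-- Characteristic subgroups of normal subgroups. -/
theorem mem_normalizer_of_char (T : Subgroup G) (K : Subgroup T) (hKc : K.Characteristic) {u : G}
    (hu : u ∈ normalizer (T : Set G)) :
    u ∈ normalizer ((K.map T.subtype : Subgroup G) : Set G) := by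
  have hle := Subgroup.characteristic_iff_le_comap.1 hKc
  rw [mem_normalizer_iff]
  intro x
  constructor
  · rintro ⟨k, hk, rfl⟩
    exact ⟨T.normalizerMonoidHom ⟨u, hu⟩ k, hle _ hk, rfl⟩
  · rintro ⟨k, hk, e⟩
    refine ⟨T.normalizerMonoidHom ⟨u⁻¹, inv_mem hu⟩ k, hle _ hk, ?_⟩
    have e' : (k : G) = u * x * u⁻¹ := e
    show u⁻¹ * (k : G) * u⁻¹⁻¹ = x
    rw [e']
    group

/-- The theorem. -/
theorem exists_normal_aut (hpq : p ≠ q) (h23 : ¬ ((p = 2 ∧ q = 3) ∨ (p = 3 ∧ q = 2)))
    (hsol : ∀ H : Subgroup G, IsPGroup p ↥H →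
      IsPSolvable p (↥(normalizer (H : Set G)) ⧸
        (centralizer (H : Set G)).subgroupOf (normalizer (H : Set G))))
    (H : Subgroup G) (hH : IsPGroup p ↥H) (hq : q ∣ autIdx H) (Gp : Sylow p G) :
    ∃ K : Subgroup G, K ≤ (Gp : Subgroup G) ∧ (Gp : Subgroup G) ≤ normalizer (K : Set G) ∧
      q ∣ autIdx K := by
  classical
  have hpp : p.Prime := Fact.out
  have hmove : ∀ Q : Subgroup G, IsPGroup p Q →
      ∃ g : G, Q.map (MulAut.conj g).toMonoidHom ≤ (Gp : Subgroup G) := by
    intro Q hQ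
    obtain ⟨S, hS⟩ := hQ.exists_le_sylow
    obtain ⟨g, hg⟩ := MulAction.exists_smul_eq G S Gp
    refine ⟨g, ?_⟩
    rw [← hg, Sylow.coe_subgroup_smul, Subgroup.pointwise_smul_def]
    exact Subgroup.map_mono hS
  let 𝓕 : Set (Subgroup G) := {K | K ≤ (Gp : Subgroup G) ∧ q ∣ autIdx K}
  have hne : 𝓕.Nonempty := by
    obtain ⟨g, hg⟩ := hmove H hH
    exact ⟨_, hg, autIdx_conj g H hq⟩
  obtain ⟨H₀, hH₀, hmax⟩ := Set.exists_max_image 𝓕
    (fun K => Nat.card ↥((Gp : Subgroup G) ⊓ normalizer (K : Set G))) (Set.toFinite _) hne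
  set Λ : Subgroup G := normalizer (H₀ : Set G) with hΛ
  set T : Subgroup G := (Gp : Subgroup G) ⊓ Λ with hTdef
  have hT : IsPGroup p T := Gp.isPGroup'.to_le inf_le_left
  have hH₀T : H₀ ≤ T := le_inf hH₀.1 Subgroup.le_normalizer
  have hTi : ¬ p ∣ T.relIndex Λ := by
    obtain ⟨SΛ, hSΛ⟩ := (hT.comap_subtype (K := Λ)).exists_le_sylow
    set T₀ : Subgroup G := (SΛ : Subgroup Λ).map Λ.subtype with hT₀
    have hT₀p : IsPGroup p T₀ := SΛ.isPGroup'.map _
    have hTT₀ : T ≤ T₀ := fun t ht => ⟨⟨t, ht.2⟩, hSΛ ht, rfl⟩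
    have hT₀Λ : T₀ ≤ Λ := Subgroup.map_subtype_le _
    obtain ⟨g, hg⟩ := hmove T₀ hT₀p
    have hH' : H₀.map (MulAut.conj g).toMonoidHom ∈ 𝓕 :=
      ⟨(Subgroup.map_mono (hH₀T.trans hTT₀)).trans hg, autIdx_conj g _ hH₀.2⟩
    have hcard := hmax _ hH'
    have hle : T₀.map (MulAut.conj g).toMonoidHom ≤ (Gp : Subgroup G) ⊓
        normalizer ((H₀.map (MulAut.conj g).toMonoidHom : Subgroup G) : Set G) := by
      refine le_inf hg ?_
      rw [← map_equiv_normalizer_eq]
      exact Subgroup.map_mono hT₀Λ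
    have h1 : Nat.card T₀ ≤ Nat.card T := by
      calc Nat.card T₀ = Nat.card ↥(T₀.map (MulAut.conj g).toMonoidHom) :=
            (Subgroup.card_map_of_injective (MulAut.conj g).injective).symm
        _ ≤ _ := Subgroup.card_le_of_le hle
        _ ≤ _ := hcard
    have h2 : T = T₀ := Subgroup.eq_of_le_of_card_ge hTT₀ h1
    have h3 : T.subgroupOf Λ = SΛ := by
      rw [h2]
      exact Subgroup.comap_map_eq_self_of_injective Λ.subtype_injective _
    show ¬ p ∣ (T.subgroupOf Λ).index
    rw [h3]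
    exact SΛ.not_dvd_index
  by_cases hGp : (Gp : Subgroup G) ≤ Λ
  · exact ⟨H₀, hH₀.1, hGp, hH₀.2⟩
  exfalso
  obtain ⟨W, hTW, hWΛ, hWs, hWr, hWq⟩ := exists_chall hpq H₀ T hT inf_le_right hTi
    (hsol H₀ (Gp.isPGroup'.to_le hH₀.1)) hH₀.2
  have hTiW : ¬ p ∣ T.relIndex W := by
    intro hd
    apply hTi
    rw [← Subgroup.relIndex_mul_relIndex T W Λ hTW hWΛ]
    exact hd.trans (dvd_mul_right _ _)
  obtain ⟨K, hKc, hKq⟩ := main_sub hpq h23 W T H₀ hTW hT hTiW hWs hWr hH₀T hWΛ hWq
  set K' : Subgroup G := K.map T.subtype with hK'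
  have hK'T : K' ≤ T := Subgroup.map_subtype_le K
  have hK'F : K' ∈ 𝓕 := ⟨hK'T.trans inf_le_left, hKq⟩
  have hc2 := hmax _ hK'F
  haveI : Group.IsNilpotent (Gp : Subgroup G) := Gp.isPGroup'.isNilpotent
  have hlt : T.subgroupOf (Gp : Subgroup G) < ⊤ := by
    refine lt_of_le_of_ne le_top ?_
    intro h
    apply hGp
    intro x hx
    have h1 : (⟨x, hx⟩ : (Gp : Subgroup G)) ∈ T.subgroupOf (Gp : Subgroup G) := by
      rw [h]
      trivial
    exact h1.2
  obtain ⟨u, hu1, hu2⟩ := SetLike.exists_of_lt (Group.normalizerCondition_of_isNilpotent _ hlt)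
  have huT : (u : G) ∉ T := fun h => hu2 h
  have huN : (u : G) ∈ normalizer (T : Set G) := by
    rw [mem_normalizer_iff]
    intro x
    constructor
    · intro hx
      have h1 : (⟨x, hx.1⟩ : (Gp : Subgroup G)) ∈ T.subgroupOf (Gp : Subgroup G) := hx
      exact (mem_normalizer_iff.1 hu1 _).1 h1
    · intro hx
      have hxG : x ∈ (Gp : Subgroup G) := by
        have e : x = (u : G)⁻¹ * ((u : G) * x * (u : G)⁻¹) * (u : G) := by group
        rw [e]
        exact mul_mem (mul_mem (inv_mem u.2) hx.1) u.2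
      exact (mem_normalizer_iff.1 hu1 ⟨x, hxG⟩).2 hx
  have huK' : (u : G) ∈ normalizer (K' : Set G) := mem_normalizer_of_char T K hKc huN
  have hTK' : T ≤ normalizer (K' : Set G) := fun t ht =>
    mem_normalizer_of_char T K hKc (Subgroup.le_normalizer ht)
  have hle : T ≤ (Gp : Subgroup G) ⊓ normalizer (K' : Set G) := le_inf inf_le_left hTK'
  have he := Subgroup.eq_of_le_of_card_ge hle hc2
  apply huT
  rw [he]
  exact ⟨u.2, huK'⟩

end Top

end Cfsg.Agent.Lib.PLocal.QAut
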