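/-
The weakly closed elements of a Sylow `p`-subgroup form a direct factor of its centre,
for `p` odd (via Glauberman's weak closure theorem) and for solvable groups.
-/
import Cfsg.Agent.Lib.PLocal.CenterFactor
import Cfsg.Agent.Lib.Core.PSolvable
import Cfsg.Agent.Lib.Core.PSolvable2

set_option autoImplicit false
set_option linter.unusedSectionVars false

namespace Cfsg.Agent.Lib.PLocal.WeakFactor

open Subgroup Cfsg
open Cfsg.Agent.Lib.PLocal.Thompson Cfsg.Agent.Lib.PLocal.CenterFactor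
  Cfsg.Agent.Lib.Core.Basic Cfsg.Agent.Lib.PLocal.ConjFamily

universe u

section abstract

/-- The complement, for a group with the commutativity given by a hypothesis. -/
theorem exists_complement_fix' {M Γ : Type*} [hG : Group M] [Group Γ] [Finite M] [Finite Γ]
    (hcomm : ∀ a b : M, a * b = b * a) (ρ : Γ →* MulAut M) {p : ℕ} [Fact p.Prime]
    (hM : IsPGroup p M) (R : Subgroup Γ) (hR : ¬ p ∣ R.index) :
    ∃ K : Subgroup M, (∀ k ∈ K, ∀ g ∈ R, ρ g k = k) ∧ (∀ m ∈ K, (∀ g, ρ g m = m) → m = 1) ∧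
      ∀ m, (∀ g ∈ R, ρ g m = m) → ∃ u v, (∀ g, ρ g u = u) ∧ v ∈ K ∧ u * v = m := by
  letI : CommGroup M := { hG with mul_comm := hcomm }
  obtain ⟨K, h1, h2, h3⟩ := exists_complement_fix ρ hM R hR
  refine ⟨K, fun k hk => h1 hk, ?_, ?_⟩
  · intro m hm hf
    have h4 : m ∈ fixS ρ ⊤ ⊓ K := Subgroup.mem_inf.2 ⟨fun g _ => hf g, hm⟩
    rw [h2] at h4
    exact h4
  · intro m hm
    have h4 : m ∈ fixS ρ ⊤ ⊔ K := by
      rw [h3]
      exact hm
    obtain ⟨u, hu, v, hv, e⟩ := Subgroup.mem_sup.1 h4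
    exact ⟨u, v, fun g => hu g (Subgroup.mem_top g), hv, e⟩

variable {H : Type*} [Group H] [Finite H] {p : ℕ} [Fact p.Prime]

/-- A normal abelian subgroup containing the centre of a Sylow subgroup provides a complement. -/
theorem exists_complement_of_normal (U : Sylow p H) (M : Subgroup H) [hMn : M.Normal]
    (hMp : IsPGroup p M) (hab : ∀ a ∈ M, ∀ b ∈ M, a * b = b * a)
    (hZ : (U : Subgroup H) ⊓ centralizer ((U : Subgroup H) : Set H) ≤ M) :
    ∃ K : Subgroup H, K ≤ (U : Subgroup H) ⊓ centralizer ((U : Subgroup H) : Set H) ∧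
      (∀ x ∈ K, x ∈ center H → x = 1) ∧
      ∀ z ∈ (U : Subgroup H) ⊓ centralizer ((U : Subgroup H) : Set H),
        ∃ a ∈ M ⊓ center H, ∃ b ∈ K, a * b = z := by
  classical
  have hMU : M ≤ (U : Subgroup H) := (le_pCore hMn hMp).trans (pCore_le_sylow U)
  let ρ : H →* MulAut M := MulAut.conjNormal
  have hρ : ∀ (g : H) (m : M), ((ρ g m : M) : H) = g * m * g⁻¹ := fun g m =>
    MulAut.conjNormal_apply _ _
  obtain ⟨K₀, h1, h2, h3⟩ := exists_complement_fix' (M := M)
    (fun a b => Subtype.ext (hab a a.2 b b.2)) ρ hMp (U : Subgroup H) U.not_dvd_index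
  have hfix : ∀ (g : H) (m : M), ρ g m = m → g * (m : H) = m * g := by
    intro g m h
    have h4 := congrArg Subtype.val h
    rw [hρ] at h4
    rwa [mul_inv_eq_iff_eq_mul] at h4
  have hfix' : ∀ (g : H) (m : M), g * (m : H) = m * g → ρ g m = m := by
    intro g m h
    apply Subtype.ext
    rw [hρ, h]
    group
  refine ⟨K₀.map M.subtype, ?_, ?_, ?_⟩
  · rintro _ ⟨k, hk, rfl⟩
    refine Subgroup.mem_inf.2 ⟨hMU k.2, mem_centralizer_iff.2 fun u hu => ?_⟩
    exact hfix u k (h1 k hk u hu)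
  · rintro _ ⟨k, hk, rfl⟩ hc
    have h4 := h2 k hk (fun g => hfix' g k (by
      exact (mem_center_iff.1 hc g)))
    rw [h4]
    rfl
  · intro z hz
    have hzM : z ∈ M := hZ hz
    obtain ⟨u, v, hu, hv, e⟩ := h3 ⟨z, hzM⟩ (fun g hg => hfix' g ⟨z, hzM⟩
      (mem_centralizer_iff.1 hz.2 g hg))
    refine ⟨u, Subgroup.mem_inf.2 ⟨u.2, mem_center_iff.2 fun g => hfix g u (hu g)⟩, v,
      ⟨v, hv, rfl⟩, ?_⟩
    exact congrArg Subtype.val e

end abstract

section Main

variable {G : Type u} [Group G] [Finite G] {p : ℕ} [Fact p.Prime]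

omit [Finite G] [Fact p.Prime] in
lemma mem_normalizer_zj {J : Subgroup G} {m : G} (hm : m ∈ normalizer (J : Set G)) :
    m ∈ normalizer ((J ⊓ centralizer (J : Set G) : Subgroup G) : Set G) := by
  have key : ∀ m ∈ normalizer (J : Set G), ∀ z ∈ J ⊓ centralizer (J : Set G),
      m * z * m⁻¹ ∈ J ⊓ centralizer (J : Set G) := by
    intro m hm z hz
    refine Subgroup.mem_inf.2 ⟨(mem_normalizer_iff.1 hm z).1 hz.1, mem_centralizer_iff.2 fun t ht => ?_⟩
    have h1 : m⁻¹ * t * m⁻¹⁻¹ ∈ J := (mem_normalizer_iff.1 (inv_mem hm) t).1 ht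
    rw [inv_inv] at h1
    have h2 := mem_centralizer_iff.1 hz.2 _ h1
    calc t * (m * z * m⁻¹) = m * ((m⁻¹ * t * m) * z) * m⁻¹ := by group
      _ = m * (z * (m⁻¹ * t * m)) * m⁻¹ := by rw [h2]
      _ = m * z * m⁻¹ * t := by group
  rw [mem_normalizer_iff]
  intro z
  constructor
  · exact key m hm z
  · intro hz
    have := key m⁻¹ (inv_mem hm) _ hz
    have e : m⁻¹ * (m * z * m⁻¹) * m⁻¹⁻¹ = z := by group
    rwa [e] at this

/-- Weakly closed elements lie in the centre. -/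
lemma comm_of_weaklyClosed (S : Sylow p G) {x : G}
    (hx : ∀ g : G, g * x * g⁻¹ ∈ (S : Subgroup G) → g * x * g⁻¹ = x) (hxS : x ∈ (S : Subgroup G)) :
    ∀ s ∈ (S : Subgroup G), s * x = x * s := by
  intro s hs
  have h1 := hx s (mul_mem (mul_mem hs hxS) (inv_mem hs))
  rwa [mul_inv_eq_iff_eq_mul] at h1

/-- **The case of odd `p`.** -/
theorem main_odd (hp : p ≠ 2) (S : Sylow p G) :
    ∃ W K : Subgroup G, (∀ x : G, x ∈ W ↔ (x ∈ (S : Subgroup G) ∧
        ∀ g : G, g * x * g⁻¹ ∈ (S : Subgroup G) → g * x * g⁻¹ = x)) ∧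
      K ≤ ((S : Subgroup G) ⊓ centralizer ((S : Subgroup G) : Set G)) ∧ W ⊓ K = ⊥ ∧
      W ⊔ K = ((S : Subgroup G) ⊓ centralizer ((S : Subgroup G) : Set G)) := by
  classical
  set J : Subgroup G := jOf 0 (S : Subgroup G) with hJ
  set N : Subgroup G := normalizer (J : Set G) with hN
  have hSN : (S : Subgroup G) ≤ N := fun s hs =>
    (Cfsg.Agent.Lib.PLocal.ThompsonFunctor.pFunctor_jOf (e := 0) (p := p) (Or.inl rfl)).normalizer_le _
      S.isPGroup' (le_normalizer hs)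
  have hJS : J ≤ (S : Subgroup G) := jOf_le 0 _
  let U : Sylow p N := S.subtype hSN
  have hU : (U : Subgroup N) = (S : Subgroup G).subgroupOf N := S.coe_subtype hSN
  let Z : Subgroup G := J ⊓ centralizer (J : Set G)
  have hZS : Z ≤ (S : Subgroup G) := inf_le_left.trans hJS
  have hZN : ∀ m ∈ N, m ∈ normalizer (Z : Set G) := fun m hm => mem_normalizer_zj hm
  have hcentral : ∀ z ∈ (S : Subgroup G), (∀ s ∈ (S : Subgroup G), s * z = z * s) → z ∈ Z := by
    intro z hzS hz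
    obtain ⟨A, hA⟩ := exists_isMaxIn 0 (S : Subgroup G)
    refine Subgroup.mem_inf.2 ⟨hA.le_jOf (hA.mem_of_commute hzS (by simp)
      (fun a ha => hz a (hA.1 ha))), mem_centralizer_iff.2 fun t ht => hz t (hJS ht)⟩
  let M : Subgroup N := Z.subgroupOf N
  haveI hMn : M.Normal := (normal_subgroupOf_iff_le_normalizer (inf_le_left.trans le_normalizer)).2
    (fun m hm => hZN m hm)
  have hMp : IsPGroup p M := (S.isPGroup'.to_le hZS).comap_subtype
  have hZab : ∀ a ∈ Z, ∀ b ∈ Z, a * b = b * a := fun a ha b hb =>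
    (mem_centralizer_iff.1 hb.2 a ha.1)
  obtain ⟨K, hK1, hK2, hK3⟩ := exists_complement_of_normal U M hMp
    (fun a ha b hb => Subtype.ext (hZab a ha b hb)) (by
      rintro z ⟨hz1, hz2⟩
      rw [hU] at hz1
      have hz3 : (z : G) ∈ (S : Subgroup G) := mem_subgroupOf.1 hz1
      refine mem_subgroupOf.2 (hcentral z hz3 (fun s hs => ?_))
      have h1 := mem_centralizer_iff.1 hz2 ⟨s, hSN hs⟩ (by
        rw [SetLike.mem_coe, hU]
        exact mem_subgroupOf.2 hs)
      exact congrArg Subtype.val h1)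
  have hKS : ∀ k ∈ K, (k : G) ∈ (S : Subgroup G) ⊓ centralizer ((S : Subgroup G) : Set G) := by
    intro k hk
    obtain ⟨h1, h2⟩ := hK1 hk
    rw [SetLike.mem_coe, hU] at h1
    refine Subgroup.mem_inf.2 ⟨mem_subgroupOf.1 h1, mem_centralizer_iff.2 fun s hs => ?_⟩
    have h3 := mem_centralizer_iff.1 h2 ⟨s, hSN hs⟩ (by
      rw [SetLike.mem_coe, hU]
      exact mem_subgroupOf.2 hs)
    exact congrArg Subtype.val h3
  refine ⟨(S : Subgroup G) ⊓ centralizer (N : Set G), K.map N.subtype, ?_, ?_, ?_, ?_⟩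
  · intro x
    constructor
    · rintro ⟨hx1, hx2⟩
      refine ⟨hx1, fun g hg => ?_⟩
      refine Cfsg.Agent.Lib.PLocal.WeakClosure.weakly_closed S x hx1 (fun m hm => ?_) (Or.inl hp) g hg
      exact mem_centralizer_iff.1 hx2 m hm
    · rintro ⟨hx1, hx2⟩
      refine Subgroup.mem_inf.2 ⟨hx1, mem_centralizer_iff.2 fun m hm => ?_⟩
      have hc := comm_of_weaklyClosed S hx2 hx1
      have hxZ := hcentral x hx1 hc
      have h1 : m * x * m⁻¹ ∈ (S : Subgroup G) :=
        hJS ((mem_normalizer_iff.1 hm x).1 hxZ.1)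
      have h2 := hx2 m h1
      rwa [mul_inv_eq_iff_eq_mul] at h2
  · rintro _ ⟨k, hk, rfl⟩
    exact hKS k hk
  · rw [eq_bot_iff]
    rintro x ⟨⟨hx1, hx2⟩, ⟨k, hk, rfl⟩⟩
    have h1 : k ∈ center N := mem_center_iff.2 fun g => Subtype.ext (mem_centralizer_iff.1 hx2 g g.2)
    have h2 := hK2 k hk h1
    rw [h2]
    exact Subgroup.one_mem _
  · apply le_antisymm
    · refine sup_le ?_ ?_
      · rintro x ⟨hx1, hx2⟩
        refine Subgroup.mem_inf.2 ⟨hx1, mem_centralizer_iff.2 fun s hs => ?_⟩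
        exact mem_centralizer_iff.1 hx2 s (hSN hs)
      · rintro _ ⟨k, hk, rfl⟩
        exact hKS k hk
    · intro z hz
      have hzN : z ∈ N := hSN hz.1
      have hz' : (⟨z, hzN⟩ : N) ∈ (U : Subgroup N) ⊓ centralizer ((U : Subgroup N) : Set N) := by
        refine Subgroup.mem_inf.2 ⟨?_, mem_centralizer_iff.2 fun t ht => ?_⟩
        · rw [hU]
          exact mem_subgroupOf.2 hz.1
        · rw [SetLike.mem_coe, hU] at ht
          exact Subtype.ext (mem_centralizer_iff.1 hz.2 t (mem_subgroupOf.1 ht))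
      obtain ⟨a, ha, b, hb, e⟩ := hK3 _ hz'
      have e' : (a : G) * (b : G) = z := congrArg Subtype.val e
      rw [← e']
      refine Subgroup.mul_mem_sup ?_ ⟨b, hb, rfl⟩
      obtain ⟨ha1, ha2⟩ := ha
      refine Subgroup.mem_inf.2 ⟨hZS (mem_subgroupOf.1 ha1), mem_centralizer_iff.2 fun m hm => ?_⟩
      exact congrArg Subtype.val (mem_center_iff.1 ha2 ⟨m, hm⟩)

/-- **The `p`-constrained case.** -/
theorem main_constrained (hc : IsPConstrained p G) (S : Sylow p G) :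
    ∃ W K : Subgroup G, (∀ x : G, x ∈ W ↔ (x ∈ (S : Subgroup G) ∧
        ∀ g : G, g * x * g⁻¹ ∈ (S : Subgroup G) → g * x * g⁻¹ = x)) ∧
      K ≤ ((S : Subgroup G) ⊓ centralizer ((S : Subgroup G) : Set G)) ∧ W ⊓ K = ⊥ ∧
      W ⊔ K = ((S : Subgroup G) ⊓ centralizer ((S : Subgroup G) : Set G)) := by
  classical
  set Kp : Subgroup G := pPrimeCore p G with hKp
  let f : G →* G ⧸ Kp := QuotientGroup.mk' Kp
  have hf : Function.Surjective f := QuotientGroup.mk'_surjective Kp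
  let S' : Sylow p (G ⧸ Kp) := S.mapSurjective hf
  have hS' : (S' : Subgroup (G ⧸ Kp)) = (S : Subgroup G).map f := Sylow.coe_mapSurjective _ _
  have hC : centralizer (pCore p (G ⧸ Kp) : Set (G ⧸ Kp)) ≤ pCore p (G ⧸ Kp) :=
    Cfsg.Agent.Lib.Core.Constrained.isPConstrained_iff.1 hc
  set Q : Subgroup (G ⧸ Kp) := pCore p (G ⧸ Kp) with hQ
  haveI hQn : Q.Normal := pCore_normal p _
  have hQS : Q ≤ (S' : Subgroup (G ⧸ Kp)) := pCore_le_sylow S'
  haveI hCn : (centralizer (Q : Set (G ⧸ Kp))).Normal := normal_centralizer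
  let M : Subgroup (G ⧸ Kp) := Q ⊓ centralizer (Q : Set (G ⧸ Kp))
  haveI hMn : M.Normal := Subgroup.normal_inf_normal _ _
  have hMp : IsPGroup p M := pCore_isPGroup.to_le inf_le_left
  obtain ⟨K, hK1, hK2, hK3⟩ := exists_complement_of_normal S' M hMp
    (fun a ha b hb => (mem_centralizer_iff.1 hb.2 a ha.1)) (by
      rintro z ⟨hz1, hz2⟩
      have hz3 : z ∈ centralizer (Q : Set (G ⧸ Kp)) := mem_centralizer_iff.2 fun t ht =>
        mem_centralizer_iff.1 hz2 t (hQS ht)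
      exact Subgroup.mem_inf.2 ⟨hC hz3, hz3⟩)
  have hbot : (S : Subgroup G) ⊓ Kp = ⊥ :=
    inf_eq_bot_of_isPGroup_of_coprime S.isPGroup' pPrimeCore_coprime
  have hinj : ∀ x y, x ∈ (S : Subgroup G) → y ∈ (S : Subgroup G) → f x = f y → x = y := by
    intro x y hx hy h
    have h1 : x⁻¹ * y ∈ Kp := QuotientGroup.eq.1 h
    have h2 : x⁻¹ * y ∈ (S : Subgroup G) ⊓ Kp :=
      Subgroup.mem_inf.2 ⟨mul_mem (inv_mem hx) hy, h1⟩
    rw [hbot, mem_bot] at h2
    exact (inv_mul_eq_one.1 h2)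
  have hfS : ∀ x ∈ (S : Subgroup G), f x ∈ (S' : Subgroup (G ⧸ Kp)) := by
    intro x hx
    rw [hS']
    exact ⟨x, hx, rfl⟩
  have hcommf : ∀ x ∈ (S : Subgroup G), (∀ s ∈ (S : Subgroup G), f s * f x = f x * f s) →
      x ∈ (S : Subgroup G) ⊓ centralizer ((S : Subgroup G) : Set G) := by
    intro x hx h
    refine Subgroup.mem_inf.2 ⟨hx, mem_centralizer_iff.2 fun s hs => ?_⟩
    apply hinj _ _ (mul_mem hs hx) (mul_mem hx hs)
    rw [map_mul, map_mul]
    exact h s hs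
  have hcent' : ∀ x ∈ (S : Subgroup G), (∀ s ∈ (S : Subgroup G), s * x = x * s) →
      f x ∈ (S' : Subgroup (G ⧸ Kp)) ⊓ centralizer ((S' : Subgroup (G ⧸ Kp)) : Set (G ⧸ Kp)) := by
    intro x hx h
    refine Subgroup.mem_inf.2 ⟨hfS x hx, mem_centralizer_iff.2 fun t ht => ?_⟩
    rw [SetLike.mem_coe, hS'] at ht
    obtain ⟨s, hs, rfl⟩ := ht
    rw [← map_mul, ← map_mul, h s hs]
  refine ⟨(S : Subgroup G) ⊓ (M ⊓ center (G ⧸ Kp)).comap f, (S : Subgroup G) ⊓ K.comap f, ?_, ?_, ?_, ?_⟩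
  · intro x
    constructor
    · rintro ⟨hx1, hx2⟩
      refine ⟨hx1, fun g hg => ?_⟩
      apply hinj _ _ hg hx1
      have h1 := mem_center_iff.1 hx2.2 (f g)
      rw [map_mul, map_mul, map_inv, h1]
      group
    · rintro ⟨hx1, hx2⟩
      have hc := comm_of_weaklyClosed S hx2 hx1
      have h1 := hcent' x hx1 hc
      have hxM : f x ∈ M := by
        refine Subgroup.mem_inf.2 ⟨hC ?_, ?_⟩
        · exact mem_centralizer_iff.2 fun t ht => mem_centralizer_iff.1 h1.2 t (hQS ht)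
        · exact mem_centralizer_iff.2 fun t ht => mem_centralizer_iff.1 h1.2 t (hQS ht)
      refine Subgroup.mem_inf.2 ⟨hx1, Subgroup.mem_inf.2 ⟨hxM, mem_center_iff.2 fun g' => ?_⟩⟩
      obtain ⟨g, rfl⟩ := hf g'
      -- the conjugate of `x` by `g`
      set y : G := g * x * g⁻¹ with hy
      have hfy : f y ∈ Q := by
        rw [hy, map_mul, map_mul, map_inv]
        exact hQn.conj_mem _ hxM.1 _
      let T : Subgroup G := ((S : Subgroup G).map f).comap f
      have hST : (S : Subgroup G) ≤ T := fun s hs => ⟨s, hs, rfl⟩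
      have hyT : y ∈ T := by
        have := hQS hfy
        rw [hS'] at this
        exact this
      have hxp : IsPGroup p (zpowers y) := by
        have h2 : IsPGroup p (zpowers x) := S.isPGroup'.to_le ((zpowers_le).2 hx1)
        have h3 : zpowers y = (zpowers x).map (MulAut.conj g).toMonoidHom := by
          rw [MonoidHom.map_zpowers]
          rfl
        rw [h3]
        exact h2.map _
      obtain ⟨n, hn, hnc⟩ := exists_conj_into S T
        (Cfsg.Agent.Lib.PLocal.WeakClosure.not_dvd_relIndex_of_le S hST) hxp ((zpowers_le).2 hyT)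
      have h2 : n⁻¹ * y * n ∈ (S : Subgroup G) := by
        apply hnc
        rw [mem_cj]
        have e : n * (n⁻¹ * y * n) * n⁻¹ = y := by group
        rw [e]
        exact mem_zpowers y
      have h3 := hx2 (n⁻¹ * g) (by
        have e : n⁻¹ * g * x * (n⁻¹ * g)⁻¹ = n⁻¹ * y * n := by
          rw [hy]
          group
        rw [e]
        exact h2)
      have h4 : g * x = n * x * n⁻¹ * g := by
        have e2 : g * x = n * (n⁻¹ * g * x * (n⁻¹ * g)⁻¹) * n⁻¹ * g := by group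
        rw [h3] at e2
        exact e2
      obtain ⟨s, hs, hsn⟩ := hn
      have h5 : f n * f x * (f n)⁻¹ = f x := by
        rw [← hsn, ← map_mul, hc s hs, map_mul]
        group
      rw [← map_mul, h4, map_mul, map_mul, map_mul, map_inv, h5]
  · rintro k ⟨hk1, hk2⟩
    refine hcommf k hk1 (fun s hs => ?_)
    exact mem_centralizer_iff.1 (hK1 hk2).2 (f s) (hfS s hs)
  · rw [eq_bot_iff]
    rintro x ⟨⟨hx1, hx2⟩, ⟨-, hx3⟩⟩
    have h1 := hK2 (f x) hx3 hx2.2
    have h2 := hinj x 1 hx1 (one_mem _) (by rw [h1, map_one])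
    exact h2
  · apply le_antisymm
    · refine sup_le ?_ ?_
      · rintro x ⟨hx1, hx2⟩
        refine hcommf x hx1 (fun s _ => ?_)
        exact mem_center_iff.1 hx2.2 (f s)
      · rintro k ⟨hk1, hk2⟩
        refine hcommf k hk1 (fun s hs => ?_)
        exact mem_centralizer_iff.1 (hK1 hk2).2 (f s) (hfS s hs)
    · intro z hz
      obtain ⟨a, ha, b, hb, e⟩ := hK3 (f z) (hcent' z hz.1 (fun s hs =>
        mem_centralizer_iff.1 hz.2 s hs))
      have ha1 : a ∈ (S' : Subgroup (G ⧸ Kp)) := hQS ha.1.1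
      have hb1 : b ∈ (S' : Subgroup (G ⧸ Kp)) := (hK1 hb).1
      rw [hS'] at ha1 hb1
      obtain ⟨s₁, hs₁, rfl⟩ := ha1
      obtain ⟨s₂, hs₂, rfl⟩ := hb1
      have e2 : s₁ * s₂ = z := hinj _ _ (mul_mem hs₁ hs₂) hz.1 (by rw [map_mul, e])
      rw [← e2]
      exact Subgroup.mul_mem_sup (Subgroup.mem_inf.2 ⟨hs₁, ha⟩) (Subgroup.mem_inf.2 ⟨hs₂, hb⟩)

end Main

end Cfsg.Agent.Lib.PLocal.WeakFactor
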